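import Mathlib
import Groth.Agent.ComodLib.LinRed
import Groth.Agent.GLinFinLib.Algebra
import Groth.Agent.UnipHopfLib.Alg
import Groth.Prelude.Def_GLin

/-! # Right coideal subalgebras with surjective spectrum map

A closed orbit is the spectrum of a right coideal subalgebra `C ⊆ H` with `Spec H → Spec C` surjective.  Such a
subalgebra has no proper stable ideal and is determined by the ideal of the stabiliser. -/

set_option autoImplicit false
set_option maxHeartbeats 1000000
set_option synthInstance.maxHeartbeats 400000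

noncomputable section

open TensorProduct HopfRep WithConv
open scoped ComodLib

namespace LunaLib

universe u v w

variable {k : Type u} [Field k] {H : Type v} [CommRing H] [HopfAlgebra k H]

local notation "𝔸" => ComodLib.Dual' k H
local notation "Δ'" => CoalgebraStruct.comul (R := k) (A := H)
local notation "ε'" => CoalgebraStruct.counit (R := k) (A := H)
local notation "Sᵢ" => HopfAlgebra.antipodeAlgHom k H

/-- A subalgebra stable under right translations. -/
def Stable (C : Subalgebra k H) : Prop := ∀ f : 𝔸, ∀ c ∈ C, f • c ∈ C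

/-- The ideal of the stabiliser of the base point. -/
def augIdeal (C : Subalgebra k H) : Ideal H := Ideal.span {c | c ∈ C ∧ ε' c = 0}

section orbit

variable {B : Type w} [CommRing B] [Algebra k B] [Comod k H B] [GLin.IsCoactAlg k H B]

theorem orbitHom_eq_coeff (x : B →ₐ[k] k) (b : B) :
    GLin.orbitHom k H x b = ComodLib.coeff (A := H) x.toLinearMap b := by
  simp only [GLin.orbitHom, AlgHom.comp_apply, GLin.coactAlgHom_apply, ComodLib.coeff_apply]
  generalize Comod.coact (k := k) (A := H) b = z
  induction z with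
  | zero => simp
  | tmul p q => simp
  | add p q hp hq => simp only [map_add, hp, hq]

theorem stable_range (x : B →ₐ[k] k) : Stable (GLin.orbitHom k H x).range := by
  rintro f _ ⟨b, rfl⟩
  refine ⟨f • b, ?_⟩
  show GLin.orbitHom k H x (f • b) = f • GLin.orbitHom k H x b
  rw [orbitHom_eq_coeff, orbitHom_eq_coeff, map_smul]

theorem counit_orbitHom (x : B →ₐ[k] k) (b : B) : ε' (GLin.orbitHom k H x b) = x b := by
  rw [orbitHom_eq_coeff, ComodLib.counit_coeff]; rfl

theorem stabIdeal_eq (x : B →ₐ[k] k) :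
    GLin.stabIdeal k H x = augIdeal (GLin.orbitHom k H x).range := by
  unfold GLin.stabIdeal augIdeal Ideal.map
  congr 1
  ext c
  constructor
  · rintro ⟨b, hb, rfl⟩
    exact ⟨⟨b, rfl⟩, (counit_orbitHom x b).trans hb⟩
  · rintro ⟨⟨b, rfl⟩, hc⟩
    exact ⟨b, (counit_orbitHom x b).symm.trans hc, rfl⟩

theorem surjective_of_isClosedOrbit (x : B →ₐ[k] k) (hx : GLin.IsClosedOrbit k H x) :
    Function.Surjective (PrimeSpectrum.comap (algebraMap ↥(GLin.orbitHom k H x).range H)) := by
  let φ := GLin.orbitHom k H x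
  have hrr : Function.Surjective φ.rangeRestrict.toRingHom := AlgHom.rangeRestrict_surjective φ
  have hi := PrimeSpectrum.isClosedEmbedding_comap_of_surjective _ _ hrr
  have hr : Set.range (PrimeSpectrum.comap φ.toRingHom) =
      PrimeSpectrum.comap φ.rangeRestrict.toRingHom '' Set.range (PrimeSpectrum.comap (algebraMap φ.range H)) := by
    rw [show φ.toRingHom = (algebraMap φ.range H).comp φ.rangeRestrict.toRingHom from rfl,
      PrimeSpectrum.comap_comp, ← Set.range_comp]
  have hcl : IsClosed (Set.range (PrimeSpectrum.comap (algebraMap φ.range H))) := by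
    rw [← hi.injective.preimage_image (Set.range _), ← hr]
    exact hx.preimage hi.continuous
  have hd : DenseRange (PrimeSpectrum.comap (algebraMap φ.range H)) := by
    refine (PrimeSpectrum.denseRange_comap_iff_ker_le_nilRadical _).2 ?_
    rw [(RingHom.injective_iff_ker_eq_bot _).1 (show Function.Injective (algebraMap φ.range H) from
      Subtype.val_injective)]
    exact bot_le
  intro p
  have : p ∈ closure (Set.range (PrimeSpectrum.comap (algebraMap φ.range H))) := hd p
  rwa [hcl.closure_eq] at this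

theorem isClosedOrbit_of_surjective (x : B →ₐ[k] k)
    (hs : Function.Surjective (PrimeSpectrum.comap (algebraMap ↥(GLin.orbitHom k H x).range H))) :
    GLin.IsClosedOrbit k H x := by
  let φ := GLin.orbitHom k H x
  have hrr : Function.Surjective φ.rangeRestrict.toRingHom := AlgHom.rangeRestrict_surjective φ
  show IsClosed (Set.range (PrimeSpectrum.comap φ.toRingHom))
  rw [show φ.toRingHom = (algebraMap φ.range H).comp φ.rangeRestrict.toRingHom from rfl,
    PrimeSpectrum.comap_comp]
  rw [show Set.range (PrimeSpectrum.comap φ.rangeRestrict.toRingHom ∘ PrimeSpectrum.comap (algebraMap φ.range H)) =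
    Set.range (PrimeSpectrum.comap φ.rangeRestrict.toRingHom) from hs.range_comp _]
  exact (PrimeSpectrum.isClosedEmbedding_comap_of_surjective _ _ hrr).isClosed_range

end orbit

theorem counit_smul (f : 𝔸) (c : H) : ε' (f • c) = f.ofConv c := by
  show ε' (ComodLib.slice f.ofConv (Δ' c)) = _
  rw [ComodLib.apply_slice]
  show f.ofConv (TensorProduct.lid k H ((ε').rTensor H (Δ' c))) = _
  rw [Coalgebra.rTensor_counit_comul]
  simp

theorem comul_mem {C : Subalgebra k H} (hC : Stable C) {c : H} (hc : c ∈ C) :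
    Δ' c ∈ LinearMap.range ((Subalgebra.toSubmodule C).subtype.rTensor H) :=
  (ComodLib.isSubcomod_iff _).2 (fun f v hv => hC f v hv) c hc

/-- A nonzero stable ideal of a surjective coideal subalgebra is the unit ideal. -/
theorem one_mem_stable_ideal {C : Subalgebra k H}
    (hs : Function.Surjective (PrimeSpectrum.comap (algebraMap C H))) (𝔞 : Submodule k H) (hle : ∀ a ∈ 𝔞, a ∈ C)
    (hmul : ∀ c ∈ C, ∀ a ∈ 𝔞, c * a ∈ 𝔞) (hst : ∀ f : 𝔸, ∀ a ∈ 𝔞, f • a ∈ 𝔞) (hne : 𝔞 ≠ ⊥) :
    (1 : H) ∈ 𝔞 := by
  by_contra h1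
  let J : Ideal C :=
    { carrier := {c | (c : H) ∈ 𝔞}
      add_mem' := fun {a b} ha hb => 𝔞.add_mem ha hb
      zero_mem' := 𝔞.zero_mem
      smul_mem' := fun c a ha => hmul c c.2 a ha }
  obtain ⟨M, hM, hJM⟩ := Ideal.exists_le_maximal J
    (fun h => h1 ((Ideal.eq_top_iff_one J).1 h))
  obtain ⟨q, hq⟩ := hs ⟨M, hM.isPrime⟩
  have hq' : ∀ a ∈ 𝔞, a ∈ q.asIdeal := fun a ha => by
    have h : (⟨a, hle a ha⟩ : C) ∈ (PrimeSpectrum.comap (algebraMap C H) q).asIdeal := by
      rw [hq]
      exact hJM ha
    exact h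
  have hz : ∀ a ∈ 𝔞, ε' a = 0 := by
    intro a ha
    by_contra hne0
    have hmem : algebraMap k H (ε' a) ∈ q.asIdeal := by
      have e : LinearMap.mul' k H ((HopfAlgebra.antipode k).lTensor H (Δ' a)) = algebraMap k H (ε' a) :=
        HopfAlgebra.mul_antipode_lTensor_comul_apply a
      rw [← e]
      obtain ⟨z, hz⟩ := (ComodLib.isSubcomod_iff 𝔞).2 hst a ha
      rw [show Δ' a = 𝔞.subtype.rTensor H z from hz.symm]
      clear hz e
      induction z using TensorProduct.induction_on with
      | zero => simp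
      | add p q hp hq => simp only [map_add]; exact add_mem hp hq
      | tmul p r =>
        simp only [LinearMap.rTensor_tmul, LinearMap.lTensor_tmul, LinearMap.mul'_apply]
        exact Ideal.mul_mem_right _ _ (hq' p p.2)
    exact q.isPrime.ne_top (Ideal.eq_top_of_isUnit_mem _ hmem ((Ne.isUnit hne0).map (algebraMap k H)))
  apply hne
  rw [eq_bot_iff]
  intro a ha
  rw [Submodule.mem_bot]
  refine (Module.forall_dual_apply_eq_zero_iff k a).1 fun f => ?_
  rw [← show ε' ((toConv f : 𝔸) • a) = f a from counit_smul (toConv f) a]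
  exact hz _ (hst _ a ha)

/-- A finitely generated module of a coideal subalgebra has a linear functional not vanishing at the base point. -/
theorem exists_functional {C : Subalgebra k H} (hC : Stable C) (t : Finset H) :
    ∃ u ∈ C, ε' u = 1 ∧ ∃ l : H →ₗ[k] H,
      (∀ p ∈ C, ∀ x ∈ t, l (p * x) = p * l x) ∧ (∀ x ∈ t, l x ∈ C) ∧ l 1 = u := by
  classical
  obtain ⟨r, v, m, hspan, hv, hmul, hone⟩ :=
    GLinFinLib.exists_closed_family (k := k) (H := H) (insert (1 : H) t)
  obtain ⟨e0, he0⟩ := (Submodule.mem_span_range_iff_exists_fun k).1 (hspan 1 (Finset.mem_insert_self _ _))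
  let Lv : (Fin r → C) →ₗ[C] H := Fintype.linearCombination C v
  have hLv : ∀ c : Fin r → C, Lv c = ∑ i, (c i : H) * v i := fun c => by
    simp only [Lv, Fintype.linearCombination_apply]
    rfl
  let K : Submodule C (Fin r → C) := LinearMap.ker Lv
  let εC : C →ₐ[k] k := (Bialgebra.counitAlgHom k H).comp C.val
  let εl : (Fin r → C) →ₗ[k] (Fin r → k) := LinearMap.pi fun i => εC.toLinearMap ∘ₗ LinearMap.proj i
  have hεl : ∀ c i, εl c i = ε' (c i : H) := fun c i => rfl
  let Kε : Submodule k (Fin r → k) := (K.restrictScalars k).map εl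
  let d := Module.finrank k Kε
  let bK := Module.finBasis k Kε
  have hka : ∀ a : Fin d, ∃ c ∈ K, εl c = (bK a : Fin r → k) := fun a => by
    obtain ⟨c, hc, h⟩ := (bK a).2
    exact ⟨c, hc, h⟩
  choose ka hkaK hkaε using hka
  let ev : Fin r → k := fun i => ε' (v i)
  have hev : ∀ w ∈ Kε, ∑ i, w i * ev i = 0 := by
    rintro _ ⟨c, hc, rfl⟩
    have h : Lv c = 0 := hc
    rw [hLv] at h
    have h' := congrArg (Bialgebra.counitAlgHom k H) h
    simpa [map_sum, map_mul, hεl, ev] using h'
  have hev0 : ∑ i, e0 i * ev i = 1 := by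
    have h := congrArg (Bialgebra.counitAlgHom k H) he0
    simpa [map_sum, map_smul, ev] using h
  let J : (Fin d → k) × k →ₗ[k] (Fin r → k) :=
    (Fintype.linearCombination k fun a => (bK a : Fin r → k)).coprod (LinearMap.toSpanSingleton k _ e0)
  have hJ : LinearMap.ker J = ⊥ := by
    rw [eq_bot_iff]
    rintro ⟨s, c⟩ h
    have h' : (∑ a, s a • (bK a : Fin r → k)) + c • e0 = 0 := h
    have hc : c = 0 := by
      have h2 := congrArg (fun w : Fin r → k => ∑ i, w i * ev i) h'
      have hs : ∑ i, (∑ a, s a • (bK a : Fin r → k)) i * ev i = 0 :=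
        hev _ (Kε.sum_mem fun a _ => Kε.smul_mem _ (bK a).2)
      simp only [Pi.add_apply, add_mul, Finset.sum_add_distrib, hs, zero_add, Pi.smul_apply, smul_eq_mul,
        mul_assoc, ← Finset.mul_sum, hev0, mul_one, Pi.zero_apply, zero_mul, Finset.sum_const_zero] at h2
      exact h2
    subst hc
    rw [zero_smul, add_zero] at h'
    have h3 : ∑ a, s a • bK a = 0 := Subtype.ext (by simpa using h')
    have hs0 : s = 0 := funext (Fintype.linearIndependent_iff.1 bK.linearIndependent s h3)
    simp [hs0]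
  obtain ⟨π, hπ⟩ := LinearMap.exists_leftInverse_of_injective J hJ
  let L : (Fin r → k) →ₗ[k] (Fin d → k) := LinearMap.fst k _ _ ∘ₗ π
  have hLK : ∀ a, L (bK a : Fin r → k) = Pi.single a 1 := fun a => by
    have h := LinearMap.congr_fun hπ (Pi.single a 1, 0)
    have e : J (Pi.single a 1, 0) = (bK a : Fin r → k) := by
      simp [J, Fintype.linearCombination_apply_single]
    rw [LinearMap.comp_apply, e] at h
    exact congrArg Prod.fst h
  have hLe : L e0 = 0 := by
    have h := LinearMap.congr_fun hπ (0, 1)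
    have e : J (0, 1) = e0 := by simp [J]
    rw [LinearMap.comp_apply, e] at h
    exact congrArg Prod.fst h
  -- matrices
  let Lk : Matrix (Fin d) (Fin r) k := LinearMap.toMatrix' L
  have hLk : ∀ w, Lk.mulVec w = L w := fun w => LinearMap.toMatrix'_mulVec L w
  let Ek : Matrix (Fin r) (Fin d) k := Matrix.of fun i a => (bK a : Fin r → k) i
  let LH : Matrix (Fin d) (Fin r) H := Lk.map (algebraMap k H)
  let LC : Matrix (Fin d) (Fin r) C := Lk.map (algebraMap k C)
  let EH : Matrix (Fin r) (Fin d) H := Ek.map (algebraMap k H)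
  let mM : Matrix (Fin r) (Fin r) H := Matrix.of m
  let nM : Matrix (Fin r) (Fin r) H := Matrix.of fun i j => HopfAlgebra.antipode k (m i j)
  let KC : Matrix (Fin r) (Fin d) C := Matrix.of fun i a => ka a i
  have hnm : nM * mM = 1 := by
    refine Matrix.ext fun i j => ?_
    have h := HopfAlgebra.mul_antipode_rTensor_comul_apply (R := k) (m i j)
    rw [hmul] at h
    simp only [map_sum, LinearMap.rTensor_tmul, LinearMap.mul'_apply, hone] at h
    rw [Matrix.mul_apply]
    simp only [nM, mM, Matrix.of_apply, h, Matrix.one_apply]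
    split_ifs <;> simp
  let toH : (Fin r → C) → (Fin r → H) := fun c i => (c i : H)
  have hfac : ∀ c ∈ K, toH c = (nM * EH).mulVec (LH.mulVec (mM.mulVec (toH c))) := by
    intro c hc
    let y := mM.mulVec (toH c)
    have hy : y = EH.mulVec (LH.mulVec y) := by
      rw [Matrix.mulVec_mulVec]
      refine funext fun j => ?_
      -- functional killing the reduction of the relations
      let l : (Fin r → k) →ₗ[k] k := LinearMap.proj j - LinearMap.proj j ∘ₗ Matrix.mulVecLin (Ek * Lk)
      have hl : ∀ w ∈ Kε, l w = 0 := by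
        intro w hw
        have e : (⟨w, hw⟩ : Kε) = ∑ a, bK.repr ⟨w, hw⟩ a • bK a := (bK.sum_repr _).symm
        have e' : w = ∑ a, bK.repr ⟨w, hw⟩ a • (bK a : Fin r → k) := by
          have h0 := congrArg Kε.subtype e
          rw [map_sum] at h0
          exact h0
        rw [e', map_sum]
        refine Finset.sum_eq_zero fun a _ => ?_
        rw [map_smul]
        have : l (bK a : Fin r → k) = 0 := by
          simp [l, ← Matrix.mulVec_mulVec, hLk, hLK, Ek]
        rw [this, smul_zero]
      have key : ∑ i, algebraMap k H (l (Pi.single i 1)) * y i = 0 := by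
        refine (Module.forall_dual_apply_eq_zero_iff k _).1 fun f => ?_
        let d' : Fin r → C := fun p =>
          ⟨∑ i, (toConv (f ∘ₗ LinearMap.mulRight k (m p i)) : 𝔸) • (c i : H),
            C.sum_mem fun i _ => hC _ _ (c i).2⟩
        have hεd : ∀ p, εl d' p = f (y p) := fun p => by
          rw [hεl]
          simp only [d', map_sum, counit_smul, y, toH, Matrix.mulVec, dotProduct, mM, Matrix.of_apply,
            ofConv_toConv, LinearMap.comp_apply, LinearMap.mulRight_apply]
          exact Finset.sum_congr rfl fun i _ => by rw [mul_comm]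
        have hd' : d' ∈ K := by
          show Lv d' = 0
          have h0 : Lv c = 0 := hc
          rw [hLv] at h0 ⊢
          have h1 := congrArg (fun z => ComodLib.slice f (Δ' z)) h0
          simp only [map_zero, map_sum, Bialgebra.comul_mul, show ∀ i, Δ' (v i) = ∑ p, v p ⊗ₜ[k] m p i from hv,
            Finset.mul_sum] at h1
          rw [Finset.sum_comm] at h1
          refine Eq.trans ?_ h1
          refine Finset.sum_congr rfl fun p _ => ?_
          simp only [d', Finset.sum_mul]
          refine Finset.sum_congr rfl fun i _ => ?_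
          rw [ComodLib.smul_eq, ofConv_toConv]
          show ComodLib.slice _ (Δ' (c i : H)) * v p = _
          generalize Δ' (c i : H) = z
          induction z using TensorProduct.induction_on with
          | zero => simp
          | add p q hp hq => simp only [add_mul, map_add, hp, hq]
          | tmul p q => simp [Algebra.TensorProduct.tmul_mul_tmul, mul_comm]
        have h2 : l (εl d') = 0 := hl _ ⟨d', hd', rfl⟩
        rw [show εl d' = ∑ i, f (y i) • (Pi.single i 1 : Fin r → k) from by
          refine funext fun p => ?_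
          simp [hεd, Finset.sum_apply, Pi.single_apply], map_sum] at h2
        rw [map_sum, ← h2]
        refine Finset.sum_congr rfl fun i _ => ?_
        rw [map_smul, ← Algebra.smul_def, map_smul, smul_eq_mul, smul_eq_mul, mul_comm]
      have e2 : ∀ i, l (Pi.single i 1) = (1 : Matrix (Fin r) (Fin r) k) j i - (Ek * Lk) j i := fun i => by
        simp [l, Matrix.one_apply, Pi.single_apply, Matrix.mulVec_single_one, Matrix.mul_apply, Matrix.mulVec, dotProduct]
      simp only [e2, map_sub, sub_mul, Finset.sum_sub_distrib, sub_eq_zero] at key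
      have e3 : ∑ i, algebraMap k H ((1 : Matrix (Fin r) (Fin r) k) j i) * y i = y j := by
        simp [Matrix.one_apply]
      rw [e3] at key
      refine key.trans ?_
      rw [show EH * LH = (Ek * Lk).map (algebraMap k H) from (Matrix.map_mul).symm]
      rfl
    calc toH c = (nM * mM).mulVec (toH c) := by rw [hnm, Matrix.one_mulVec]
      _ = nM.mulVec y := (Matrix.mulVec_mulVec _ _ _).symm
      _ = nM.mulVec (EH.mulVec (LH.mulVec y)) := by rw [← hy]
      _ = _ := by rw [Matrix.mulVec_mulVec]
  -- the minor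
  let δ : C := (LC * KC).det
  let Km : Matrix (Fin r) (Fin d) H := KC.map C.val
  have hKm : Km = nM * EH * (LH * (mM * Km)) := by
    refine Matrix.ext fun i a => ?_
    have h := congrFun (hfac _ (hkaK a)) i
    rw [Matrix.mulVec_mulVec, Matrix.mulVec_mulVec] at h
    refine h.trans ?_
    rw [← Matrix.mul_assoc LH mM Km, ← Matrix.mul_assoc, Matrix.mul_assoc (nM * EH) LH mM]
    rfl
  have hmapC : ∀ q : ℕ, ∀ (N : Matrix (Fin r) (Fin q) C), (LC * N).map C.val = LH * N.map C.val := fun q N => by
    rw [Matrix.map_mul]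
    congr 1
  have hδε : εC δ = 1 := by
    rw [AlgHom.map_det]
    have e : εC.mapMatrix (LC * KC) = 1 := by
      refine Matrix.ext fun a b => ?_
      simp only [AlgHom.mapMatrix_apply, Matrix.map_apply, Matrix.mul_apply, LC, KC, map_sum, map_mul,
        AlgHom.commutes, Algebra.algebraMap_self_apply, Matrix.of_apply]
      have h := congrFun (congrArg L (hkaε b)) a
      rw [← hLk, hLK] at h
      simpa [Matrix.mulVec, dotProduct, hεl, εC, Matrix.one_apply, Pi.single_apply] using h
    rw [e, Matrix.det_one]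
  let N : (Fin r → C) →ₗ[C] (Fin r → C) := Matrix.mulVecLin (KC * (LC * KC).adjugate * LC)
  let T : (Fin r → C) →ₗ[C] (Fin r → C) := δ • LinearMap.id - N
  let ι : (Fin r → C) →ₗ[C] C := Fintype.linearCombination C fun i => algebraMap k C (ev i)
  let Lam : (Fin r → C) →ₗ[C] C := ι ∘ₗ (δ • T)
  have hTK : ∀ c ∈ K, δ • T c = 0 := by
    intro c hc
    let b := T c
    have hb : b ∈ K := by
      refine K.sub_mem (K.smul_mem δ hc) ?_
      show (KC * (LC * KC).adjugate * LC).mulVec c ∈ K
      rw [← Matrix.mulVec_mulVec, ← Matrix.mulVec_mulVec, show ∀ z, KC.mulVec z = ∑ a, z a • ka a from fun z => by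
        refine funext fun i => ?_
        simp [Matrix.mulVec, dotProduct, KC, Finset.sum_apply, mul_comm]]
      exact K.sum_mem fun a _ => K.smul_mem _ (hkaK a)
    have hLb : LC.mulVec b = 0 := by
      show LC.mulVec (δ • c - (KC * (LC * KC).adjugate * LC).mulVec c) = 0
      rw [Matrix.mulVec_sub, Matrix.mulVec_smul, Matrix.mulVec_mulVec,
        show LC * (KC * (LC * KC).adjugate * LC) = ((LC * KC) * (LC * KC).adjugate) * LC by
          simp only [Matrix.mul_assoc],
        Matrix.mul_adjugate, Matrix.smul_mul, Matrix.one_mul, Matrix.smul_mulVec, sub_self]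
    let s := LH.mulVec (mM.mulVec (toH b))
    have hb' : toH b = (nM * EH).mulVec s := hfac b hb
    have hLbH : LH.mulVec (toH b) = 0 := by
      refine funext fun a => ?_
      have h := congrArg Subtype.val (congrFun hLb a)
      simpa [Matrix.mulVec, dotProduct, LH, LC, toH] using h
    have hs : (LH * (nM * EH)).det • s = 0 := by
      rw [← Matrix.one_mulVec s, ← Matrix.smul_mulVec, ← Matrix.adjugate_mul, ← Matrix.mulVec_mulVec,
        ← Matrix.mulVec_mulVec, ← hb', hLbH, Matrix.mulVec_zero]
    have hδH : (δ : H) = (LH * (nM * EH)).det * (LH * (mM * Km)).det := by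
      rw [← Matrix.det_mul, Matrix.mul_assoc LH (nM * EH), ← hKm, ← hmapC]
      exact C.val.map_det (LC * KC)
    refine funext fun i => Subtype.ext ?_
    show (δ : H) * (b i : H) = 0
    have h2 : (δ : H) • toH b = 0 := by
      rw [hb', ← Matrix.mulVec_smul, hδH, mul_comm, ← smul_smul, hs, smul_zero, Matrix.mulVec_zero]
    exact congrFun h2 i
  let ce : Fin r → C := fun i => algebraMap k C (e0 i)
  have hce : Lv ce = 1 := by
    rw [hLv, ← he0]
    exact Finset.sum_congr rfl fun i _ => (Algebra.smul_def _ _).symm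
  have hLce : LC.mulVec ce = 0 := by
    refine funext fun a => ?_
    have h := congrFun ((hLk e0).trans hLe) a
    simp only [Matrix.mulVec, dotProduct, Pi.zero_apply] at h
    simp only [Matrix.mulVec, dotProduct, LC, ce, Matrix.map_apply, ← map_mul, ← map_sum, h, map_zero,
      Pi.zero_apply]
  have hLame : Lam ce = δ * δ := by
    have hT : T ce = δ • ce := by
      show δ • ce - (KC * (LC * KC).adjugate * LC).mulVec ce = δ • ce
      rw [← Matrix.mulVec_mulVec, hLce, Matrix.mulVec_zero, sub_zero]
    show ι (δ • T ce) = δ * δ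
    rw [hT, smul_smul, map_smul, smul_eq_mul]
    have e : ι ce = 1 := by
      simp only [ι, Fintype.linearCombination_apply, ce, smul_eq_mul, ← map_mul, ← map_sum, hev0, map_one]
    rw [e, mul_one]
  have hker : LinearMap.ker Lv ≤ LinearMap.ker Lam := fun c hc => by
    show ι (δ • T c) = 0
    rw [hTK c hc, map_zero]
  let l₀ : LinearMap.range Lv →ₗ[C] C :=
    (LinearMap.ker Lv).liftQ Lam hker ∘ₗ (LinearMap.quotKerEquivRange Lv).symm.toLinearMap
  have hl₀ : ∀ c, l₀ ⟨Lv c, c, rfl⟩ = Lam c := fun c => by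
    show (LinearMap.ker Lv).liftQ Lam hker ((LinearMap.quotKerEquivRange Lv).symm ⟨Lv c, _⟩) = _
    rw [show (⟨Lv c, c, rfl⟩ : LinearMap.range Lv) = LinearMap.quotKerEquivRange Lv (Submodule.Quotient.mk c) from
      Subtype.ext rfl, LinearEquiv.symm_apply_apply, Submodule.liftQ_apply]
  let l₁ : ↥((LinearMap.range Lv).restrictScalars k) →ₗ[k] H :=
    C.val.toLinearMap ∘ₗ (l₀.restrictScalars k)
  obtain ⟨l, hl⟩ := LinearMap.exists_extend l₁
  have hl' : ∀ c, l (Lv c) = (Lam c : H) := fun c => by
    have h := LinearMap.congr_fun hl ⟨Lv c, c, rfl⟩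
    refine h.trans ?_
    show ((l₀ ⟨Lv c, c, rfl⟩ : C) : H) = _
    rw [hl₀]
  have hmemt : ∀ x ∈ t, ∃ c, Lv c = x := fun x hx => by
    obtain ⟨w, hw⟩ := (Submodule.mem_span_range_iff_exists_fun k).1 (hspan x (Finset.mem_insert_of_mem hx))
    refine ⟨fun i => algebraMap k C (w i), ?_⟩
    rw [hLv, ← hw]
    exact Finset.sum_congr rfl fun i _ => (Algebra.smul_def _ _).symm
  refine ⟨(δ * δ : C), (δ * δ).2, ?_, l, fun p hp x hx => ?_, fun x hx => ?_, ?_⟩
  · show εC (δ * δ) = 1
    rw [map_mul, hδε, one_mul]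
  · obtain ⟨c, rfl⟩ := hmemt x hx
    rw [show p * Lv c = Lv ((⟨p, hp⟩ : C) • c) from (Lv.map_smul (⟨p, hp⟩ : C) c).symm, hl', hl', map_smul]
    rfl
  · obtain ⟨c, rfl⟩ := hmemt x hx
    rw [hl']
    exact (Lam c).2
  · rw [← hce, hl', hLame]

/-- The algebra map `a ⊗ b ↦ a₁ ⊗ S(a₂) b`. -/
def shear : H ⊗[k] H →ₐ[k] H ⊗[k] H :=
  Algebra.TensorProduct.lift ((Algebra.TensorProduct.map (AlgHom.id k H) Sᵢ).comp (Bialgebra.comulAlgHom k H))
    Algebra.TensorProduct.includeRight fun _ _ => Commute.all _ _

/-- The algebra map `a ⊗ b ↦ a₁ ⊗ a₂ S(b)`. -/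
def shear' : H ⊗[k] H →ₐ[k] H ⊗[k] H :=
  Algebra.TensorProduct.lift (Bialgebra.comulAlgHom k H)
    ((Algebra.TensorProduct.includeRight : H →ₐ[k] H ⊗[k] H).comp Sᵢ) fun _ _ => Commute.all _ _

theorem shear_comul (h : H) : shear (k := k) (Δ' h) = h ⊗ₜ[k] (1 : H) := by
  let G : H ⊗[k] H →ₗ[k] H ⊗[k] H := (LinearMap.mul' k H ∘ₗ (HopfAlgebra.antipode k).rTensor H).lTensor H ∘ₗ
    (TensorProduct.assoc k H H H).toLinearMap ∘ₗ (Δ').rTensor H
  have e : ∀ t, shear (k := k) t = G t := fun t => by
    induction t with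
    | zero => simp
    | add a b ha hb => simp only [map_add, ha, hb]
    | tmul a b =>
      simp only [shear, Algebra.TensorProduct.lift_tmul, AlgHom.comp_apply, Bialgebra.comulAlgHom_apply, G,
        LinearMap.comp_apply, LinearMap.rTensor_tmul, LinearEquiv.coe_coe]
      generalize Δ' a = z
      induction z with
      | zero => simp [TensorProduct.zero_tmul]
      | add p q hp hq => simp only [map_add, add_mul, TensorProduct.add_tmul, hp, hq]
      | tmul p q => simp [Algebra.TensorProduct.tmul_mul_tmul]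
  rw [e]
  simp only [G, LinearMap.comp_apply, LinearEquiv.coe_coe, Coalgebra.coassoc_apply]
  rw [← LinearMap.lTensor_comp_apply, LinearMap.comp_assoc, HopfAlgebra.mul_antipode_rTensor_comul,
    LinearMap.lTensor_comp_apply, Coalgebra.lTensor_counit_comul]
  simp

theorem shear'_comul (h : H) : shear' (k := k) (Δ' h) = h ⊗ₜ[k] (1 : H) := by
  let G : H ⊗[k] H →ₗ[k] H ⊗[k] H := (LinearMap.mul' k H ∘ₗ (HopfAlgebra.antipode k).lTensor H).lTensor H ∘ₗ
    (TensorProduct.assoc k H H H).toLinearMap ∘ₗ (Δ').rTensor H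
  have e : ∀ t, shear' (k := k) t = G t := fun t => by
    induction t with
    | zero => simp
    | add a b ha hb => simp only [map_add, ha, hb]
    | tmul a b =>
      simp only [shear', Algebra.TensorProduct.lift_tmul, AlgHom.comp_apply, Bialgebra.comulAlgHom_apply, G,
        LinearMap.comp_apply, LinearMap.rTensor_tmul, LinearEquiv.coe_coe]
      generalize Δ' a = z
      induction z with
      | zero => simp [TensorProduct.zero_tmul]
      | add p q hp hq => simp only [map_add, add_mul, TensorProduct.add_tmul, hp, hq]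
      | tmul p q => simp [Algebra.TensorProduct.tmul_mul_tmul]
  rw [e]
  simp only [G, LinearMap.comp_apply, LinearEquiv.coe_coe, Coalgebra.coassoc_apply]
  rw [← LinearMap.lTensor_comp_apply, LinearMap.comp_assoc, HopfAlgebra.mul_antipode_lTensor_comul,
    LinearMap.lTensor_comp_apply, Coalgebra.lTensor_counit_comul]
  simp

/-- Near the base point an element invariant under the stabiliser lies in the coideal subalgebra. -/
theorem exists_mul_mem {C : Subalgebra k H} (hC : Stable C) {h : H}
    (hh : Δ' h - (1 : H) ⊗ₜ[k] h ∈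
      Ideal.map (Algebra.TensorProduct.includeLeft : H →ₐ[k] H ⊗[k] H) (augIdeal C)) :
    ∃ u ∈ C, ε' u = 1 ∧ u * h ∈ C := by
  classical
  let μ : (H →ₗ[k] H) → H ⊗[k] H →ₗ[k] H := fun l => LinearMap.mul' k H ∘ₗ l.rTensor H
  let Q : Set (H ⊗[k] H) := {z | ∃ t : Finset H, ∀ l : H →ₗ[k] H,
    (∀ p ∈ C, ∀ x ∈ t, l (p * x) = p * l x) → μ l z = 0}
  have hQ0 : (0 : H ⊗[k] H) ∈ Q := ⟨∅, fun l _ => map_zero _⟩
  have hQadd : ∀ z z', z ∈ Q → z' ∈ Q → z + z' ∈ Q := by
    rintro z z' ⟨t, ht⟩ ⟨t', ht'⟩
    exact ⟨t ∪ t', fun l hl => by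
      rw [map_add, ht l fun p hp x hx => hl p hp x (Finset.mem_union_left _ hx),
        ht' l fun p hp x hx => hl p hp x (Finset.mem_union_right _ hx), add_zero]⟩
  have hQmul : ∀ w z, z ∈ Q → w * z ∈ Q := by
    intro w z hz
    induction w with
    | zero => rw [zero_mul]; exact hQ0
    | add a b ha hb => rw [add_mul]; exact hQadd _ _ ha hb
    | tmul x y =>
      obtain ⟨t, ht⟩ := hz
      refine ⟨t.image (x * ·), fun l hl => ?_⟩
      have h0 := ht (l ∘ₗ LinearMap.mulLeft k x) fun p hp s hs => by
        show l (x * (p * s)) = p * l (x * s)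
        rw [mul_left_comm]
        exact hl p hp _ (Finset.mem_image_of_mem _ hs)
      have e : μ l ((x ⊗ₜ[k] y) * z) = y * μ (l ∘ₗ LinearMap.mulLeft k x) z := by
        clear h0 ht
        induction z using TensorProduct.induction_on with
        | zero => simp
        | add a b ha hb => simp only [mul_add, map_add, ha, hb]
        | tmul a b => simp [μ, Algebra.TensorProduct.tmul_mul_tmul, mul_comm, mul_left_comm, mul_assoc]
      rw [e, h0, mul_zero]
  let I : Ideal (H ⊗[k] H) :=
    { carrier := Q, add_mem' := fun {a b} => hQadd a b, zero_mem' := hQ0, smul_mem' := hQmul }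
  have hgen : ∀ c ∈ C, ε' c = 0 → shear (k := k) (c ⊗ₜ[k] (1 : H)) ∈ I := by
    intro c hc hε
    obtain ⟨z, hz⟩ := comul_mem hC hc
    have e : shear (k := k) (c ⊗ₜ[k] (1 : H)) = (LinearMap.lTensor H (HopfAlgebra.antipode k)) (Δ' c) := by
      simp only [shear, Algebra.TensorProduct.lift_tmul, AlgHom.comp_apply, Bialgebra.comulAlgHom_apply,
        map_one, mul_one]
      generalize Δ' c = t
      induction t with
      | zero => simp
      | add p q hp hq => simp only [map_add, hp, hq]
      | tmul p q => simp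
    have e' : (1 : H) ⊗ₜ[k] LinearMap.mul' k H ((HopfAlgebra.antipode k).lTensor H (Δ' c)) = 0 := by
      rw [HopfAlgebra.mul_antipode_lTensor_comul_apply]
      show (1 : H) ⊗ₜ[k] algebraMap k H (ε' c) = 0
      rw [hε, map_zero, TensorProduct.tmul_zero]
    rw [e, ← sub_zero ((LinearMap.lTensor H (HopfAlgebra.antipode k)) (Δ' c)), ← e', ← hz]
    clear hz e e'
    induction z using TensorProduct.induction_on with
    | zero => simp
    | add p q hp hq =>
      simp only [map_add, TensorProduct.tmul_add]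
      rw [add_sub_add_comm]
      exact I.add_mem hp hq
    | tmul p q =>
      simp only [LinearMap.rTensor_tmul, LinearMap.lTensor_tmul, LinearMap.mul'_apply]
      have e2 : (p : H) ⊗ₜ[k] HopfAlgebra.antipode k q - (1 : H) ⊗ₜ[k] ((p : H) * HopfAlgebra.antipode k q) =
          ((1 : H) ⊗ₜ[k] HopfAlgebra.antipode k q) * ((p : H) ⊗ₜ[k] (1 : H) - (1 : H) ⊗ₜ[k] (p : H)) := by
        rw [mul_sub, Algebra.TensorProduct.tmul_mul_tmul, Algebra.TensorProduct.tmul_mul_tmul, one_mul, mul_one,
          one_mul, mul_comm (p : H)]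
      rw [show ((Subalgebra.toSubmodule C).subtype p : H) = (p : H) from rfl, e2]
      refine hQmul _ _ ⟨{1}, fun l hl => ?_⟩
      have := hl p p.2 1 (Finset.mem_singleton_self _)
      rw [mul_one] at this
      simp [μ, this, mul_comm]
  have hmem : shear (k := k) (Δ' h - (1 : H) ⊗ₜ[k] h) ∈ I := by
    have hle : Ideal.map (Algebra.TensorProduct.includeLeft : H →ₐ[k] H ⊗[k] H) (augIdeal C) ≤
        I.comap (shear (k := k)) := by
      rw [augIdeal, Ideal.map_span, Ideal.span_le]
      rintro _ ⟨c, ⟨hc, hε⟩, rfl⟩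
      exact hgen c hc hε
    exact hle hh
  rw [map_sub, shear_comul] at hmem
  simp only [shear, Algebra.TensorProduct.lift_tmul, map_one, one_mul,
    Algebra.TensorProduct.includeRight_apply] at hmem
  obtain ⟨t, ht⟩ := hmem
  obtain ⟨u, huC, hεu, l, hlin, hlC, hl1⟩ := exists_functional hC (insert h t)
  refine ⟨u, huC, hεu, ?_⟩
  have h0 := ht l fun p hp x hx => hlin p hp x (Finset.mem_insert_of_mem hx)
  simp only [μ, LinearMap.comp_apply, map_sub, LinearMap.rTensor_tmul, LinearMap.mul'_apply, mul_one, hl1,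
    sub_eq_zero] at h0
  rw [← h0]
  exact hlC h (Finset.mem_insert_self _ _)

theorem comul_sub_mem {C : Subalgebra k H} (hC : Stable C) {x : H} (hx : x ∈ C) :
    Δ' x - (1 : H) ⊗ₜ[k] x ∈
      Ideal.map (Algebra.TensorProduct.includeLeft : H →ₐ[k] H ⊗[k] H) (augIdeal C) := by
  obtain ⟨z, hz⟩ := comul_mem hC hx
  have e : (1 : H) ⊗ₜ[k] x = (1 : H) ⊗ₜ[k] TensorProduct.lid k H ((ε').rTensor H (Δ' x)) := by
    rw [Coalgebra.rTensor_counit_comul]; simp
  rw [e, ← hz]
  clear hz e
  induction z using TensorProduct.induction_on with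
  | zero => simp
  | add p q hp hq =>
    simp only [map_add, TensorProduct.tmul_add]
    rw [add_sub_add_comm]
    exact add_mem hp hq
  | tmul p q =>
    have e2 : (p : H) ⊗ₜ[k] q - (1 : H) ⊗ₜ[k] (ε' (p : H) • q) =
        ((1 : H) ⊗ₜ[k] q) * (((p : H) - algebraMap k H (ε' (p : H))) ⊗ₜ[k] (1 : H)) := by
      rw [Algebra.TensorProduct.tmul_mul_tmul, one_mul, mul_one, TensorProduct.sub_tmul, TensorProduct.tmul_smul,
        Algebra.algebraMap_eq_smul_one, TensorProduct.smul_tmul']
    simp only [LinearMap.rTensor_tmul, TensorProduct.lid_tmul, Submodule.coe_subtype]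
    rw [e2]
    refine Ideal.mul_mem_left _ _ (Ideal.mem_map_of_mem _ (Ideal.subset_span ⟨?_, ?_⟩))
    · exact C.sub_mem p.2 (C.algebraMap_mem _)
    · show Bialgebra.counitAlgHom k H ((p : H) - algebraMap k H (ε' (p : H))) = 0
      rw [map_sub, AlgHom.commutes]
      simp

/-- A surjective coideal subalgebra is determined by its stabiliser. -/
theorem le_of_augIdeal_le {C' C : Subalgebra k H} (hC' : Stable C') (hC : Stable C)
    (hs : Function.Surjective (PrimeSpectrum.comap (algebraMap C' H)))
    (haug : augIdeal C ≤ augIdeal C') : C ≤ C' := by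
  classical
  intro h hh
  obtain ⟨r, v, m, hspan, hv, -, -⟩ := GLinFinLib.exists_closed_family (k := k) (H := H) {h}
  let V' : Submodule 𝔸 H := Submodule.span 𝔸 {h}
  let V : Submodule k H := V'.restrictScalars k
  have hVC : ∀ x ∈ V, x ∈ C := fun x hx => by
    obtain ⟨f, rfl⟩ := Submodule.mem_span_singleton.1 hx
    exact hC f h hh
  haveI : FiniteDimensional k V := ComodLib.finite_span_singleton H h
  let b := Module.finBasis k V
  have hex : ∀ i, ∃ u ∈ C', ε' u = 1 ∧ u * (b i : H) ∈ C' := fun i =>
    exists_mul_mem hC' (Ideal.map_mono haug (comul_sub_mem hC (hVC _ (b i).2)))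
  choose u huC hεu hub using hex
  let 𝔞 : Submodule k H := Subalgebra.toSubmodule C' ⊓
    ⨅ x : V, (Subalgebra.toSubmodule C').comap (LinearMap.mulRight k (x : H))
  have h𝔞 : ∀ c, c ∈ 𝔞 ↔ c ∈ C' ∧ ∀ x : V, c * (x : H) ∈ C' := fun c => by
    simp only [𝔞, Submodule.mem_inf, Submodule.mem_iInf, Submodule.mem_comap, LinearMap.mulRight_apply,
      Subalgebra.mem_toSubmodule]
  have hst : ∀ f : 𝔸, ∀ c ∈ 𝔞, f • c ∈ 𝔞 := by
    intro f c hc
    rw [h𝔞] at hc ⊢
    refine ⟨hC' f c hc.1, fun x => ?_⟩
    obtain ⟨z, hz⟩ := (ComodLib.isSubcomod_restrictScalars (V := H) V') (x : H) x.2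
    have key : Δ' c * ((x : H) ⊗ₜ[k] (1 : H)) ∈
        LinearMap.range ((Subalgebra.toSubmodule C').subtype.rTensor H) := by
      rw [← shear'_comul (x : H), show Δ' (x : H) = (V.subtype).rTensor H z from hz.symm]
      clear hz
      induction z using TensorProduct.induction_on with
      | zero => simp
      | add p q hp hq => simp only [map_add, mul_add]; exact add_mem hp hq
      | tmul p q =>
        simp only [LinearMap.rTensor_tmul, shear', Algebra.TensorProduct.lift_tmul, AlgHom.comp_apply,
          Bialgebra.comulAlgHom_apply, Algebra.TensorProduct.includeRight_apply, Submodule.coe_subtype]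
        rw [← mul_assoc, ← Bialgebra.comul_mul]
        exact Groth.Agent.UnipHopf.mul_mem_range (P := Subalgebra.toSubmodule C') (Q := Subalgebra.toSubmodule C')
          (fun p hp q hq => C'.mul_mem hp hq) (comul_mem hC' (hc.2 p))
          ⟨⟨1, C'.one_mem⟩ ⊗ₜ[k] (Sᵢ q), rfl⟩
    have h2 := (ComodLib.mem_range_rTensor_iff _ _).1 key f.ofConv
    show ComodLib.slice f.ofConv (Δ' c) * (x : H) ∈ C'
    suffices e : ComodLib.slice f.ofConv (Δ' c) * (x : H) =
        ComodLib.slice f.ofConv (Δ' c * ((x : H) ⊗ₜ[k] (1 : H))) by rw [e]; exact h2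
    generalize Δ' c = w
    induction w with
    | zero => simp
    | add p q hp hq => simp only [add_mul, map_add, hp, hq]
    | tmul p q => simp [Algebra.TensorProduct.tmul_mul_tmul]
  have hne : 𝔞 ≠ ⊥ := by
    have hU : (∏ i, u i) ∈ 𝔞 := by
      rw [h𝔞]
      refine ⟨C'.prod_mem fun i _ => huC i, fun x => ?_⟩
      have e : (x : H) = ∑ i, b.repr x i • (b i : H) := by
        have h0 := congrArg V.subtype (b.sum_repr x)
        rw [map_sum] at h0
        exact h0.symm
      rw [e, Finset.mul_sum]
      refine C'.sum_mem fun i _ => ?_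
      rw [mul_smul_comm, ← Finset.prod_erase_mul Finset.univ u (Finset.mem_univ i), mul_assoc]
      exact C'.smul_mem (C'.mul_mem (C'.prod_mem fun j _ => huC j) (hub i)) _
    intro hbot
    rw [hbot, Submodule.mem_bot] at hU
    have h1 := congrArg (Bialgebra.counitAlgHom k H) hU
    simp [map_prod, hεu] at h1
  have h1 : (1 : H) ∈ 𝔞 := one_mem_stable_ideal hs 𝔞 (fun a ha => ((h𝔞 a).1 ha).1)
    (fun c hc a ha => (h𝔞 _).2 ⟨C'.mul_mem hc ((h𝔞 a).1 ha).1, fun x => by
      rw [mul_assoc]; exact C'.mul_mem hc (((h𝔞 a).1 ha).2 x)⟩) hst hne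
  simpa using ((h𝔞 1).1 h1).2 ⟨h, Submodule.mem_span_singleton_self h⟩

end LunaLib

end
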