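import Mathlib
import Groth.Agent.GLinFinLib.Zmt
import Groth.Agent.GLinFinLib.StableLocus
import Groth.Agent.HopfFFLib.Stab.Basic
import Groth.Agent.GrpSchLib.HopfReduced

/-! # Stabilisers and etale neighbourhoods through rational points

Over an algebraically closed field of characteristic zero stabilisers are determined by their points, and an
equivariant map which is etale at a point of a closed orbit is etale on an invariant basic open neighbourhood. -/

set_option autoImplicit false
set_option maxHeartbeats 1000000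
set_option synthInstance.maxHeartbeats 400000

noncomputable section

open TensorProduct HopfRep WithConv
open scoped ComodLib

namespace LunaLib.Pts

universe u

attribute [local instance] Groth.Agent.HopfFF.pointsGroup

variable {k : Type u} [Field k] {A : Type u} [CommRing A] [HopfAlgebra k A]
  {R : Type u} [CommRing R] [Algebra k R] [Comod k A R] [GLin.IsCoactAlg k A R]

/-- Points killing the stabiliser ideal fix the point. -/
theorem kill_iff {T : Type u} [CommRing T] [Algebra k T] (z : R →ₐ[k] k) (g : A →ₐ[k] T) :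
    (∀ a ∈ GLin.stabIdeal k A z, g a = 0) ↔
      ∀ b, g (GLin.orbitHom k A z b) = algebraMap k T (z b) := by
  constructor
  · intro h b
    have h1 : b - algebraMap k R (z b) ∈ RingHom.ker z := by
      show z (b - algebraMap k R (z b)) = 0
      simp
    have h2 := h _ (Ideal.mem_map_of_mem (GLin.orbitHom k A z) h1)
    rwa [map_sub, AlgHom.commutes, map_sub, AlgHom.commutes, sub_eq_zero] at h2
  · intro h a ha
    have hle : GLin.stabIdeal k A z ≤ RingHom.ker g := Ideal.map_le_iff_le_comap.2 fun b hb => by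
      show g (GLin.orbitHom k A z b) = 0
      rw [h, show z b = 0 from hb, map_zero]
    exact hle ha

/-- A product whose first factor fixes the point acts through the second factor. -/
theorem mul_orbitHom {T : Type u} [CommRing T] [Algebra k T] (z : R →ₐ[k] k)
    (f g : WithConv (A →ₐ[k] T)) (hf : ∀ a ∈ GLin.stabIdeal k A z, f.ofConv a = 0) (b : R) :
    (f * g).ofConv (GLin.orbitHom k A z b) = g.ofConv (GLin.orbitHom k A z b) := by
  rw [kill_iff] at hf
  show (f * g) (GLin.orbitHom k A z b) = _
  rw [AlgHom.convMul_apply]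
  have e : CoalgebraStruct.comul (R := k) (GLin.orbitHom k A z b) =
      (GLin.orbitHom k A z).toLinearMap.rTensor A (Comod.coact (k := k) (A := A) b) :=
    LinearMap.congr_fun (GLinFinLib.isComodHom_orbitHom z) b
  rw [e, GLinFinLib.orbitHom_apply z b]
  generalize Comod.coact (k := k) (A := A) b = w
  induction w with
  | zero => simp
  | add p q hp hq => simp only [map_add, hp, hq]
  | tmul p q => simp [hf, Algebra.smul_def]

theorem isHopfIdeal_stab (z : R →ₐ[k] k) : (GLin.stabIdeal k A z).IsHopfIdeal k := by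
  refine Groth.Agent.HopfFF.isHopfIdeal_of_subgroup _ (fun a ha => ?_) (fun T _ _ f g hf hg => ?_)
    (fun T _ _ f hf => ?_)
  · exact (kill_iff z (Bialgebra.counitAlgHom k A)).2 (fun b => GLinFinLib.counit_orbitHom z b) a ha
  · exact (kill_iff z (f * g).ofConv).2 fun b => by
      rw [mul_orbitHom z f g hf]
      exact (kill_iff z g.ofConv).1 hg b
  · refine (kill_iff z f⁻¹.ofConv).2 fun b => ?_
    rw [← mul_orbitHom z f f⁻¹ hf, mul_inv_cancel]
    show (1 : WithConv (A →ₐ[k] T)) (GLin.orbitHom k A z b) = _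
    rw [AlgHom.convOne_apply]
    exact congrArg (algebraMap k T) (GLinFinLib.counit_orbitHom z b)

variable [IsAlgClosed k] [Algebra.FiniteType k A]

/-- In characteristic zero an inclusion of stabilisers may be checked on points. -/
theorem stabIdeal_le [CharZero k] {S : Type u} [CommRing S] [Algebra k S] [Comod k A S] [GLin.IsCoactAlg k A S]
    (x : R →ₐ[k] k) (y : S →ₐ[k] k)
    (h : ∀ g : A →ₐ[k] k, GLin.actPt k g y = y → GLin.actPt k g x = x) :
    GLin.stabIdeal k A x ≤ GLin.stabIdeal k A y := by
  haveI := isHopfIdeal_stab (A := A) y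
  haveI : IsJacobsonRing A := isJacobsonRing_of_finiteType (A := k)
  haveI hred : IsReduced (A ⧸ GLin.stabIdeal k A y) :=
    Groth.Agent.GrpSchLib.HopfRed.isReduced_of_finiteType (k := k)
  have hjac : (GLin.stabIdeal k A y).jacobson = GLin.stabIdeal k A y :=
    IsJacobsonRing.out inferInstance ((Ideal.isRadical_iff_quotient_reduced _).2 hred)
  rw [← hjac]
  refine le_sInf fun M hM => ?_
  obtain ⟨g, hg⟩ := GLinFinLib.exists_point_of_le k hM.2.ne_top
  have hker : RingHom.ker g = M := (hM.2.eq_of_le (RingHom.ker_ne_top _) hg).symm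
  have hy : GLin.actPt k g y = y := AlgHom.ext fun b =>
    (kill_iff y g).1 (fun a ha => hg (hM.1 ha)) b
  intro a ha
  rw [← hker]
  exact (kill_iff x g).2 (fun b => AlgHom.congr_fun (h g hy) b) a ha

variable [IsReduced A] [Algebra.FiniteType k R]
  {S : Type u} [CommRing S] [Algebra k S] [Algebra.FiniteType k S] [Comod k A S] [GLin.IsCoactAlg k A S]
  [Algebra S R] [IsScalarTower k S R]

/-- An equivariant map etale at a point of a closed orbit is etale on an invariant neighbourhood. -/
theorem exists_invariant_etale (hG : IsLinearlyReductive k A)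
    (hequiv : ∀ s : S, Comod.coact (k := k) (A := A) (algebraMap S R s) =
      Algebra.TensorProduct.map (IsScalarTower.toAlgHom k S R) (AlgHom.id k A) (Comod.coact (k := k) (A := A) s))
    (x : R →ₐ[k] k) (hx : GLin.IsClosedOrbit k A x) (m : Ideal R) [m.IsPrime] (hm : m = RingHom.ker x.toRingHom)
    (het : Algebra.IsEtaleAt S m) :
    ∃ f : GLin.invariants k A R, x (f : R) ≠ 0 ∧ Algebra.FormallyEtale S (Localization.Away (f : R)) := by
  classical
  haveI : IsNoetherianRing S := Algebra.FiniteType.isNoetherianRing k S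
  haveI : Algebra.FiniteType S R := Algebra.FiniteType.of_restrictScalars_finiteType k S R
  haveI : Algebra.FinitePresentation S R := Algebra.FinitePresentation.of_finiteType.1 inferInstance
  obtain ⟨f₀, hf₀m, hf₀⟩ := Algebra.exists_etale_of_isEtaleAt (R := S) m
  let σ : (A →ₐ[k] k) → R →ₐ[k] R := fun φ => GLinFinLib.Zmt.actHom φ
  let θ : (A →ₐ[k] k) → S →ₐ[k] S := fun φ => GLinFinLib.Zmt.actHom φ
  let inv : (A →ₐ[k] k) → (A →ₐ[k] k) := fun φ => φ.comp (HopfAlgebra.antipodeAlgHom k A)
  have hinv : ∀ φ, inv (inv φ) = φ := fun φ => AlgHom.ext fun a =>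
    congrArg φ (Groth.Agent.HopfFF.antipode_antipode a)
  have hθ : ∀ (φ : A →ₐ[k] k) (s : S), σ φ (algebraMap S R s) = algebraMap S R (θ φ s) := by
    intro φ s
    show UnitRigidLib.spec₂ φ (Comod.coact (k := k) (A := A) (algebraMap S R s)) =
      algebraMap S R (UnitRigidLib.spec₂ φ (Comod.coact (k := k) (A := A) s))
    rw [hequiv]
    generalize Comod.coact (k := k) (A := A) s = z
    induction z with
    | zero => simp
    | add a b ha hb => simp only [map_add, ha, hb]
    | tmul a b => simp [UnitRigidLib.spec₂_tmul, IsScalarTower.algebraMap_apply k S R, Algebra.smul_def]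
  have hσi : ∀ φ (r : R), σ φ (σ (inv φ) r) = r := fun φ r => by
    show GLinFinLib.Zmt.actHom φ (GLinFinLib.Zmt.actHom (inv φ) r) = r
    rw [GLinFinLib.Zmt.actHom_apply, GLinFinLib.Zmt.actHom_apply]
    have h := GLinFinLib.Fraction.act_inv (A := A) φ r
    rwa [GLinFinLib.Fraction.act_eq, GLinFinLib.Fraction.act_eq, ← GLinFinLib.Fraction.act_eq φ,
      show UnitRigidLib.spec₂ (inv φ) (GLin.coactAlgHom k A R r) = GLinFinLib.Zmt.actHom (inv φ) r from rfl,
      GLinFinLib.Fraction.act_eq, show ∀ t, UnitRigidLib.spec₂ φ (GLin.coactAlgHom k A R t) =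
        GLinFinLib.Zmt.actHom φ t from fun t => rfl, GLinFinLib.Zmt.actHom_apply,
      GLinFinLib.Zmt.actHom_apply] at h
  have hθi : ∀ φ (r : S), θ φ (θ (inv φ) r) = r := fun φ r => by
    show GLinFinLib.Zmt.actHom φ (GLinFinLib.Zmt.actHom (inv φ) r) = r
    rw [GLinFinLib.Zmt.actHom_apply, GLinFinLib.Zmt.actHom_apply]
    have h := GLinFinLib.Fraction.act_inv (A := A) φ r
    rwa [GLinFinLib.Fraction.act_eq, GLinFinLib.Fraction.act_eq, ← GLinFinLib.Fraction.act_eq φ,
      show UnitRigidLib.spec₂ (inv φ) (GLin.coactAlgHom k A S r) = GLinFinLib.Zmt.actHom (inv φ) r from rfl,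
      GLinFinLib.Fraction.act_eq, show ∀ t, UnitRigidLib.spec₂ φ (GLin.coactAlgHom k A S t) =
        GLinFinLib.Zmt.actHom φ t from fun t => rfl, GLinFinLib.Zmt.actHom_apply,
      GLinFinLib.Zmt.actHom_apply] at h
  let E : Set R := {r | Algebra.Etale S (Localization.Away r)}
  have hE : ∀ φ, ∀ r ∈ E, σ φ r ∈ E := by
    intro φ r hr
    let eR : R ≃+* R := RingEquiv.ofBijective (σ φ)
      ⟨Function.LeftInverse.injective (g := σ (inv φ)) fun a => by simpa [hinv] using hσi (inv φ) a,
        fun a => ⟨σ (inv φ) a, hσi φ a⟩⟩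
    let eS : S ≃+* S := RingEquiv.ofBijective (θ φ)
      ⟨Function.LeftInverse.injective (g := θ (inv φ)) fun a => by simpa [hinv] using hθi (inv φ) a,
        fun a => ⟨θ (inv φ) a, hθi φ a⟩⟩
    let e : Localization.Away r ≃+* Localization.Away (σ φ r) :=
      IsLocalization.ringEquivOfRingEquiv _ _ eR (M := Submonoid.powers r) (T := Submonoid.powers (σ φ r))
        (Submonoid.map_powers _ _)
    show Algebra.Etale S (Localization.Away (σ φ r))
    rw [← RingHom.etale_algebraMap]
    have h1 : (algebraMap S (Localization.Away r)).Etale := RingHom.etale_algebraMap.2 hr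
    have h2 := RingHom.Etale.respectsIso.2 _ eS.symm (RingHom.Etale.respectsIso.1 _ e h1)
    refine (show _ = algebraMap S (Localization.Away (σ φ r)) from RingHom.ext fun s => ?_) ▸ h2
    show e (algebraMap S (Localization.Away r) (eS.symm s)) = _
    rw [IsScalarTower.algebraMap_apply S R (Localization.Away r), IsLocalization.ringEquivOfRingEquiv_eq,
      IsScalarTower.algebraMap_apply S R (Localization.Away (σ φ r))]
    refine congrArg _ ?_
    show σ φ (algebraMap S R (eS.symm s)) = algebraMap S R s
    rw [hθ]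
    exact congrArg _ (eS.apply_symm_apply s)
  let N : Ideal R := Ideal.span E
  have hN : IsSubcomod (k := k) (A := A) (N.restrictScalars k) :=
    GLinFinLib.Zmt.isSubcomod_of_act _ fun φ v hv => by
      rw [← GLinFinLib.Zmt.actHom_apply]
      have h1 : N ≤ N.comap (σ φ) := Ideal.span_le.2 fun r hr => Ideal.subset_span (hE φ r hr)
      exact h1 hv
  have hK := GLinFinLib.isSubcomod_ker_orbitHom (A := A) x
  have htop : N ⊔ RingHom.ker (GLin.orbitHom k A x) = ⊤ := by
    by_contra hne
    obtain ⟨M, hM, hle⟩ := Ideal.exists_le_maximal _ hne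
    obtain ⟨z, hz⟩ := GLinFinLib.exists_point_of_le k hM.ne_top
    obtain ⟨g, hg⟩ := GLinFinLib.exists_actPt_of_closure hx
      (fun a ha => hz (hle (Ideal.mem_sup_right ha)) : GLin.InOrbitClosure k A x z)
    have hzσ : ∀ b, z b = x (σ g b) := fun b => by
      rw [← hg]
      show g (GLin.orbitHom k A x b) = x.toLinearMap (GLinFinLib.Zmt.actHom g b)
      rw [GLinFinLib.Zmt.actHom_apply, ComodLib.apply_slice]
      exact congrArg g (GLinFinLib.orbitHom_apply x b)
    have hmem : σ (inv g) f₀ ∈ M := hle (Ideal.mem_sup_left (Ideal.subset_span (hE _ _ hf₀)))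
    have hz0 : z (σ (inv g) f₀) = 0 := hz hmem
    rw [hzσ, hσi] at hz0
    exact hf₀m (hm ▸ hz0)
  obtain ⟨a, ha, c, hc, hac⟩ := Submodule.mem_sup.1 (htop.symm ▸ Submodule.mem_top :
    (1 : R) ∈ N ⊔ RingHom.ker (GLin.orbitHom k A x))
  obtain ⟨α, hα, h1⟩ := ComodLib.exists_invariant_of_isLinearlyReductive hG
  let F : R := ComodLib.reynolds R α a
  have hFmem : F ∈ GLin.invariants k A R := ComodLib.reynolds_mem hα a
  have hFN : F ∈ N := (ComodLib.mem_range_rTensor_iff _ _).1 (hN a ha) _
  have hcK : ComodLib.reynolds R α c ∈ RingHom.ker (GLin.orbitHom k A x) :=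
    (ComodLib.mem_range_rTensor_iff _ _).1 (hK c hc) _
  have hxc : x (ComodLib.reynolds R α c) = 0 := by
    rw [← GLinFinLib.counit_orbitHom (A := A) x, show GLin.orbitHom k A x (ComodLib.reynolds R α c) = 0 from hcK,
      map_zero]
  refine ⟨⟨F, hFmem⟩, ?_, ?_⟩
  · have h2 : F + ComodLib.reynolds R α c = 1 := by
      rw [← map_add, hac]
      exact ComodLib.reynolds_fixed h1 (GLin.invariants k A R).one_mem
    have h3 := congrArg x h2
    rw [map_add, hxc, add_zero, map_one] at h3
    show x F ≠ 0
    rw [h3]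
    exact one_ne_zero
  · refine Algebra.basicOpen_subset_etaleLocus_iff.1 fun Q hQ => ?_
    obtain ⟨r, hr, hrQ⟩ : ∃ r ∈ E, r ∉ Q.asIdeal := by
      by_contra hcon
      push Not at hcon
      exact hQ (Ideal.span_le.2 hcon hFN)
    haveI : Algebra.Etale S (Localization.Away r) := hr
    exact (Algebra.basicOpen_subset_etaleLocus_iff (R := S) (f := r)).2 inferInstance hrQ

end LunaLib.Pts

end
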