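import Mathlib
import Groth.Agent.LunaLib.Coideal
import Groth.Agent.LunaLib.Points

/-! # Homogeneous affine varieties

A finitely generated stable subalgebra of the coordinate ring with surjective spectrum map is smooth, and its
points form a single orbit. -/

set_option autoImplicit false
set_option maxHeartbeats 1000000
set_option synthInstance.maxHeartbeats 400000

noncomputable section

open TensorProduct HopfRep WithConv
open scoped ComodLib

namespace LunaLib.Pts

universe u

variable {k : Type u} [Field k] {A : Type u} [CommRing A] [HopfAlgebra k A]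
  {R : Type u} [CommRing R] [Algebra k R] [Comod k A R] [GLin.IsCoactAlg k A R]
  {S : Type u} [CommRing S] [Algebra k S] [Comod k A S] [GLin.IsCoactAlg k A S]

local notation "σ" => GLinFinLib.Zmt.actHom

theorem actHom_inv (g : A →ₐ[k] k) (r : R) :
    σ g (σ (g.comp (HopfAlgebra.antipodeAlgHom k A)) r) = r := by
  show UnitRigidLib.spec₂ g (GLin.coactAlgHom k A R
    (UnitRigidLib.spec₂ (g.comp (HopfAlgebra.antipodeAlgHom k A)) (GLin.coactAlgHom k A R r))) = r
  rw [← GLinFinLib.Fraction.act_eq, ← GLinFinLib.Fraction.act_eq]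
  exact GLinFinLib.Fraction.act_inv g r

theorem actHom_inv' (g : A →ₐ[k] k) (r : R) :
    σ (g.comp (HopfAlgebra.antipodeAlgHom k A)) (σ g r) = r := by
  have h := actHom_inv (g.comp (HopfAlgebra.antipodeAlgHom k A)) r
  rwa [show (g.comp (HopfAlgebra.antipodeAlgHom k A)).comp (HopfAlgebra.antipodeAlgHom k A) = g from
    AlgHom.ext fun a => congrArg g (Groth.Agent.HopfFF.antipode_antipode a)] at h

theorem actHom_bijective (g : A →ₐ[k] k) : Function.Bijective (σ g : R →ₐ[k] R) :=
  ⟨Function.LeftInverse.injective (actHom_inv' g), fun r => ⟨_, actHom_inv g r⟩⟩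

theorem actHom_natural {φ : R →ₐ[k] S} (hφ : Hoch.IsComodHom A φ.toLinearMap) (g : A →ₐ[k] k) (r : R) :
    φ (σ g r) = σ g (φ r) := by
  rw [GLinFinLib.Zmt.actHom_apply, GLinFinLib.Zmt.actHom_apply,
    show Comod.coact (k := k) (A := A) (φ r) = φ.toLinearMap.rTensor A (Comod.coact (k := k) (A := A) r) from
      LinearMap.congr_fun hφ r, ComodLib.slice_rTensor]
  rfl

theorem actHom_invariant (g : A →ₐ[k] k) {r : R} (hr : r ∈ GLin.invariants k A R) : σ g r = r := by
  rw [GLinFinLib.Zmt.actHom_apply, show Comod.coact (k := k) (A := A) r = r ⊗ₜ[k] (1 : A) from hr,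
    ComodLib.slice_tmul, AlgHom.toLinearMap_apply, map_one, one_smul]

theorem actPt_eq (g : A →ₐ[k] k) (z : R →ₐ[k] k) (r : R) : GLin.actPt k g z r = z (σ g r) := by
  show g (GLin.orbitHom k A z r) = z.toLinearMap (σ g r)
  rw [GLinFinLib.Zmt.actHom_apply, ComodLib.apply_slice]
  exact congrArg g (GLinFinLib.orbitHom_apply z r)

theorem counit_actHom (g : A →ₐ[k] k) (a : A) :
    CoalgebraStruct.counit (R := k) (σ g a) = g a := by
  rw [GLinFinLib.Zmt.actHom_apply, ComodLib.apply_slice]
  refine congrArg g ?_
  show TensorProduct.lid k A ((CoalgebraStruct.counit (R := k)).rTensor A (CoalgebraStruct.comul (R := k) a)) = a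
  rw [Coalgebra.rTensor_counit_comul]
  simp

/-- A stable subalgebra is a comodule algebra. -/
theorem exists_subalgComod (C : Subalgebra k R) (hC : IsSubcomod (k := k) (A := A) C.toSubmodule) :
    ∃ (_ : Comod k A C) (_ : GLin.IsCoactAlg k A C), Hoch.IsComodHom A C.val.toLinearMap := by
  letI cC : Comod k A C := ComodLib.subComod hC
  have hval : ∀ b : C, Comod.coact (k := k) (A := A) (b : R) =
      C.val.toLinearMap.rTensor A (Comod.coact (k := k) (A := A) b) := by
    intro b
    have h := LinearMap.congr_fun (ComodLib.exists_coact_sub hC).choose_spec b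
    exact h.symm
  have hinj : Function.Injective (C.val.toLinearMap.rTensor A) :=
    Module.Flat.rTensor_preserves_injective_linearMap _ Subtype.val_injective
  have hmul : ∀ z w, C.val.toLinearMap.rTensor A (z * w) =
      C.val.toLinearMap.rTensor A z * C.val.toLinearMap.rTensor A w := by
    intro z w
    induction z using TensorProduct.induction_on with
    | zero => simp
    | add p q hp hq => simp only [add_mul, map_add, hp, hq]
    | tmul p q =>
      induction w using TensorProduct.induction_on with
      | zero => simp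
      | add p' q' hp hq => simp only [mul_add, map_add, hp, hq]
      | tmul p' q' => simp [Algebra.TensorProduct.tmul_mul_tmul]
  have : GLin.IsCoactAlg k A C :=
    { coact_one := hinj (by
        rw [← hval, OneMemClass.coe_one, GLin.IsCoactAlg.coact_one, Algebra.TensorProduct.one_def,
          Algebra.TensorProduct.one_def, LinearMap.rTensor_tmul]
        rfl)
      coact_mul := fun a b => hinj (by
        rw [← hval, hmul, ← hval, ← hval, MulMemClass.coe_mul, GLin.IsCoactAlg.coact_mul]) }
  exact ⟨cC, this, LinearMap.ext hval⟩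

variable [IsAlgClosed k] [Algebra.FiniteType k A]

/-- The points of a homogeneous variety come from the group. -/
theorem exists_point_lift {C : Subalgebra k A} (hs : Function.Surjective (PrimeSpectrum.comap (algebraMap C A)))
    (o : C →ₐ[k] k) : ∃ g : A →ₐ[k] k, ∀ c : C, g (c : A) = o c := by
  obtain ⟨P, hP⟩ := hs ⟨RingHom.ker o.toRingHom, RingHom.ker_isPrime _⟩
  obtain ⟨g, hg⟩ := GLinFinLib.exists_point_of_le k P.2.ne_top
  refine ⟨g, fun c => ?_⟩
  have h1 : (c : A) - algebraMap k A (o c) ∈ P.asIdeal := by
    have h : c - algebraMap k C (o c) ∈ RingHom.ker o.toRingHom := by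
      show o (c - algebraMap k C (o c)) = 0
      simp
    have e := (congrArg PrimeSpectrum.asIdeal hP).symm.le h
    exact e
  have h2 := hg h1
  rwa [RingHom.mem_ker, map_sub, AlgHom.commutes, sub_eq_zero] at h2

variable [IsDomain A] [CharZero k]

/-- A homogeneous affine variety is smooth. -/
theorem smooth_of_stable {C : Subalgebra k A} (hC : IsSubcomod (k := k) (A := A) C.toSubmodule)
    [Algebra.FiniteType k C] (hs : Function.Surjective (PrimeSpectrum.comap (algebraMap C A))) :
    Algebra.Smooth k C := by
  classical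
  obtain ⟨_, _, hval⟩ := exists_subalgComod (A := A) C hC
  haveI : IsNoetherianRing C := Algebra.FiniteType.isNoetherianRing k C
  haveI : Algebra.FinitePresentation k C := Algebra.FinitePresentation.of_finiteType.1 inferInstance
  let K := FractionRing C
  haveI : IsLocalization.AtPrime K (⊥ : Ideal C) := by
    have e : (⊥ : Ideal C).primeCompl = nonZeroDivisors C := by
      ext c
      simp [Ideal.primeCompl, mem_nonZeroDivisors_iff_ne_zero]
    show IsLocalization (⊥ : Ideal C).primeCompl K
    rw [e]
    infer_instance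
  haveI : Algebra.EssFiniteType C K := Algebra.EssFiniteType.of_isLocalization _ (nonZeroDivisors C)
  haveI : Algebra.EssFiniteType k K := Algebra.EssFiniteType.comp k C K
  haveI : Algebra.FormallySmooth k K := Algebra.FormallySmooth.of_perfectField
  haveI : Algebra.IsSmoothAt k (⊥ : Ideal C) := Algebra.FormallySmooth.of_equiv
    ((IsLocalization.algEquiv (⊥ : Ideal C).primeCompl K (Localization.AtPrime (⊥ : Ideal C))).restrictScalars k)
  obtain ⟨f, hf, hfs⟩ := Algebra.IsSmoothAt.exists_notMem_smooth k (⊥ : Ideal C)
  have hf0 : (f : A) ≠ 0 := fun h => hf (Ideal.mem_bot.2 (Subtype.ext h))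
  obtain ⟨φ, hφ⟩ : ∃ φ : A →ₐ[k] k, φ (f : A) ≠ 0 := by
    by_contra! hcon
    exact hf0 (UnitRigidLib.eq_zero_of_forall_point _ hcon)
  suffices h : Algebra.smoothLocus k C = Set.univ from ⟨Algebra.smoothLocus_eq_univ_iff.1 h, inferInstance⟩
  rw [Set.eq_univ_iff_forall]
  intro p
  obtain ⟨M, hM, hpM⟩ := Ideal.exists_le_maximal p.asIdeal p.2.ne_top
  obtain ⟨o, ho⟩ := GLinFinLib.exists_point_of_le k hM.ne_top
  obtain ⟨g, hg⟩ := exists_point_lift hs o
  let e : C ≃ₐ[k] C := (AlgEquiv.ofBijective _ (actHom_bijective (R := C) φ)).trans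
    (AlgEquiv.ofBijective _ (actHom_bijective (R := C) (g.comp (HopfAlgebra.antipodeAlgHom k A))))
  have her : o (e f) ≠ 0 := by
    rw [← hg]
    show g (C.val (σ (g.comp (HopfAlgebra.antipodeAlgHom k A)) (σ φ f))) ≠ 0
    rw [actHom_natural hval, actHom_natural hval, ← counit_actHom g, actHom_inv, counit_actHom]
    exact hφ
  have hr : e f ∉ p.asIdeal := fun h => her (ho (hpM h))
  let E : Localization.Away f ≃+* Localization.Away (e f) :=
    IsLocalization.ringEquivOfRingEquiv _ _ e.toRingEquiv (M := Submonoid.powers f)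
      (T := Submonoid.powers (e f)) (Submonoid.map_powers _ _)
  let Ek : Localization.Away f ≃ₐ[k] Localization.Away (e f) :=
    AlgEquiv.ofRingEquiv (f := E) fun c => by
      rw [IsScalarTower.algebraMap_apply k C (Localization.Away f), IsLocalization.ringEquivOfRingEquiv_eq,
        IsScalarTower.algebraMap_apply k C (Localization.Away (e f))]
      exact congrArg _ (e.commutes c)
  haveI : Algebra.Smooth k (Localization.Away (e f)) := Algebra.Smooth.of_equiv Ek
  exact Algebra.basicOpen_subset_smoothLocus_iff_smooth.2 inferInstance hr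

end LunaLib.Pts

end
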