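import Mathlib
import Groth.Agent.LunaLib.Homogeneous

/-! # Equivariant projections

Over an algebraically closed field a stable direct summand of a free equivariant module has an equivariant
projection: average any projection with an invariant functional. -/

set_option autoImplicit false
set_option maxHeartbeats 1000000
set_option synthInstance.maxHeartbeats 400000

noncomputable section

open TensorProduct HopfRep WithConv
open scoped ComodLib Matrix

namespace LunaLib.Pts

universe u

variable {k : Type u} [Field k] [IsAlgClosed k] {A : Type u} [CommRing A] [HopfAlgebra k A]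
  [Algebra.FiniteType k A] [IsReduced A]
  {C : Type u} [CommRing C] [Algebra k C] [Comod k A C] [GLin.IsCoactAlg k A C] {r : ℕ}

local notation "σ" => GLinFinLib.Zmt.actHom

/-- A point of the group acting on vectors. -/
def actVec (m : Fin r → Fin r → A) (g : A →ₐ[k] k) (c : Fin r → C) : Fin r → C :=
  fun i => ∑ j, g (m i j) • σ g (c j)

omit [IsAlgClosed k] [Algebra.FiniteType k A] [IsReduced A] in
theorem spec₂_coact (g : A →ₐ[k] k) (x : C) :
    UnitRigidLib.spec₂ g (Comod.coact (k := k) (A := A) x) = σ g x := rfl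

/-- A tensor is determined by its values at the points. -/
theorem eq_zero_of_spec₂ {z : C ⊗[k] A} (h : ∀ g : A →ₐ[k] k, UnitRigidLib.spec₂ g z = 0) : z = 0 := by
  obtain ⟨s, hs⟩ := ComodLib.exists_expansion z
  rw [hs]
  refine Finset.sum_eq_zero fun i _ => ?_
  suffices hzero : ∀ f : A →ₗ[k] k, ComodLib.slice f z = 0 by rw [hzero, TensorProduct.zero_tmul]
  intro f
  rw [← Module.forall_dual_apply_eq_zero_iff k]
  intro η
  rw [ComodLib.apply_slice]
  suffices h0 : ComodLib.sliceL η z = 0 by rw [h0, map_zero]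
  refine UnitRigidLib.eq_zero_of_forall_point (K := k) _ fun g => ?_
  have e : ∀ w : C ⊗[k] A, ComodLib.slice g.toLinearMap w = UnitRigidLib.spec₂ g w := fun w => by
    induction w with
    | zero => simp
    | add a b ha hb => simp only [map_add, ha, hb]
    | tmul a b => simp [UnitRigidLib.spec₂_tmul]
  show g.toLinearMap (ComodLib.sliceL η z) = 0
  rw [← ComodLib.apply_slice, e, h g, map_zero]

/-- Slices of a vector of tensors stay in a subspace containing all the values at points. -/
theorem slice_mem_of_points (W : Submodule k (Fin r → C)) (z : Fin r → C ⊗[k] A)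
    (h : ∀ g : A →ₐ[k] k, (fun i => UnitRigidLib.spec₂ g (z i)) ∈ W) (f : A →ₗ[k] k) :
    (fun i => ComodLib.slice f (z i)) ∈ W := by
  rw [← Subspace.forall_mem_dualAnnihilator_apply_eq_zero_iff W]
  intro η hη
  let a : A := ∑ i, ComodLib.sliceL (η ∘ₗ LinearMap.single k (fun _ : Fin r => C) i) (z i)
  have key : ∀ φ : A →ₗ[k] k, η (fun i => ComodLib.slice φ (z i)) = φ a := fun φ => by
    rw [show (fun i => ComodLib.slice φ (z i)) = ∑ i, Pi.single i (ComodLib.slice φ (z i)) from
      (Finset.univ_sum_single _).symm, map_sum, map_sum]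
    refine Finset.sum_congr rfl fun i _ => ?_
    rw [← ComodLib.apply_slice]
    rfl
  have ha : a = 0 := UnitRigidLib.eq_zero_of_forall_point (K := k) _ fun g => by
    show g.toLinearMap a = 0
    rw [← key]
    refine (Submodule.mem_dualAnnihilator η).1 hη _ ?_
    have e : ∀ w : C ⊗[k] A, ComodLib.slice g.toLinearMap w = UnitRigidLib.spec₂ g w := fun w => by
      induction w with
      | zero => simp
      | add a b ha hb => simp only [map_add, ha, hb]
      | tmul a b => simp [UnitRigidLib.spec₂_tmul]
    simp only [e]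
    exact h g
  rw [key, ha, map_zero]

/-- A stable summand has an equivariant projection. -/
theorem exists_projection (hG : IsLinearlyReductive k A) (m : Fin r → Fin r → A)
    (hmul : ∀ j i, CoalgebraStruct.comul (R := k) (m j i) = ∑ l, m j l ⊗ₜ[k] m l i)
    (hone : ∀ j i, CoalgebraStruct.counit (R := k) (m j i) = if j = i then (1 : k) else 0)
    (N : Submodule C (Fin r → C)) (hstab : ∀ g : A →ₐ[k] k, ∀ c ∈ N, actVec m g c ∈ N)
    (P₀ : Matrix (Fin r) (Fin r) C) (h0 : ∀ j, P₀.col j ∈ N) (h0' : ∀ c ∈ N, P₀ *ᵥ c = c) :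
    ∃ P : Matrix (Fin r) (Fin r) C, (∀ j, P.col j ∈ N) ∧ (∀ c ∈ N, P *ᵥ c = c) ∧
      (Matrix.of fun i j => (1 : C) ⊗ₜ[k] m i j) * P.map (GLin.coactAlgHom k A C) =
        P.map (Algebra.TensorProduct.includeLeft : C →ₐ[k] C ⊗[k] A) *
          (Matrix.of fun i j => (1 : C) ⊗ₜ[k] m i j) := by
  classical
  obtain ⟨α, hα, h1⟩ := ComodLib.exists_invariant_of_isLinearlyReductive hG
  let β : A →ₗ[k] k := α ∘ₗ HopfAlgebra.antipode k
  have hβ1 : β 1 = 1 := by
    show α (HopfAlgebra.antipode k (1 : A)) = 1
    rw [HopfAlgebra.antipode_one, h1]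
  have hβL : ∀ (g : A →ₐ[k] k) (a : A), β (GLinFinLib.translate g a) = β a := by
    intro g a
    have h2 := congrArg g (ComodLib.slice_comul_antipode hα a)
    rw [show g (ComodLib.slice β (CoalgebraStruct.comul (R := k) a)) =
      g.toLinearMap (ComodLib.slice β (CoalgebraStruct.comul (R := k) a)) from rfl, ComodLib.apply_slice,
      map_smul, map_one, smul_eq_mul, mul_one] at h2
    refine Eq.trans ?_ h2
    show β (Algebra.TensorProduct.lid k A (Algebra.TensorProduct.map g (AlgHom.id k A)
      (CoalgebraStruct.comul (R := k) a))) = _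
    refine congrArg β ?_
    generalize CoalgebraStruct.comul (R := k) a = w
    induction w with
    | zero => simp
    | add p q hp hq => simp only [map_add, hp, hq]
    | tmul p q => simp
  have hant : ∀ i j, ∑ l, m i l * HopfAlgebra.antipode k (m l j) = if i = j then (1 : A) else 0 := by
    intro i j
    have h := HopfAlgebra.mul_antipode_lTensor_comul_apply (R := k) (m i j)
    rw [hmul] at h
    simp only [map_sum, LinearMap.lTensor_tmul, LinearMap.mul'_apply, hone] at h
    rw [h]
    split_ifs <;> simp
  let incA : A →ₐ[k] C ⊗[k] A := Algebra.TensorProduct.includeRight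
  let incC : C →ₐ[k] C ⊗[k] A := Algebra.TensorProduct.includeLeft
  let ρ := GLin.coactAlgHom k A C
  let Mm : Matrix (Fin r) (Fin r) (C ⊗[k] A) := Matrix.of fun i j => incA (m i j)
  let Mi : Matrix (Fin r) (Fin r) (C ⊗[k] A) := Matrix.of fun i j => incA (HopfAlgebra.antipode k (m i j))
  have hMMi : Mm * Mi = 1 := by
    ext i j
    simp only [Matrix.mul_apply, Mm, Mi, Matrix.of_apply, ← map_mul, ← map_sum, hant, Matrix.one_apply]
    split_ifs <;> simp
  let Mg : (A →ₐ[k] k) → Matrix (Fin r) (Fin r) C := fun g => Matrix.of fun i j => algebraMap k C (g (m i j))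
  let Mgi : (A →ₐ[k] k) → Matrix (Fin r) (Fin r) C := fun g =>
    Matrix.of fun i j => algebraMap k C (g (HopfAlgebra.antipode k (m i j)))
  have hspA : ∀ g a, UnitRigidLib.spec₂ g (incA a) = algebraMap k C (g a) := fun g a => by
    rw [Algebra.algebraMap_eq_smul_one]
    exact UnitRigidLib.spec₂_tmul g 1 a
  have hspC : ∀ g c, UnitRigidLib.spec₂ g (incC c) = c := fun g c => by
    refine (UnitRigidLib.spec₂_tmul g c 1).trans ?_
    rw [map_one, one_smul]
  have hMg : ∀ g, Mm.map (UnitRigidLib.spec₂ g) = Mg g := fun g => by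
    ext i j; exact hspA g _
  have hMgi : ∀ g, Mi.map (UnitRigidLib.spec₂ g) = Mgi g := fun g => by
    ext i j; exact hspA g _
  have hσfix : ∀ (g h : A →ₐ[k] k), (Mgi h).map (σ g : C →ₐ[k] C) = Mgi h := fun g h => by
    ext i j; exact AlgHom.commutes (σ g : C →ₐ[k] C) _
  have hact : ∀ g c, actVec m g c = Mg g *ᵥ ((σ g : C →ₐ[k] C) ∘ c) := fun g c => by
    ext i
    simp only [actVec, Matrix.mulVec, dotProduct, Mg, Matrix.of_apply, Function.comp_apply, Algebra.smul_def]
  have hinv : ∀ g, Mgi g = Mg (g.comp (HopfAlgebra.antipodeAlgHom k A)) := fun g => rfl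
  have hcomb : ∀ d : Fin r → C, P₀ *ᵥ d ∈ N := fun d => by
    have e : P₀ *ᵥ d = ∑ l, d l • P₀.col l := by
      ext i
      simp [Matrix.mulVec, dotProduct, Matrix.col, mul_comm]
    rw [e]
    exact N.sum_mem fun l _ => N.smul_mem _ (h0 l)
  let τ : Matrix (Fin r) (Fin r) (C ⊗[k] A) := Mm * P₀.map ρ * Mi
  have hτ : ∀ g, τ.map (UnitRigidLib.spec₂ g) = Mg g * P₀.map (σ g : C →ₐ[k] C) * Mgi g := fun g => by
    simp only [τ, Matrix.map_mul, hMg, hMgi, Matrix.map_map]
    rfl
  let P : Matrix (Fin r) (Fin r) C := τ.map (ComodLib.slice β)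
  have hslC : ∀ c z, ComodLib.slice β (incC c * z) = c * ComodLib.slice β z := fun c z => by
    induction z with
    | zero => simp
    | add a b ha hb => simp only [mul_add, map_add, ha, hb]
    | tmul a b => simp [incC, Algebra.TensorProduct.tmul_mul_tmul]
  refine ⟨P, fun j => ?_, fun c hc => ?_, ?_⟩
  · refine slice_mem_of_points (N.restrictScalars k) (fun i => τ i j) (fun g => ?_) β
    have e : (fun i => UnitRigidLib.spec₂ g (τ i j)) = actVec m g (P₀ *ᵥ (Mgi g).col j) := by
      ext i
      show (τ.map (UnitRigidLib.spec₂ g)) i j = _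
      rw [hτ, hact]
      have e2 : ((σ g : C →ₐ[k] C) : C → C) ∘ (P₀ *ᵥ (Mgi g).col j) =
          P₀.map (σ g : C →ₐ[k] C) *ᵥ (Mgi g).col j := by
        funext l
        simp only [Function.comp_apply, Matrix.mulVec, dotProduct, map_sum, map_mul, Matrix.map_apply,
          Matrix.col, Matrix.transpose_apply]
        refine Finset.sum_congr rfl fun q _ => ?_
        congr 1
        exact congrFun (congrFun (hσfix g g) q) j
      rw [e2, Matrix.mul_assoc, Matrix.mul_apply_eq_vecMul]
      simp [Matrix.mulVec, Matrix.vecMul, dotProduct, Matrix.mul_apply, Matrix.col]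
    rw [e]
    exact hstab g _ (hcomb _)
  · ext i
    have hz : (τ *ᵥ (incC ∘ c)) i - incC (c i) = 0 := eq_zero_of_spec₂ fun g => by
      let g' := g.comp (HopfAlgebra.antipodeAlgHom k A)
      let c' := actVec m g' c
      have hc' : c' ∈ N := hstab g' c hc
      have h3 : ((σ g : C →ₐ[k] C) : C → C) ∘ c' = Mgi g *ᵥ c := by
        funext l
        show σ g (∑ q, g' (m l q) • σ g' (c q)) = _
        simp only [map_sum, map_smul, map_mul, AlgHom.commutes, g', actHom_inv, Matrix.mulVec, dotProduct, Algebra.smul_def]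
        rfl
      have h4 : Mg g *ᵥ (Mgi g *ᵥ c) = c := by
        rw [Matrix.mulVec_mulVec, ← hMg, ← hMgi, ← Matrix.map_mul, hMMi, Matrix.map_one _ (map_zero _) (map_one _),
          Matrix.one_mulVec]
      rw [map_sub, hspC]
      have e : UnitRigidLib.spec₂ g ((τ *ᵥ (incC ∘ c)) i) = ((τ.map (UnitRigidLib.spec₂ g)) *ᵥ c) i := by
        simp only [Matrix.mulVec, dotProduct, map_sum, map_mul, Function.comp_apply, hspC, Matrix.map_apply]
      rw [e, hτ, ← Matrix.mulVec_mulVec, ← h3, ← Matrix.mulVec_mulVec]
      have e5 : P₀.map (σ g : C →ₐ[k] C) *ᵥ (((σ g : C →ₐ[k] C) : C → C) ∘ c') = ((σ g : C →ₐ[k] C) : C → C) ∘ (P₀ *ᵥ c') := by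
        funext l
        simp [Matrix.mulVec, dotProduct, map_sum, map_mul]
      rw [e5, h0' c' hc', h3, h4, sub_self]
    have h := congrArg (ComodLib.slice β) (sub_eq_zero.1 hz)
    simp only [Matrix.mulVec, dotProduct, map_sum, Function.comp_apply] at h ⊢
    rw [show ComodLib.slice β (incC (c i)) = c i by simp [incC, hβ1]] at h
    refine Eq.trans (Finset.sum_congr rfl fun l _ => ?_) h
    rw [mul_comm (τ i l), hslC, mul_comm]
    rfl
  -- equivariance
  have hcoassoc : ∀ (g : A →ₐ[k] k) (x : C),
      Algebra.TensorProduct.map (σ g : C →ₐ[k] C) (AlgHom.id k A) (ρ x) =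
        Algebra.TensorProduct.map (AlgHom.id k C) (GLinFinLib.translate g) (ρ x) := by
    intro g x
    let Φ : C ⊗[k] (A ⊗[k] A) →ₗ[k] C ⊗[k] A :=
      ((TensorProduct.lid k A).toLinearMap ∘ₗ g.toLinearMap.rTensor A).lTensor C
    have e1 : ∀ z : C ⊗[k] A, Algebra.TensorProduct.map (σ g : C →ₐ[k] C) (AlgHom.id k A) z =
        Φ (TensorProduct.assoc k C A A ((Comod.coact (k := k) (A := A)).rTensor A z)) := fun z => by
      induction z with
      | zero => simp
      | add a b ha hb => simp only [map_add, ha, hb]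
      | tmul p q =>
        rw [Algebra.TensorProduct.map_tmul, LinearMap.rTensor_tmul, ← spec₂_coact]
        generalize Comod.coact (k := k) (A := A) p = w
        induction w with
        | zero => simp [TensorProduct.zero_tmul]
        | add a b ha hb => simp only [map_add, TensorProduct.add_tmul, ha, hb]
        | tmul a b => simp [Φ, UnitRigidLib.spec₂_tmul, TensorProduct.smul_tmul]
    rw [e1]
    show Φ (TensorProduct.assoc k C A A ((Comod.coact (k := k) (A := A)).rTensor A
      (Comod.coact (k := k) (A := A) x))) = _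
    rw [ComodLib.coassoc_apply (k := k) (A := A) (V := C) x]
    show _ = Algebra.TensorProduct.map (AlgHom.id k C) (GLinFinLib.translate g) (Comod.coact (k := k) (A := A) x)
    generalize Comod.coact (k := k) (A := A) x = z
    induction z with
    | zero => simp
    | add a b ha hb => simp only [map_add, ha, hb]
    | tmul p q =>
      rw [LinearMap.lTensor_tmul, Algebra.TensorProduct.map_tmul]
      show p ⊗ₜ[k] (TensorProduct.lid k A (g.toLinearMap.rTensor A (CoalgebraStruct.comul (R := k) q))) = _
      refine congrArg (p ⊗ₜ[k] ·) ?_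
      show _ = Algebra.TensorProduct.lid k A (Algebra.TensorProduct.map g (AlgHom.id k A)
        (CoalgebraStruct.comul (R := k) q))
      generalize CoalgebraStruct.comul (R := k) q = w
      induction w with
      | zero => simp
      | add a b ha hb => simp only [map_add, ha, hb]
      | tmul a b => simp
  have hgP : ∀ g, Mg g * P.map (σ g : C →ₐ[k] C) = P * Mg g := by
    intro g
    let G := Algebra.TensorProduct.map (σ g : C →ₐ[k] C) (AlgHom.id k A)
    let L := Algebra.TensorProduct.map (AlgHom.id k C) (GLinFinLib.translate g)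
    let Mg' : Matrix (Fin r) (Fin r) (C ⊗[k] A) := (Mg g).map incC
    have hGA : ∀ a, G (incA a) = incA a := fun a => by simp [G, incA]
    have hGM : Mm.map G = Mm := by ext i j; exact hGA _
    have hGMi : Mi.map G = Mi := by ext i j; exact hGA _
    have hLM : Mm.map L = Mg' * Mm := by
      ext i j
      simp only [Matrix.map_apply, Matrix.mul_apply, Mm, Mg', Mg, Matrix.of_apply, L, incA, incC,
        Algebra.TensorProduct.includeRight_apply, Algebra.TensorProduct.includeLeft_apply,
        Algebra.TensorProduct.map_tmul, AlgHom.id_apply, GLinFinLib.translate, AlgHom.comp_apply,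
        Bialgebra.comulAlgHom_apply, hmul, map_sum, TensorProduct.tmul_sum]
      refine Finset.sum_congr rfl fun l _ => ?_
      simp [Algebra.TensorProduct.tmul_mul_tmul, Algebra.algebraMap_eq_smul_one, TensorProduct.smul_tmul']
    have hMiL : Mi.map L * Mg' = Mi := by
      have h2 : Mm.map L * Mi.map L = 1 := by
        rw [← Matrix.map_mul, hMMi, Matrix.map_one _ (map_zero _) (map_one _)]
      rw [hLM, Matrix.mul_assoc] at h2
      have h5 := mul_eq_one_comm.1 h2
      calc Mi.map L * Mg' = (Mi * Mm) * (Mi.map L * Mg') := by rw [mul_eq_one_comm.1 hMMi, Matrix.one_mul]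
        _ = Mi * ((Mm * Mi.map L) * Mg') := by simp only [Matrix.mul_assoc]
        _ = Mi := by rw [h5, Matrix.mul_one]
    have hGL : τ.map L * Mg' = Mg' * τ.map G := by
      simp only [τ, Matrix.map_mul, hGM, hGMi, hLM]
      rw [show (P₀.map ρ).map G = (P₀.map ρ).map L from Matrix.ext fun i j => hcoassoc g (P₀ i j)]
      simp only [Matrix.mul_assoc, hMiL]
    have e1 : ∀ z, ComodLib.slice β (L z) = ComodLib.slice β z := fun z => by
      induction z with
      | zero => simp
      | add a b ha hb => simp only [map_add, ha, hb]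
      | tmul a b => simp [L, hβL]
    have e2 : ∀ z, ComodLib.slice β (G z) = σ g (ComodLib.slice β z) := fun z => by
      induction z with
      | zero => simp
      | add a b ha hb => simp only [map_add, ha, hb]
      | tmul a b => simp [G]
    ext i j
    have h := congrArg (fun X : Matrix (Fin r) (Fin r) (C ⊗[k] A) => ComodLib.slice β (X i j)) hGL
    simp only [P, Matrix.mul_apply, map_sum, Matrix.map_apply, Mg', hslC, e2] at h ⊢
    rw [← h]
    refine Finset.sum_congr rfl fun l _ => ?_
    rw [mul_comm (L (τ i l)), hslC, e1, mul_comm]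
  ext i j
  refine sub_eq_zero.1 (eq_zero_of_spec₂ fun g => ?_)
  rw [map_sub, sub_eq_zero]
  have h := congrFun (congrFun (hgP g) i) j
  have e3 : ∀ a, UnitRigidLib.spec₂ g ((1 : C) ⊗ₜ[k] a) = algebraMap k C (g a) := hspA g
  have e4 : ∀ c, UnitRigidLib.spec₂ g ((Algebra.TensorProduct.includeLeft : C →ₐ[k] C ⊗[k] A) c) = c := hspC g
  simp only [Matrix.mul_apply, map_sum, map_mul, Matrix.map_apply, Matrix.of_apply, e3, e4] at h ⊢
  exact h

end LunaLib.Pts

end
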