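import Mathlib

/-! # An algebra of finite type with the same completion at a point is etale there -/

set_option autoImplicit false
set_option maxHeartbeats 1000000
set_option synthInstance.maxHeartbeats 400000

noncomputable section

namespace LunaLib

universe v w

variable {R : Type v} {S : Type w} [CommRing R] [CommRing S] [Algebra R S]

omit [Algebra R S] in
theorem exists_inverse_mod_pow {m : Ideal S} [m.IsMaximal] {t : S} (ht : t ∉ m) (j : ℕ) :
    ∃ t', t * t' - 1 ∈ m ^ j := by
  obtain ⟨c, x, hx, h⟩ := Ideal.IsMaximal.exists_inv ‹m.IsMaximal› ht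
  refine ⟨c * ∑ i ∈ Finset.range j, x ^ i, ?_⟩
  have e : t * (c * ∑ i ∈ Finset.range j, x ^ i) = 1 - x ^ j := by
    rw [← mul_assoc, mul_comm t, show c * t = 1 - x from eq_sub_of_add_eq h, mul_neg_geom_sum]
  rw [e, show (1 : S) - x ^ j - 1 = -(x ^ j) by ring]
  exact neg_mem (Ideal.pow_mem_pow hx j)

theorem isUnramifiedAt_of_surjective [Algebra.FiniteType R S] (m : Ideal S) [m.IsMaximal]
    (hs : ∀ s, ∃ a, s - algebraMap R S a ∈ m ^ 2) : Algebra.IsUnramifiedAt R m := by
  let L := Localization.AtPrime m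
  haveI : Algebra.EssFiniteType R L := Algebra.EssFiniteType.comp R S L
  let M := IsLocalRing.maximalIdeal L
  let D := KaehlerDifferential.D R L
  have hmap : m.map (algebraMap S L) = M := Localization.AtPrime.map_eq_maximalIdeal
  have hD2 : ∀ y ∈ M ^ 2, D y ∈ (M • ⊤ : Submodule L Ω[L⁄R]) := by
    intro y hy
    rw [pow_two] at hy
    refine Submodule.mul_induction_on hy (fun a ha b hb => ?_) (fun a b ha hb => by rw [map_add]; exact add_mem ha hb)
    rw [Derivation.leibniz]
    exact add_mem (Submodule.smul_mem_smul ha trivial) (Submodule.smul_mem_smul hb trivial)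
  have happ : ∀ y : L, ∃ a, y - algebraMap R L a ∈ M ^ 2 := by
    intro y
    obtain ⟨⟨b, t⟩, hbt⟩ := IsLocalization.surj m.primeCompl y
    obtain ⟨t', ht'⟩ := exists_inverse_mod_pow (show (t : S) ∉ m from t.2) 2
    obtain ⟨a, ha⟩ := hs (b * t')
    refine ⟨a, ?_⟩
    have h1 : algebraMap S L ((t : S) * t' - 1) ∈ M ^ 2 := by
      rw [← hmap, ← Ideal.map_pow]; exact Ideal.mem_map_of_mem _ ht'
    have h2 : algebraMap S L (b * t' - algebraMap R S a) ∈ M ^ 2 := by
      rw [← hmap, ← Ideal.map_pow]; exact Ideal.mem_map_of_mem _ ha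
    have e : y - algebraMap R L a =
        algebraMap S L (b * t' - algebraMap R S a) - y * algebraMap S L ((t : S) * t' - 1) := by
      simp only [map_sub, map_mul, map_one, ← IsScalarTower.algebraMap_apply, ← hbt]
      ring
    rw [e]
    exact sub_mem h2 (Ideal.mul_mem_left _ _ h1)
  have htop : (⊤ : Submodule L Ω[L⁄R]) ≤ M • ⊤ := by
    refine (KaehlerDifferential.span_range_derivation R L).symm.le.trans (Submodule.span_le.2 ?_)
    rintro _ ⟨y, rfl⟩
    obtain ⟨a, ha⟩ := happ y
    have := hD2 _ ha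
    rwa [map_sub, Derivation.map_algebraMap, sub_zero] at this
  have hbot : (⊤ : Submodule L Ω[L⁄R]) = ⊥ :=
    Submodule.eq_bot_of_le_smul_of_le_jacobson_bot M _ (Module.Finite.fg_top) htop
      (IsLocalRing.maximalIdeal_le_jacobson _)
  exact ⟨(Submodule.subsingleton_iff L).1 (subsingleton_of_bot_eq_top hbot.symm)⟩

/-- A point with an isomorphism of completions has an etale neighbourhood. -/
theorem exists_etale [IsNoetherianRing R] [Algebra.FiniteType R S] (m : Ideal S) [m.IsMaximal]
    (hs : ∀ (j : ℕ) (s : S), ∃ a, s - algebraMap R S a ∈ m ^ j)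
    (hi : ∀ i, ∃ j, ∀ a, algebraMap R S a ∈ m ^ j → a ∈ (m.comap (algebraMap R S)) ^ i) :
    ∃ g ∉ m, Algebra.Etale R (Localization.Away g) := by
  classical
  haveI := isUnramifiedAt_of_surjective (R := R) m (hs 2)
  obtain ⟨f, hf, P, φ, hφ⟩ := Algebra.IsUnramifiedAt.exists_hasStandardEtaleSurjectionOn (R := R) m
  let E := P.Ring
  haveI : Algebra.Etale R E := inferInstance
  haveI : IsNoetherianRing E := Algebra.FiniteType.isNoetherianRing R E
  let Sf := Localization.Away f
  let mf : Ideal Sf := m.map (algebraMap S Sf)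
  have hdisj : Disjoint (Submonoid.powers f : Set S) (m : Set S) := by
    rw [Set.disjoint_left]
    rintro _ ⟨n, rfl⟩ hn
    exact hf (Ideal.IsPrime.mem_of_pow_mem inferInstance n hn)
  -- powers of `m` are saturated
  have hsat : ∀ j (y : S), algebraMap S Sf y ∈ mf ^ j → y ∈ m ^ j := by
    intro j y hy
    rw [← Ideal.map_pow, IsLocalization.algebraMap_mem_map_algebraMap_iff (Submonoid.powers f)] at hy
    obtain ⟨_, ⟨n, rfl⟩, hn⟩ := hy
    obtain ⟨t', ht'⟩ := exists_inverse_mod_pow (m := m) (t := f ^ n)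
      (fun h => hf (Ideal.IsPrime.mem_of_pow_mem inferInstance n h)) j
    rw [show y = t' * (f ^ n * y) - y * (f ^ n * t' - 1) by ring]
    exact sub_mem (Ideal.mul_mem_left _ _ hn) (Ideal.mul_mem_left _ _ ht')
  have happ : ∀ (j : ℕ) (y : Sf), ∃ a, y - algebraMap R Sf a ∈ mf ^ j := by
    intro j y
    obtain ⟨⟨b, ⟨_, n, rfl⟩⟩, hbt⟩ := IsLocalization.surj (Submonoid.powers f) y
    obtain ⟨t', ht'⟩ := exists_inverse_mod_pow (m := m) (t := f ^ n)
      (fun h => hf (Ideal.IsPrime.mem_of_pow_mem inferInstance n h)) j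
    obtain ⟨a, ha⟩ := hs j (b * t')
    refine ⟨a, ?_⟩
    have h1 : algebraMap S Sf (f ^ n * t' - 1) ∈ mf ^ j := by
      rw [← Ideal.map_pow]; exact Ideal.mem_map_of_mem _ ht'
    have h2 : algebraMap S Sf (b * t' - algebraMap R S a) ∈ mf ^ j := by
      rw [← Ideal.map_pow]; exact Ideal.mem_map_of_mem _ ha
    have e : y - algebraMap R Sf a =
        algebraMap S Sf (b * t' - algebraMap R S a) - y * algebraMap S Sf (f ^ n * t' - 1) := by
      simp only [map_sub, map_mul, map_one, ← IsScalarTower.algebraMap_apply] at hbt ⊢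
      rw [← hbt]
      ring
    rw [e]
    exact sub_mem h2 (Ideal.mul_mem_left _ _ h1)
  let e : Ideal E := mf.comap φ.toRingHom
  have hmfne : mf ≠ ⊤ := fun h => by
    have := hsat 1 1 (by rw [pow_one, h]; exact Submodule.mem_top)
    rw [pow_one] at this
    exact ‹m.IsMaximal›.ne_top ((Ideal.eq_top_iff_one m).2 this)
  have hene : (1 : E) ∉ e := fun h => hmfne ((Ideal.eq_top_iff_one _).2 (by simpa [e] using h))
  -- the point generates
  let Q := E ⧸ ((m.comap (algebraMap R S)).map (algebraMap R E) ⊔ e ^ 2)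
  let π : E →ₐ[R] Q := Ideal.Quotient.mkₐ R _
  let eb : Ideal Q := e.map π.toRingHom
  have heb : eb ^ 2 = ⊥ := by
    rw [← Ideal.map_pow, eq_bot_iff, Ideal.map_le_iff_le_comap]
    intro x hx
    exact Ideal.Quotient.eq_zero_iff_mem.2 (le_sup_right (a := (m.comap (algebraMap R S)).map (algebraMap R E)) hx)
  have hn0 : ∀ a, algebraMap R E a ∈ e → algebraMap R Q a = 0 := by
    intro a ha
    have h1 : algebraMap R Sf a ∈ mf := by
      have h := ha
      rwa [Ideal.mem_comap, AlgHom.toRingHom_eq_coe, RingHom.coe_coe, AlgHom.commutes] at h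
    rw [IsScalarTower.algebraMap_apply R S Sf] at h1
    have h2 := hsat 1 _ (by rw [pow_one]; exact h1)
    rw [pow_one] at h2
    exact Ideal.Quotient.eq_zero_iff_mem.2 (le_sup_left (b := e ^ 2) (Ideal.mem_map_of_mem (algebraMap R E) h2))
  have he0 : ∀ x : E, ∃ a, x - algebraMap R E a ∈ e := fun x => by
    obtain ⟨a, ha⟩ := happ 1 (φ x)
    refine ⟨a, ?_⟩
    rw [pow_one] at ha
    show φ (x - algebraMap R E a) ∈ mf
    rwa [map_sub, AlgHom.commutes]
  choose r hr using he0
  have hwell : ∀ x a, x - algebraMap R E a ∈ e → algebraMap R Q (r x) = algebraMap R Q a := by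
    intro x a ha
    rw [← sub_eq_zero, ← map_sub]
    refine hn0 _ ?_
    rw [map_sub, show algebraMap R E (r x) - algebraMap R E a =
      (x - algebraMap R E a) - (x - algebraMap R E (r x)) by ring]
    exact e.sub_mem ha (hr x)
  let σ : E →ₐ[R] Q :=
    { toFun := fun x => algebraMap R Q (r x)
      map_one' := by rw [hwell 1 1 (by rw [map_one, sub_self]; exact e.zero_mem), map_one]
      map_mul' := fun x y => by
        rw [← map_mul, hwell (x * y) (r x * r y) ?_]
        rw [map_mul, show x * y - algebraMap R E (r x) * algebraMap R E (r y) =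
          x * (y - algebraMap R E (r y)) + algebraMap R E (r y) * (x - algebraMap R E (r x)) by ring]
        exact e.add_mem (e.mul_mem_left _ (hr y)) (e.mul_mem_left _ (hr x))
      map_zero' := by rw [hwell 0 0 (by rw [map_zero, sub_self]; exact e.zero_mem), map_zero]
      map_add' := fun x y => by
        rw [← map_add, hwell (x + y) (r x + r y) ?_]
        rw [map_add, show x + y - (algebraMap R E (r x) + algebraMap R E (r y)) =
          (x - algebraMap R E (r x)) + (y - algebraMap R E (r y)) by ring]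
        exact e.add_mem (hr x) (hr y)
      commutes' := fun a => hwell _ a (by rw [sub_self]; exact e.zero_mem) }
  have hπσ : π = σ := Algebra.FormallyUnramified.ext (I := eb) ⟨2, heb⟩ fun x => by
    rw [Ideal.Quotient.eq]
    show π x - algebraMap R Q (r x) ∈ eb
    rw [← π.commutes (r x), ← map_sub]
    exact Ideal.mem_map_of_mem π.toRingHom (hr x)
  have hgen : e ≤ (m.comap (algebraMap R S)).map (algebraMap R E) ⊔ e ^ 2 := by
    intro x hx
    refine Ideal.Quotient.eq_zero_iff_mem.1 ?_
    have h := AlgHom.congr_fun hπσ x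
    refine h.trans ?_
    show algebraMap R Q (r x) = 0
    rw [hwell x 0 (by rw [map_zero, sub_zero]; exact hx), map_zero]
  -- every element is a constant modulo `e ^ j`
  have hpow : ∀ j, ∀ x ∈ e ^ j, ∃ a ∈ (m.comap (algebraMap R S)) ^ j, x - algebraMap R E a ∈ e ^ (j + 1) := by
    intro j
    induction j with
    | zero =>
      intro x _
      exact ⟨r x, by simp, by rw [pow_one]; exact hr x⟩
    | succ j ih =>
      intro x hx
      rw [pow_succ] at hx
      refine Submodule.mul_induction_on hx (fun p hp q hq => ?_) (fun p q ⟨a, ha, hpa⟩ ⟨b, hb, hqb⟩ =>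
        ⟨a + b, add_mem ha hb, by
          rw [map_add, show p + q - (algebraMap R E a + algebraMap R E b) =
            (p - algebraMap R E a) + (q - algebraMap R E b) by ring]
          exact add_mem hpa hqb⟩)
      obtain ⟨a, ha, hpa⟩ := ih p hp
      obtain ⟨z, hz, y, hy, rfl⟩ := Submodule.mem_sup.1 (hgen hq)
      have hz' : ∃ b ∈ m.comap (algebraMap R S), z - algebraMap R E b ∈ e ^ 2 := by
        refine Submodule.span_induction ?_ ⟨0, zero_mem _, by simp⟩ (fun p q _ _ ⟨a, ha, hpa⟩ ⟨b, hb, hqb⟩ =>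
          ⟨a + b, add_mem ha hb, by
            rw [map_add, show p + q - (algebraMap R E a + algebraMap R E b) =
              (p - algebraMap R E a) + (q - algebraMap R E b) by ring]
            exact add_mem hpa hqb⟩) (fun c p _ ⟨a, ha, hpa⟩ => ?_) hz
        · rintro _ ⟨b, hb, rfl⟩; exact ⟨b, hb, by simp⟩
        · refine ⟨r c * a, Ideal.mul_mem_left _ _ ha, ?_⟩
          have hae : algebraMap R E a ∈ e := by
            show φ (algebraMap R E a) ∈ mf
            rw [AlgHom.commutes, IsScalarTower.algebraMap_apply R S Sf]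
            exact Ideal.mem_map_of_mem _ ha
          rw [smul_eq_mul, map_mul, show c * p - algebraMap R E (r c) * algebraMap R E a =
            c * (p - algebraMap R E a) + (c - algebraMap R E (r c)) * algebraMap R E a by ring]
          refine add_mem (Ideal.mul_mem_left _ _ hpa) ?_
          rw [pow_two]
          exact Ideal.mul_mem_mul (hr c) hae
      obtain ⟨b, hb, hzb⟩ := hz'
      refine ⟨a * b, by rw [pow_succ]; exact Ideal.mul_mem_mul ha hb, ?_⟩
      have hae : algebraMap R E a ∈ e ^ j := by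
        have h1 : algebraMap R E a = p - (p - algebraMap R E a) := by ring
        rw [h1]
        exact sub_mem hp (Ideal.pow_le_pow_right (Nat.le_succ j) hpa)
      rw [map_mul, show p * (z + y) - algebraMap R E a * algebraMap R E b =
        (p - algebraMap R E a) * (z + y) + algebraMap R E a * ((z - algebraMap R E b) + y) by ring]
      refine add_mem ?_ ?_
      · rw [pow_succ _ (j + 1)]
        exact Ideal.mul_mem_mul hpa hq
      · rw [show j + 1 + 1 = j + 2 by ring, pow_add]
        exact Ideal.mul_mem_mul hae (add_mem hzb hy)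
  have hconst : ∀ (j : ℕ) (x : E), ∃ a, x - algebraMap R E a ∈ e ^ j := by
    intro j
    induction j with
    | zero => exact fun x => ⟨0, by simp⟩
    | succ j ih =>
      intro x
      obtain ⟨a, ha⟩ := ih x
      obtain ⟨b, -, hb⟩ := hpow j _ ha
      exact ⟨a + b, by rw [map_add, show x - (algebraMap R E a + algebraMap R E b) =
        x - algebraMap R E a - algebraMap R E b by ring]; exact hb⟩
  have hker : ∀ x, φ x = 0 → ∃ s, s ∉ e ∧ s * x = 0 := by
    intro x hx
    have hmem : x ∈ (⨅ i : ℕ, e ^ i • ⊤ : Submodule E E) := by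
      refine Submodule.mem_iInf _ |>.2 fun i => ?_
      rw [smul_eq_mul, Ideal.mul_top]
      obtain ⟨j, hj⟩ := hi i
      obtain ⟨a, ha⟩ := hconst (max i j) x
      have h1 : φ (x - algebraMap R E a) ∈ mf ^ (max i j) :=
        (Ideal.le_comap_pow φ.toRingHom (max i j)) ha
      rw [map_sub, hx, zero_sub, AlgHom.commutes, IsScalarTower.algebraMap_apply R S Sf] at h1
      have h2 := hj a (Ideal.pow_le_pow_right (le_max_right i j) (hsat _ _ ((Ideal.neg_mem_iff _).1 h1)))
      have h3 : algebraMap R E a ∈ e ^ i := by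
        have h4 := Ideal.mem_map_of_mem (algebraMap R E) h2
        rw [Ideal.map_pow] at h4
        refine Ideal.pow_right_mono (Ideal.map_le_iff_le_comap.2 fun b hb => ?_) i h4
        show φ (algebraMap R E b) ∈ mf
        rw [AlgHom.commutes, IsScalarTower.algebraMap_apply R S Sf]
        exact Ideal.mem_map_of_mem _ hb
      rw [show x = (x - algebraMap R E a) + algebraMap R E a by ring]
      exact add_mem (Ideal.pow_le_pow_right (le_max_left i j) ha) h3
    obtain ⟨c, hc⟩ := (Ideal.mem_iInf_smul_pow_eq_bot_iff e x).1 hmem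
    refine ⟨1 - c, fun h => hene (by simpa using e.add_mem h c.2), ?_⟩
    rw [sub_mul, one_mul, ← smul_eq_mul (c : E), hc, sub_self]
  obtain ⟨T, hT⟩ := (IsNoetherian.noetherian (RingHom.ker φ.toRingHom) : (RingHom.ker φ.toRingHom).FG)
  choose! s hse hsx using hker
  let s₀ : E := ∏ x ∈ T, s x
  have hTker : ∀ x ∈ T, φ x = 0 := fun x hx => (hT.le (Ideal.subset_span hx) : x ∈ RingHom.ker φ.toRingHom)
  have hprime : e.IsPrime := by
    haveI : mf.IsPrime := IsLocalization.isPrime_of_isPrime_disjoint (Submonoid.powers f) Sf m inferInstance hdisj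
    exact Ideal.IsPrime.comap φ.toRingHom
  have hs₀e : s₀ ∉ e := fun h => by
    obtain ⟨x, hx, hxe⟩ := hprime.prod_mem_iff.1 h
    exact hse x (hTker x hx) hxe
  have hs₀ : ∀ x, φ x = 0 → s₀ * x = 0 := by
    intro x hx
    have hx' : x ∈ Ideal.span (T : Set E) := hT.symm.le (show x ∈ RingHom.ker φ.toRingHom from hx)
    induction hx' using Submodule.span_induction with
    | mem y hy =>
      rw [show s₀ = (∏ z ∈ T.erase y, s z) * s y from (Finset.prod_erase_mul T s hy).symm, mul_assoc,
        hsx y (hTker y hy), mul_zero]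
    | zero => rw [mul_zero]
    | add p q hp hq ihp ihq =>
      rw [mul_add, ihp (by exact (show p ∈ RingHom.ker φ.toRingHom from hT.le hp)),
        ihq (by exact (show q ∈ RingHom.ker φ.toRingHom from hT.le hq)), add_zero]
    | smul c p hp ihp =>
      rw [smul_eq_mul, mul_left_comm, ihp (show p ∈ RingHom.ker φ.toRingHom from hT.le hp), mul_zero]
  -- conclusion
  let Φ : Localization.Away s₀ →ₐ[R] Localization.Away (φ s₀) := Localization.awayMapₐ φ s₀
  have hΦ : Function.Bijective Φ := by
    refine ⟨?_, Localization.awayMap_surjective_iff.2 fun a => ?_⟩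
    · rw [injective_iff_map_eq_zero]
      intro y hy
      obtain ⟨⟨b, ⟨_, n, rfl⟩⟩, hbt⟩ := IsLocalization.surj (Submonoid.powers s₀) y
      have h1 := congrArg Φ hbt
      rw [map_mul, hy, zero_mul] at h1
      have h2 : algebraMap Sf (Localization.Away (φ s₀)) (φ b) = 0 := by
        rw [h1]
        exact ((IsLocalization.map_eq (S := Localization.Away s₀) (Q := Localization.Away (φ s₀)) (M := Submonoid.powers s₀) (T := Submonoid.powers (φ s₀)) (g := φ.toRingHom) (hy := fun t ht => by obtain ⟨q, rfl⟩ := ht; exact ⟨q, (map_pow _ _ _).symm⟩) b).symm)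
      obtain ⟨⟨_, n', rfl⟩, hn'⟩ := (IsLocalization.map_eq_zero_iff (Submonoid.powers (φ s₀)) _ _).1 h2
      have h3 : s₀ * (s₀ ^ n' * b) = 0 := hs₀ _ (by rw [map_mul, map_pow]; exact hn')
      refine (IsLocalization.map_units (Localization.Away s₀)
        (⟨s₀ ^ n, n, rfl⟩ : Submonoid.powers s₀)).mul_left_eq_zero.1 ?_
      rw [hbt]
      exact (IsLocalization.map_eq_zero_iff (Submonoid.powers s₀) _ _).2 ⟨⟨s₀ ^ (n' + 1), n' + 1, rfl⟩, by
        show s₀ ^ (n' + 1) * b = 0
        rw [pow_succ', mul_assoc, h3]⟩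
    · obtain ⟨b, hb⟩ := hφ a
      exact ⟨b, 0, by rw [pow_zero, one_mul]; exact hb⟩
  haveI : Algebra.Etale R (Localization.Away s₀) :=
    Algebra.Etale.comp R E (Localization.Away s₀)
  haveI : Algebra.Etale R (Localization.Away (φ s₀)) := Algebra.Etale.of_equiv (AlgEquiv.ofBijective Φ hΦ)
  obtain ⟨⟨b, ⟨_, n, rfl⟩⟩, hbt⟩ := IsLocalization.surj (Submonoid.powers f) (φ s₀)
  have hb : b ∉ m := by
    intro hbm
    apply hs₀e
    show φ s₀ ∈ mf
    have h1 : φ s₀ * algebraMap S Sf (f ^ n) ∈ mf := by rw [hbt]; exact Ideal.mem_map_of_mem _ hbm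
    exact (Ideal.mul_unit_mem_iff_mem mf (IsLocalization.map_units Sf (⟨f ^ n, n, rfl⟩ : Submonoid.powers f))).1 h1
  refine ⟨f * b, fun h => (Ideal.IsPrime.mem_or_mem inferInstance h).elim hf hb, ?_⟩
  haveI : IsLocalization.Away (algebraMap S Sf b) (Localization.Away (φ s₀)) :=
    IsLocalization.Away.of_associated (r := φ s₀)
      ⟨(IsLocalization.map_units Sf (⟨f ^ n, n, rfl⟩ : Submonoid.powers f)).unit, hbt⟩
  haveI : IsLocalization.Away (f * b) (Localization.Away (φ s₀)) :=
    IsLocalization.Away.mul' Sf _ _ _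
  exact Algebra.Etale.of_equiv
    (((IsLocalization.algEquiv (Submonoid.powers (f * b)) (Localization.Away (φ s₀))
      (Localization.Away (f * b))).restrictScalars R))

end LunaLib

end
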