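import Mathlib
import Groth.Agent.LunaLib.Etale

/-! # A Jacobian criterion at a rational point

A smooth algebra over affine space is etale at a point if it is generated by the coordinates modulo the square of
the point and has derivations dual to the coordinates at the point. -/

set_option autoImplicit false
set_option maxHeartbeats 1000000
set_option synthInstance.maxHeartbeats 400000

noncomputable section

open TensorProduct MvPolynomial

namespace LunaLib

universe u

variable {k : Type u} [Field k] {r : ℕ} {B : Type u} [CommRing B] [Algebra k B]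
  [Algebra (MvPolynomial (Fin r) k) B] [IsScalarTower k (MvPolynomial (Fin r) k) B]

/-- Etaleness at a point from derivations dual to the coordinates. -/
theorem isEtaleAt_of_derivation [Algebra.FiniteType k B] [Algebra.FormallySmooth k B]
    (e : B →ₐ[k] k) (m : Ideal B) [m.IsMaximal] (hm : m = RingHom.ker e.toRingHom)
    (hs : ∀ b, ∃ a, b - algebraMap (MvPolynomial (Fin r) k) B a ∈ m ^ 2)
    (D : Fin r → Derivation k B B)
    (hD : ∀ i j, e (D i (algebraMap (MvPolynomial (Fin r) k) B (X j))) = if i = j then 1 else 0) :
    Algebra.IsEtaleAt (MvPolynomial (Fin r) k) m := by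
  classical
  let T := MvPolynomial (Fin r) k
  haveI : Algebra.FiniteType T B := Algebra.FiniteType.of_restrictScalars_finiteType k T B
  show (⟨m, inferInstance⟩ : PrimeSpectrum B) ∈ Algebra.etaleLocus T B
  rw [Algebra.etaleLocus_eq_compl_support]
  refine ⟨?_, ?_⟩
  · have h : (⟨m, inferInstance⟩ : PrimeSpectrum B) ∈ Algebra.unramifiedLocus T B :=
      isUnramifiedAt_of_surjective (R := T) m hs
    rwa [Algebra.unramifiedLocus_eq_compl_support] at h
  let G : Matrix (Fin r) (Fin r) B := Matrix.of fun i j => D i (algebraMap T B (X j))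
  have hdet : G.det ∉ m := by
    rw [hm, RingHom.mem_ker]
    have h1 : e.toRingHom G.det = (G.map e).det := e.toRingHom.map_det G
    have h2 : G.map e = 1 := by
      ext i j
      rw [Matrix.one_apply]
      exact hD i j
    rw [h1, h2, Matrix.det_one]
    exact one_ne_zero
  show (⟨m, inferInstance⟩ : PrimeSpectrum B) ∉ Module.support B (Algebra.H1Cotangent T B)
  rw [Module.notMem_support_iff']
  intro ξ
  refine ⟨G.det, hdet, ?_⟩
  let bT := KaehlerDifferential.mvPolynomialBasis k (Fin r)
  let bB := Algebra.TensorProduct.basis B bT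
  let y := Algebra.H1Cotangent.δ k T B ξ
  have hy : KaehlerDifferential.mapBaseChange k T B y = 0 :=
    (Algebra.H1Cotangent.exact_δ_mapBaseChange (R := k) (S := T) (T := B)).apply_apply_eq_zero ξ
  let c : Fin r → B := fun j => bB.repr y j
  have hbas : ∀ j, bB j = (1 : B) ⊗ₜ[T] KaehlerDifferential.D k T (X j) := fun j => by
    rw [Algebra.TensorProduct.basis_apply]
    refine congrArg _ ?_
    refine bT.repr.injective ?_
    rw [bT.repr_self, KaehlerDifferential.mvPolynomialBasis_repr_D, mkDerivation_X]
  have hGc : G.mulVec c = 0 := by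
    funext i
    have h := congrArg (D i).liftKaehlerDifferential hy
    rw [map_zero, ← bB.sum_repr y] at h
    simp only [map_sum, map_smul, hbas, KaehlerDifferential.mapBaseChange_tmul, one_smul,
      KaehlerDifferential.map_D, Derivation.liftKaehlerDifferential_comp_D, smul_eq_mul] at h
    simp only [Matrix.mulVec, dotProduct, Pi.zero_apply]
    refine Eq.trans (Finset.sum_congr rfl fun j _ => ?_) h
    rw [mul_comm]
    rfl
  have hc : ∀ j, G.det * c j = 0 := fun j => by
    have h := congrArg (G.adjugate.mulVec) hGc
    rw [Matrix.mulVec_mulVec, Matrix.adjugate_mul, Matrix.smul_mulVec, Matrix.one_mulVec, Matrix.mulVec_zero] at h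
    exact congrFun h j
  have hy0 : Algebra.H1Cotangent.δ k T B (G.det • ξ) = 0 := by
    rw [map_smul]
    refine bB.repr.injective ?_
    rw [map_smul, map_zero]
    ext j
    exact hc j
  obtain ⟨η, hη⟩ := (Algebra.H1Cotangent.exact_map_δ (R := k) (S := T) (T := B) _).1 hy0
  haveI : Subsingleton (Algebra.H1Cotangent k B) := Algebra.FormallySmooth.subsingleton_h1Cotangent
  rw [← hη, Subsingleton.elim η 0, map_zero]

end LunaLib

end
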