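import Mathlib
import Groth.Agent.LunaLib.Averaging
import Groth.Agent.LunaLib.EtaleCrit

/-! # The normal bundle of a smooth homogeneous variety in a representation

For an equivariant closed embedding of a smooth affine variety in a representation, an equivariant projection of
the trivial bundle onto the conormal directions gives an equivariant map from a vector bundle over the variety
which is etale along the zero section. -/

set_option autoImplicit false
set_option maxHeartbeats 2000000
set_option synthInstance.maxHeartbeats 400000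

noncomputable section

open TensorProduct HopfRep WithConv MvPolynomial
open scoped ComodLib Matrix

namespace LunaLib.Pts

universe u

variable (k : Type u) [Field k] (A : Type u) [CommRing A] [HopfAlgebra k A]

/-- The trivial coaction on the base field. -/
@[reducible] def trivComod : Comod k A k where
  coact := (TensorProduct.mk k k A).flip 1
  coassoc := LinearMap.ext fun a => by simp [Bialgebra.comul_one, Algebra.TensorProduct.one_def]
  counit_comp := LinearMap.ext fun a => by simp

attribute [local instance] trivComod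

/-- The trivial coaction is multiplicative. -/
theorem trivIsCoactAlg : GLin.IsCoactAlg k A k :=
  ⟨rfl, fun f g => by
    show (f * g) ⊗ₜ[k] (1 : A) = (f ⊗ₜ[k] (1 : A)) * (g ⊗ₜ[k] (1 : A))
    rw [Algebra.TensorProduct.tmul_mul_tmul, mul_one]⟩

attribute [local instance] trivIsCoactAlg

variable {k A} [IsAlgClosed k] [Algebra.FiniteType k A] [IsReduced A]
  {C : Type u} [CommRing C] [Algebra k C] [Comod k A C] [GLin.IsCoactAlg k A C] {r : ℕ}

local notation "σ" => GLinFinLib.Zmt.actHom

/-- The tautological element attached to a relation among the differentials. -/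
def relElt (v c : Fin r → C) : C ⊗[k] C :=
  ∑ i, (c i ⊗ₜ[k] (1 : C)) * ((1 : C) ⊗ₜ[k] v i - v i ⊗ₜ[k] (1 : C))

omit [IsAlgClosed k] [Algebra.FiniteType k A] [IsReduced A] [Comod k A C] [GLin.IsCoactAlg k A C] in
theorem relElt_mem (v c : Fin r → C) : relElt (k := k) v c ∈ KaehlerDifferential.ideal k C :=
  Ideal.sum_mem _ fun i _ => Ideal.mul_mem_left _ _ (KaehlerDifferential.one_smul_sub_smul_one_mem_ideal k _)

omit [IsAlgClosed k] [Algebra.FiniteType k A] [IsReduced A] [Comod k A C] [GLin.IsCoactAlg k A C] in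
theorem toCotangent_relElt (v c : Fin r → C) :
    (KaehlerDifferential.ideal k C).toCotangent ⟨relElt v c, relElt_mem v c⟩ =
      ∑ i, c i • KaehlerDifferential.D k C (v i) := by
  have e : (⟨relElt v c, relElt_mem v c⟩ : KaehlerDifferential.ideal k C) =
      ∑ i, (c i ⊗ₜ[k] (1 : C)) • (⟨(1 : C) ⊗ₜ[k] v i - v i ⊗ₜ[k] (1 : C),
        KaehlerDifferential.one_smul_sub_smul_one_mem_ideal k (v i)⟩ : KaehlerDifferential.ideal k C) :=
    Subtype.ext (by rw [AddSubmonoidClass.coe_finsetSum]; rfl)
  rw [e, map_sum]
  refine Finset.sum_congr rfl fun i _ => ?_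
  rw [map_smul]
  show algebraMap C (C ⊗[k] C) (c i) • _ = _
  rw [algebraMap_smul]
  rfl

omit [IsAlgClosed k] [Algebra.FiniteType k A] [IsReduced A] [Comod k A C] [GLin.IsCoactAlg k A C] in
/-- A derivation of the coefficients extends to the polynomial ring with prescribed values on the variables. -/
theorem exists_polyDerivation (δ : Derivation k C C) (w : Fin r → MvPolynomial (Fin r) C) :
    ∃ D : Derivation k (MvPolynomial (Fin r) C) (MvPolynomial (Fin r) C),
      (∀ a, D (MvPolynomial.C a) = MvPolynomial.C (δ a)) ∧ ∀ l, D (X l) = w l := by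
  let P := MvPolynomial (Fin r) C
  let h : C →+* DualNumber P :=
    { toFun := fun a => TrivSqZeroExt.inl (MvPolynomial.C a) + TrivSqZeroExt.inr (MvPolynomial.C (δ a))
      map_one' := by ext <;> simp
      map_mul' := fun a b => TrivSqZeroExt.ext (by simp) (by simp [Derivation.leibniz, mul_comm])
      map_zero' := by ext <;> simp
      map_add' := fun a b => TrivSqZeroExt.ext (by simp) (by simp) }
  let Γ : P →+* DualNumber P := MvPolynomial.eval₂Hom h fun l => TrivSqZeroExt.inl (X l) + TrivSqZeroExt.inr (w l)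
  have hΓC : ∀ a, Γ (MvPolynomial.C a) =
      TrivSqZeroExt.inl (MvPolynomial.C a) + TrivSqZeroExt.inr (MvPolynomial.C (δ a)) :=
    fun a => MvPolynomial.eval₂Hom_C _ _ _
  have hΓX : ∀ l, Γ (X l) = TrivSqZeroExt.inl (X l) + TrivSqZeroExt.inr (w l) :=
    fun l => MvPolynomial.eval₂Hom_X' _ _ _
  have hfst : ∀ F, (Γ F).fst = F := fun F => by
    induction F using MvPolynomial.induction_on with
    | C a => rw [hΓC, TrivSqZeroExt.fst_add, TrivSqZeroExt.fst_inl, TrivSqZeroExt.fst_inr, add_zero]
    | add p q hp hq => rw [map_add, TrivSqZeroExt.fst_add, hp, hq]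
    | mul_X p l hp =>
      rw [map_mul, TrivSqZeroExt.fst_mul, hp, hΓX, TrivSqZeroExt.fst_add, TrivSqZeroExt.fst_inl,
        TrivSqZeroExt.fst_inr, add_zero]
  have hsnd : ∀ a, (Γ (MvPolynomial.C a)).snd = MvPolynomial.C (δ a) := fun a => by
    rw [hΓC, TrivSqZeroExt.snd_add, TrivSqZeroExt.snd_inl, TrivSqZeroExt.snd_inr, zero_add]
  have hmul : ∀ F G, (Γ (F * G)).snd = F * (Γ G).snd + G * (Γ F).snd := fun F G => by
    rw [map_mul, TrivSqZeroExt.snd_mul, hfst, hfst, op_smul_eq_smul, smul_eq_mul, smul_eq_mul]
  refine ⟨Derivation.mk' { toFun := fun F => (Γ F).snd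
                           map_add' := fun F G => by rw [map_add, TrivSqZeroExt.snd_add]
                           map_smul' := fun c F => ?_ } fun F G => hmul F G, hsnd, fun l => ?_⟩
  · rw [Algebra.smul_def, hmul, show algebraMap k P c = MvPolynomial.C (algebraMap k C c) from rfl, hsnd,
      Derivation.map_algebraMap, map_zero, mul_zero, add_zero, RingHom.id_apply, Algebra.smul_def]
    rfl
  · show (Γ (X l)).snd = w l
    rw [hΓX, TrivSqZeroExt.snd_add, TrivSqZeroExt.snd_inl, TrivSqZeroExt.snd_inr, zero_add]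

/-- An equivariant projection onto the relations of the differentials, with dual derivations. -/
theorem exists_normal [Algebra.FormallySmooth k C] (hG : IsLinearlyReductive k A)
    (v : Fin r → C) (m : Fin r → Fin r → A)
    (hmul : ∀ j i, CoalgebraStruct.comul (R := k) (m j i) = ∑ l, m j l ⊗ₜ[k] m l i)
    (hone : ∀ j i, CoalgebraStruct.counit (R := k) (m j i) = if j = i then (1 : k) else 0)
    (hv : ∀ i, Comod.coact (k := k) (A := A) (v i) = ∑ j, v j ⊗ₜ[k] m j i)
    (hgen : Function.Surjective (MvPolynomial.aeval (R := k) v)) (x₀ : C →ₐ[k] k) :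
    ∃ (P : Matrix (Fin r) (Fin r) C) (δ : Fin r → Derivation k C C),
      P * P = P ∧
      (Matrix.of fun i j => (1 : C) ⊗ₜ[k] m i j) * P.map (GLin.coactAlgHom k A C) =
        P.map (Algebra.TensorProduct.includeLeft : C →ₐ[k] C ⊗[k] A) *
          (Matrix.of fun i j => (1 : C) ⊗ₜ[k] m i j) ∧
      (∀ l, (∑ i, algebraMap k C (x₀ (P i l)) * (v i - algebraMap k C (x₀ (v i)))) ∈ RingHom.ker x₀.toRingHom ^ 2) ∧
      (∀ i j, δ i (v j) = (1 - P) i j) := by
  classical
  let d : (Fin r → C) →ₗ[C] KaehlerDifferential k C :=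
    Fintype.linearCombination C fun i => KaehlerDifferential.D k C (v i)
  have hd : ∀ c, d c = ∑ i, c i • KaehlerDifferential.D k C (v i) := fun c => rfl
  have hdI : ∀ c, d c = 0 ↔ relElt (k := k) v c ∈ KaehlerDifferential.ideal k C ^ 2 := fun c => by
    rw [hd, ← toCotangent_relElt]
    exact Ideal.toCotangent_eq_zero (KaehlerDifferential.ideal k C) _
  have hdsurj : Function.Surjective d := by
    rw [← LinearMap.range_eq_top, eq_top_iff, ← KaehlerDifferential.span_range_derivation, Submodule.span_le]
    rintro _ ⟨c, rfl⟩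
    obtain ⟨p, rfl⟩ := hgen c
    induction p using MvPolynomial.induction_on with
    | C a =>
      rw [MvPolynomial.aeval_C, Derivation.map_algebraMap]
      exact zero_mem _
    | add p q hp hq => rw [map_add, map_add]; exact add_mem hp hq
    | mul_X p i hp =>
      rw [map_mul, MvPolynomial.aeval_X, Derivation.leibniz]
      refine add_mem (Submodule.smul_mem _ _ ⟨Pi.single i 1, ?_⟩) (Submodule.smul_mem _ _ hp)
      simp [hd, Pi.single_apply, ite_smul]
  obtain ⟨sec, hsec⟩ := Module.projective_lifting_property d LinearMap.id hdsurj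
  have hds : ∀ ω, d (sec ω) = ω := LinearMap.congr_fun hsec
  let N : Submodule C (Fin r → C) := LinearMap.ker d
  let P₀ : Matrix (Fin r) (Fin r) C := LinearMap.toMatrix' (LinearMap.id - sec ∘ₗ d)
  have hP₀ : ∀ c, P₀ *ᵥ c = c - sec (d c) := fun c => by
    rw [← Matrix.toLin'_apply, Matrix.toLin'_toMatrix']
    rfl
  have h0 : ∀ j, P₀.col j ∈ N := fun j => by
    have e : P₀.col j = P₀ *ᵥ Pi.single j 1 := by
      rw [Matrix.mulVec_single_one]
    rw [e, hP₀, LinearMap.mem_ker, map_sub, hds, sub_self]
  have h0' : ∀ c ∈ N, P₀ *ᵥ c = c := fun c hc => by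
    rw [hP₀, LinearMap.mem_ker.1 hc, map_zero, sub_zero]
  have hstab : ∀ g : A →ₐ[k] k, ∀ c ∈ N, actVec m g c ∈ N := by
    intro g c hc
    rw [LinearMap.mem_ker, hdI] at hc ⊢
    let τ := Algebra.TensorProduct.map (σ g : C →ₐ[k] C) (σ g : C →ₐ[k] C)
    have hτI : ∀ z ∈ KaehlerDifferential.ideal k C, τ z ∈ KaehlerDifferential.ideal k C := fun z hz => by
      have e : ∀ t, Algebra.TensorProduct.lmul' k (τ t) = σ g (Algebra.TensorProduct.lmul' k t) := fun t => by
        induction t with
        | zero => simp
        | add a b ha hb => simp only [map_add, ha, hb]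
        | tmul a b => simp [τ]
      show Algebra.TensorProduct.lmul' k (τ z) = 0
      rw [e, show Algebra.TensorProduct.lmul' k z = 0 from hz, map_zero]
    have h2 : τ (relElt v c) ∈ KaehlerDifferential.ideal k C ^ 2 :=
      (Ideal.le_comap_pow τ.toRingHom 2) (Ideal.pow_right_mono (fun z hz => hτI z hz) 2 hc)
    suffices e : relElt v (actVec m g c) = τ (relElt v c) by rw [e]; exact h2
    have hσv : ∀ j, σ g (v j) = ∑ i, g (m i j) • v i := fun j => by
      rw [GLinFinLib.Zmt.actHom_apply, hv, map_sum]
      simp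
    simp only [relElt, actVec, map_sum, map_mul, map_sub, τ, Algebra.TensorProduct.map_tmul, map_one, hσv,
      TensorProduct.sum_tmul, TensorProduct.tmul_sum, Finset.sum_mul, ← Finset.sum_sub_distrib, Finset.mul_sum]
    rw [Finset.sum_comm]
    refine Finset.sum_congr rfl fun j _ => Finset.sum_congr rfl fun i _ => ?_
    simp only [Algebra.smul_def, mul_sub, Algebra.TensorProduct.tmul_mul_tmul, mul_one, one_mul]
    congr 1
    · rw [← Algebra.smul_def, ← Algebra.smul_def, TensorProduct.smul_tmul]
    · rw [show algebraMap k C (g (m i j)) * σ g (c j) * v i = σ g (c j) * (algebraMap k C (g (m i j)) * v i) by ring]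
  obtain ⟨P, hPcol, hPfix, hPeq⟩ := exists_projection hG m hmul hone N hstab P₀ h0 h0'
  have hPP : P * P = P := by
    ext i j
    exact congrFun (hPfix _ (hPcol j)) i
  let δ : Fin r → Derivation k C C := fun i =>
    ((LinearMap.proj i).comp ((Matrix.mulVecLin (1 - P)).comp sec)).compDer (KaehlerDifferential.D k C)
  refine ⟨P, δ, hPP, hPeq, fun l => ?_, fun i j => ?_⟩
  · have h := (hdI (P.col l)).1 (hPcol l)
    let F : C ⊗[k] C →ₐ[k] C :=
      Algebra.TensorProduct.lift ((Algebra.ofId k C).comp x₀) (AlgHom.id k C) fun _ _ => Commute.all _ _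
    have hFI : ∀ z ∈ KaehlerDifferential.ideal k C, F z ∈ RingHom.ker x₀.toRingHom := by
      intro z hz
      have e : ∀ t, x₀ (F t) = x₀ (Algebra.TensorProduct.lmul' k t) := fun t => by
        induction t with
        | zero => simp
        | add a b ha hb => simp only [map_add, ha, hb]
        | tmul a b => simp [F]
      show x₀ (F z) = 0
      rw [e, show Algebra.TensorProduct.lmul' k z = 0 from hz, map_zero]
    have h2 : F (relElt v (P.col l)) ∈ RingHom.ker x₀.toRingHom ^ 2 :=
      (Ideal.le_comap_pow F.toRingHom 2) (Ideal.pow_right_mono (fun z hz => hFI z hz) 2 h)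
    convert h2 using 1
    simp [relElt, F, Matrix.col]
  · let ej : Fin r → C := Pi.single j 1
    have hdj : d ej = KaehlerDifferential.D k C (v j) := by
      simp [hd, ej, Pi.single_apply, ite_smul]
    show ((1 - P) *ᵥ sec (KaehlerDifferential.D k C (v j))) i = _
    have hQ : (1 - P) *ᵥ (ej - sec (d ej)) = 0 := by
      rw [Matrix.sub_mulVec, Matrix.one_mulVec, sub_eq_zero]
      refine (hPfix _ ?_).symm
      rw [LinearMap.mem_ker, map_sub, hds, sub_self]
    rw [Matrix.mulVec_sub, sub_eq_zero] at hQ
    rw [← hdj, ← hQ, Matrix.mulVec_single_one]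
    rfl

/-- The normal bundle. -/
theorem exists_normalBundle [Algebra.FormallySmooth k C] [Algebra.FiniteType k C] (hG : IsLinearlyReductive k A)
    (v : Fin r → C) (m : Fin r → Fin r → A)
    (hmul : ∀ j i, CoalgebraStruct.comul (R := k) (m j i) = ∑ l, m j l ⊗ₜ[k] m l i)
    (hone : ∀ j i, CoalgebraStruct.counit (R := k) (m j i) = if j = i then (1 : k) else 0)
    (hv : ∀ i, Comod.coact (k := k) (A := A) (v i) = ∑ j, v j ⊗ₜ[k] m j i)
    (hgen : Function.Surjective (MvPolynomial.aeval (R := k) v)) (x₀ : C →ₐ[k] k) :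
    letI := GLinFinLib.polyComod (k := k) (A := k) m hmul hone
    ∃ (B : Type u) (_ : CommRing B) (_ : Algebra k B) (_ : Comod k A B) (_ : GLin.IsCoactAlg k A B)
      (φ : MvPolynomial (Fin r) k →ₐ[k] B) (inc : C →ₐ[k] B) (e : B →ₐ[k] k),
      Algebra.FiniteType k B ∧ Hoch.IsComodHom A φ.toLinearMap ∧ Hoch.IsComodHom A inc.toLinearMap ∧
      (∀ c, e (inc c) = x₀ c) ∧ (∀ j, e (φ (X j)) = x₀ (v j)) ∧
      (∀ g : A →ₐ[k] k, (∀ c, x₀ (σ g c) = x₀ c) → GLin.actPt k g e = e) ∧
      (letI := φ.toRingHom.toAlgebra
       haveI : (RingHom.ker e.toRingHom).IsPrime := RingHom.ker_isPrime _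
       Algebra.IsEtaleAt (MvPolynomial (Fin r) k) (RingHom.ker e.toRingHom)) := by
  classical
  letI cT := GLinFinLib.polyComod (k := k) (A := k) m hmul hone
  obtain ⟨P, δ, hPP, hPeq, hPx, hδ⟩ := exists_normal hG v m hmul hone hv hgen x₀
  letI cP := GLinFinLib.polyComod (k := k) (A := C) m hmul hone
  haveI : GLin.IsCoactAlg k A (MvPolynomial (Fin r) C) :=
    ⟨map_one (GLinFinLib.polyCoact (k := k) (A := C) m), map_mul (GLinFinLib.polyCoact (k := k) (A := C) m)⟩
  let cC : C →ₐ[k] MvPolynomial (Fin r) C := GLinFinLib.constHom (k := k) C r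
  have hcC : ∀ a, cC a = MvPolynomial.C a := fun a => rfl
  let U : Fin r → MvPolynomial (Fin r) C := fun i => X i - MvPolynomial.C (v i)
  let Y : Fin r → MvPolynomial (Fin r) C := fun j =>
    MvPolynomial.C (v j) + ∑ i, MvPolynomial.C (P i j) * U i
  let s : MvPolynomial (Fin r) C →ₐ[k] MvPolynomial (Fin r) C := (MvPolynomial.aeval (R := C) Y).restrictScalars k
  have hsC : ∀ a, s (MvPolynomial.C a) = MvPolynomial.C a := fun a => MvPolynomial.aeval_C _ _
  have hsX : ∀ i, s (X i) = Y i := fun i => MvPolynomial.aeval_X _ _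
  have hsY : ∀ j, s (Y j) = Y j := by
    intro j
    have e : ∀ i, s (U i) = ∑ l, MvPolynomial.C (P l i) * U l := fun i => by
      simp only [U, map_sub, hsC, hsX]
      simp [Y, U]
    show s (MvPolynomial.C (v j) + ∑ i, MvPolynomial.C (P i j) * U i) = _
    simp only [map_add, map_sum, map_mul, hsC, e, Finset.mul_sum]
    rw [Finset.sum_comm]
    show _ = MvPolynomial.C (v j) + ∑ i, MvPolynomial.C (P i j) * U i
    congr 1
    refine Finset.sum_congr rfl fun l _ => ?_
    conv_rhs => rw [← hPP, Matrix.mul_apply, map_sum, Finset.sum_mul]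
    refine Finset.sum_congr rfl fun i _ => ?_
    rw [map_mul]
    ring
  have hss : ∀ F, s (s F) = s F := fun F => by
    have h : s.comp s = s := GLinFinLib.algHom_ext_poly (fun a => by rw [AlgHom.comp_apply, hsC, hsC])
      (fun i => by rw [AlgHom.comp_apply, hsX, hsY])
    exact AlgHom.congr_fun h F
  -- equivariance
  let pc := GLinFinLib.polyCoact (k := k) (A := C) m
  have hpU : ∀ i, pc (U i) = ∑ l, U l ⊗ₜ[k] m l i := fun i => by
    simp only [pc, U, map_sub, GLinFinLib.polyCoact_X, GLinFinLib.polyCoact_C, hv, map_sum,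
      Algebra.TensorProduct.map_tmul, AlgHom.id_apply, TensorProduct.sub_tmul, Finset.sum_sub_distrib]
    rfl
  have hpY : ∀ j, pc (Y j) = ∑ l, Y l ⊗ₜ[k] m l j := by
    intro j
    let cm := Algebra.TensorProduct.map cC (AlgHom.id k A)
    have h1 : pc (∑ i, MvPolynomial.C (P i j) * U i) =
        ∑ l, (U l ⊗ₜ[k] (1 : A)) *
          cm (((Matrix.of fun i j => (1 : C) ⊗ₜ[k] m i j) * P.map (GLin.coactAlgHom k A C)) l j) := by
      simp only [map_sum, map_mul, hpU, Matrix.mul_apply, Matrix.of_apply, Matrix.map_apply, Finset.mul_sum]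
      rw [Finset.sum_comm]
      refine Finset.sum_congr rfl fun l _ => Finset.sum_congr rfl fun i _ => ?_
      rw [show pc (MvPolynomial.C (P i j)) = cm (GLin.coactAlgHom k A C (P i j)) from GLinFinLib.polyCoact_C _ _,
        show cm ((1 : C) ⊗ₜ[k] m l i) = (1 : MvPolynomial (Fin r) C) ⊗ₜ[k] m l i by simp [cm], ← mul_assoc,
        Algebra.TensorProduct.tmul_mul_tmul, mul_one, one_mul, mul_comm]
    show pc (MvPolynomial.C (v j) + ∑ i, MvPolynomial.C (P i j) * U i) = _
    rw [map_add, h1, hPeq]
    simp only [Y, pc, GLinFinLib.polyCoact_C, hv, map_sum, Matrix.mul_apply, Matrix.of_apply, Matrix.map_apply,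
      Finset.mul_sum, TensorProduct.add_tmul, Finset.sum_add_distrib, TensorProduct.sum_tmul]
    congr 1
    rw [Finset.sum_comm]
    refine Finset.sum_congr rfl fun i _ => Finset.sum_congr rfl fun l _ => ?_
    simp [cm, hcC, Algebra.TensorProduct.tmul_mul_tmul, mul_comm]
  have hsc : Hoch.IsComodHom A s.toLinearMap := by
    have h : pc.comp s = (Algebra.TensorProduct.map s (AlgHom.id k A)).comp pc := by
      refine GLinFinLib.algHom_ext_poly (fun a => ?_) (fun i => ?_)
      · rw [AlgHom.comp_apply, AlgHom.comp_apply, hsC]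
        show pc (MvPolynomial.C a) = Algebra.TensorProduct.map s (AlgHom.id k A) (pc (MvPolynomial.C a))
        simp only [pc, GLinFinLib.polyCoact_C]
        generalize Comod.coact (k := k) (A := A) a = z
        induction z with
        | zero => simp
        | add p q hp hq => simp only [map_add, ← hp, ← hq]
        | tmul p q =>
          simp only [Algebra.TensorProduct.map_tmul, AlgHom.id_apply]
          rw [show GLinFinLib.constHom (k := k) C r p = MvPolynomial.C p from rfl, hsC]
      · rw [AlgHom.comp_apply, AlgHom.comp_apply, hsX, hpY,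
          show pc (X i) = ∑ l, (X l : MvPolynomial (Fin r) C) ⊗ₜ[k] m l i from GLinFinLib.polyCoact_X _ _, map_sum]
        simp [hsX]
    refine LinearMap.ext fun z => (AlgHom.congr_fun h z).trans ?_
    show _ = s.toLinearMap.rTensor A (pc z)
    rw [AlgHom.comp_apply]
    generalize pc z = w
    induction w using TensorProduct.induction_on with
    | zero => simp
    | add p q hp hq => simp only [map_add, hp, hq]
    | tmul p q => simp
  have hBsub : IsSubcomod (k := k) (A := A) s.range.toSubmodule := by
    rintro _ ⟨z, rfl⟩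
    show Comod.coact (k := k) (A := A) (s.toLinearMap z) ∈ _
    rw [← LinearMap.comp_apply, hsc, LinearMap.comp_apply]
    generalize Comod.coact (k := k) (A := A) z = w
    induction w using TensorProduct.induction_on with
    | zero => simp
    | add p q hp hq => rw [map_add]; exact add_mem hp hq
    | tmul p q => exact ⟨(⟨s p, p, rfl⟩ : s.range.toSubmodule) ⊗ₜ[k] q, rfl⟩
  obtain ⟨cB, hBalg, hval⟩ := exists_subalgComod (A := A) s.range hBsub
  letI := cB
  have hfix : ∀ b : s.range, s (b : MvPolynomial (Fin r) C) = b := by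
    rintro ⟨_, z, rfl⟩
    exact hss z
  have hinj : Function.Injective (s.range.val.toLinearMap.rTensor A) :=
    Module.Flat.rTensor_preserves_injective_linearMap _ Subtype.val_injective
  have hhom : ∀ {S : Type u} [CommRing S] [Algebra k S] [Comod k A S] (f : S →ₐ[k] s.range),
      Hoch.IsComodHom A (s.range.val.comp f).toLinearMap → Hoch.IsComodHom A f.toLinearMap := by
    intro S _ _ _ f hf
    refine LinearMap.ext fun z => hinj ?_
    show s.range.val.toLinearMap.rTensor A (Comod.coact (k := k) (A := A) (f z)) =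
      s.range.val.toLinearMap.rTensor A (f.toLinearMap.rTensor A (Comod.coact (k := k) (A := A) z))
    rw [← LinearMap.rTensor_comp_apply, show Comod.coact (k := k) (A := A) (f z) = _ from rfl]
    exact (LinearMap.congr_fun hval (f z)).symm.trans (LinearMap.congr_fun hf z)
  let inc : C →ₐ[k] s.range := cC.codRestrict s.range fun a => ⟨MvPolynomial.C a, hsC a⟩
  let φ : MvPolynomial (Fin r) k →ₐ[k] s.range :=
    MvPolynomial.aeval fun j => (⟨Y j, X j, hsX j⟩ : s.range)
  have hφX : ∀ j, (φ (X j) : MvPolynomial (Fin r) C) = Y j := fun j =>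
    congrArg Subtype.val (MvPolynomial.aeval_X _ j)
  have hcCc : Hoch.IsComodHom A cC.toLinearMap := by
    refine LinearMap.ext fun a => ?_
    show pc (MvPolynomial.C a) = cC.toLinearMap.rTensor A (Comod.coact (k := k) (A := A) a)
    simp only [pc, GLinFinLib.polyCoact_C]
    generalize Comod.coact (k := k) (A := A) a = z
    induction z with
    | zero => simp
    | add p q hp hq => simp only [map_add, hp, hq]
    | tmul p q => rfl
  have hincc : Hoch.IsComodHom A inc.toLinearMap := hhom inc hcCc
  have hφc : Hoch.IsComodHom A φ.toLinearMap := by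
    refine hhom φ ?_
    have h : pc.comp (s.range.val.comp φ) = (Algebra.TensorProduct.map (s.range.val.comp φ) (AlgHom.id k A)).comp
        (GLinFinLib.polyCoact (k := k) (A := k) m) := by
      refine MvPolynomial.algHom_ext fun i => ?_
      rw [AlgHom.comp_apply, AlgHom.comp_apply, AlgHom.comp_apply, show s.range.val (φ (X i)) = Y i from hφX i,
        hpY, GLinFinLib.polyCoact_X, map_sum]
      simp [hφX]
    refine LinearMap.ext fun z => (AlgHom.congr_fun h z).trans ?_
    show _ = (s.range.val.comp φ).toLinearMap.rTensor A (GLinFinLib.polyCoact (k := k) (A := k) m z)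
    rw [AlgHom.comp_apply]
    generalize GLinFinLib.polyCoact (k := k) (A := k) m z = w
    induction w using TensorProduct.induction_on with
    | zero => simp
    | add p q hp hq => simp only [map_add, hp, hq]
    | tmul p q => simp
  -- the point
  let ev : MvPolynomial (Fin r) C →ₐ[k] C := (MvPolynomial.aeval (R := C) v).restrictScalars k
  have hevC : ∀ a, ev (MvPolynomial.C a) = a := fun a => MvPolynomial.aeval_C _ _
  have hevX : ∀ i, ev (X i) = v i := fun i => MvPolynomial.aeval_X _ _
  have hevU : ∀ i, ev (U i) = 0 := fun i => by simp [U, hevC, hevX]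
  have hevY : ∀ j, ev (Y j) = v j := fun j => by simp [Y, hevC, hevU]
  have hevs : ∀ F, ev (s F) = ev F := fun F => by
    have h : ev.comp s = ev := GLinFinLib.algHom_ext_poly (fun a => by rw [AlgHom.comp_apply, hsC])
      (fun i => by rw [AlgHom.comp_apply, hsX, hevY, hevX])
    exact AlgHom.congr_fun h F
  let e' : MvPolynomial (Fin r) C →ₐ[k] k := x₀.comp ev
  let e : s.range →ₐ[k] k := e'.comp s.range.val
  let mB : Ideal s.range := RingHom.ker e.toRingHom
  have hmax : mB.IsMaximal := RingHom.ker_isMaximal_of_surjective _ fun c => ⟨algebraMap k _ c, by simp⟩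
  haveI : Algebra.FiniteType k (MvPolynomial (Fin r) C) :=
    Algebra.FiniteType.trans (inferInstance : Algebra.FiniteType k C) inferInstance
  haveI hBft : Algebra.FiniteType k s.range :=
    Algebra.FiniteType.of_surjective s.rangeRestrict (AlgHom.rangeRestrict_surjective s)
  refine ⟨s.range, inferInstance, inferInstance, cB, hBalg, φ, inc, e, hBft, hφc, hincc, fun c => ?_, fun j => ?_,
    fun g hg => ?_, ?_⟩
  · show x₀ (ev (MvPolynomial.C c)) = x₀ c
    rw [hevC]
  · show x₀ (ev (φ (X j) : MvPolynomial (Fin r) C)) = x₀ (v j)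
    rw [hφX, hevY]
  · refine AlgHom.ext fun b => ?_
    rw [actPt_eq]
    show e' (s.range.val (σ g b)) = e' (b : MvPolynomial (Fin r) C)
    rw [actHom_natural hval]
    have h : e'.comp (σ g : MvPolynomial (Fin r) C →ₐ[k] MvPolynomial (Fin r) C) = e' := by
      refine GLinFinLib.algHom_ext_poly (fun a => ?_) (fun i => ?_)
      · rw [AlgHom.comp_apply, ← hcC, ← actHom_natural hcCc, hcC, hcC]
        show x₀ (ev _) = x₀ (ev _)
        rw [hevC, hevC]
        exact hg a
      · rw [AlgHom.comp_apply]
        show x₀ (ev _) = x₀ (ev (X i))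
        rw [hevX, ← hg (v i), GLinFinLib.Zmt.actHom_apply, GLinFinLib.Zmt.actHom_apply, hv,
          show Comod.coact (k := k) (A := A) (X i : MvPolynomial (Fin r) C) = ∑ l, (X l : MvPolynomial (Fin r) C) ⊗ₜ[k] m l i
            from GLinFinLib.polyCoact_X _ _]
        simp [hevX]
    exact AlgHom.congr_fun h _
  letI := φ.toRingHom.toAlgebra
  haveI : IsScalarTower k (MvPolynomial (Fin r) k) s.range := IsScalarTower.of_algebraMap_eq fun c => (φ.commutes c).symm
  haveI : Algebra.FormallySmooth k (MvPolynomial (Fin r) C) := Algebra.FormallySmooth.comp k C _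
  haveI : Algebra.FormallySmooth k s.range := by
    refine Algebra.FormallySmooth.of_comp_surjective fun S _ _ I hI f => ?_
    obtain ⟨g, hg⟩ := Algebra.FormallySmooth.comp_surjective k (MvPolynomial (Fin r) C) I hI (f.comp s.rangeRestrict)
    refine ⟨g.comp s.range.val, ?_⟩
    rw [← AlgHom.comp_assoc, hg]
    exact AlgHom.ext fun b => congrArg f (Subtype.ext (hfix b))
  haveI := hmax
  -- derivations
  have hDer : ∀ i, ∃ D : Derivation k s.range s.range,
      ∀ j, e (D (φ (X j))) = if i = j then (1 : k) else 0 := by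
    intro i
    obtain ⟨dd, hddC, hddX⟩ := exists_polyDerivation (δ i) fun l => if i = l then 1 else 0
    let Dl : s.range →ₗ[k] s.range :=
      (s.rangeRestrict.toLinearMap.comp dd.toLinearMap).comp s.range.val.toLinearMap
    refine ⟨Derivation.mk' Dl fun a b => Subtype.ext ?_, fun j => ?_⟩
    · show s (dd ((a : MvPolynomial (Fin r) C) * (b : MvPolynomial (Fin r) C))) =
        (a : MvPolynomial (Fin r) C) * s (dd (b : MvPolynomial (Fin r) C)) +
          (b : MvPolynomial (Fin r) C) * s (dd (a : MvPolynomial (Fin r) C))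
      rw [Derivation.leibniz, smul_eq_mul, smul_eq_mul, map_add, map_mul, map_mul, hfix, hfix]
    · show x₀ (ev (s (dd (φ (X j) : MvPolynomial (Fin r) C)))) = _
      rw [hφX, hevs]
      have hU : ∀ l, dd (U l) = (if i = l then 1 else 0) - MvPolynomial.C (δ i (v l)) := fun l => by
        show dd (X l - MvPolynomial.C (v l)) = _
        rw [map_sub, hddX, hddC]
      have hY : dd (Y j) = MvPolynomial.C (δ i (v j)) + ∑ l, (MvPolynomial.C (P l j) * dd (U l) + U l * dd (MvPolynomial.C (P l j))) := by
        show dd (MvPolynomial.C (v j) + ∑ l, MvPolynomial.C (P l j) * U l) = _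
        rw [map_add, map_sum, hddC]
        exact congrArg _ (Finset.sum_congr rfl fun l _ => by rw [Derivation.leibniz, smul_eq_mul, smul_eq_mul])
      have hfin : ev (dd (Y j)) = if i = j then 1 else 0 := by
        rw [hY]
        simp only [map_add, map_sum, map_mul, hevC, hevU, zero_mul, add_zero, hU, map_sub, apply_ite ev, map_one,
          map_zero, mul_sub, Finset.sum_sub_distrib, hδ, mul_ite, mul_one, mul_zero, Finset.sum_ite_eq,
          Finset.mem_univ, if_true]
        have e2 : ∑ l, P l j * (1 - P) i l = 0 := by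
          calc ∑ l, P l j * (1 - P) i l = ((1 - P) * P) i j := by
                rw [Matrix.mul_apply]; exact Finset.sum_congr rfl fun l _ => mul_comm _ _
            _ = 0 := by rw [sub_mul, one_mul, hPP, sub_self]; rfl
        rw [e2, sub_zero, Matrix.sub_apply, sub_add_cancel, Matrix.one_apply]
      rw [hfin]
      split_ifs <;> simp
  choose D hD using hDer
  refine isEtaleAt_of_derivation e mB rfl ?_ D hD
  -- generation modulo the square of the point
  let V : Subalgebra k s.range :=
    { carrier := {b | ∃ a, b - φ a ∈ mB ^ 2}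
      mul_mem' := fun {p q} ⟨a, ha⟩ ⟨b, hb⟩ => ⟨a * b, by
        rw [map_mul, show p * q - φ a * φ b = p * (q - φ b) + φ b * (p - φ a) by ring]
        exact add_mem (Ideal.mul_mem_left _ _ hb) (Ideal.mul_mem_left _ _ ha)⟩
      add_mem' := fun {p q} ⟨a, ha⟩ ⟨b, hb⟩ => ⟨a + b, by
        rw [map_add, add_sub_add_comm]; exact add_mem ha hb⟩
      algebraMap_mem' := fun c => ⟨algebraMap k _ c, by simp⟩ }
  let Uc : Fin r → s.range := fun j => φ (X j) - inc (v j)
  have hUcm : ∀ j, Uc j ∈ mB := fun j => by
    show e (φ (X j) - inc (v j)) = 0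
    rw [map_sub]
    show x₀ (ev (φ (X j) : MvPolynomial (Fin r) C)) - x₀ (ev (MvPolynomial.C (v j))) = 0
    rw [hφX, hevY, hevC, sub_self]
  have hQU : ∀ l, ∑ j, inc ((1 - P) j l) * Uc j = 0 := fun l => Subtype.ext (by
    rw [AddSubmonoidClass.coe_finsetSum, ZeroMemClass.coe_zero]
    have e1 : ∀ j, ((inc ((1 - P) j l) * Uc j : s.range) : MvPolynomial (Fin r) C) =
        ∑ i, MvPolynomial.C (P i j * (1 - P) j l) * U i := fun j => by
      show MvPolynomial.C ((1 - P) j l) * ((φ (X j) : MvPolynomial (Fin r) C) - MvPolynomial.C (v j)) = _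
      rw [hφX]
      simp only [Y, add_sub_cancel_left, Finset.mul_sum]
      exact Finset.sum_congr rfl fun i _ => by rw [map_mul]; ring
    simp only [e1]
    rw [Finset.sum_comm]
    refine Finset.sum_eq_zero fun i _ => ?_
    rw [← Finset.sum_mul, ← map_sum, ← Matrix.mul_apply,
      show P * (1 - P) = 0 by rw [mul_sub, mul_one, hPP, sub_self], Matrix.zero_apply, map_zero, zero_mul])
  have hvV : ∀ l, inc (v l) ∈ V := by
    intro l
    let K : Fin r → k := fun j => x₀ ((1 - P) j l)
    let a : MvPolynomial (Fin r) k := MvPolynomial.C (x₀ (v l)) + ∑ j, MvPolynomial.C (K j) * (X j - MvPolynomial.C (x₀ (v j)))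
    refine ⟨a, ?_⟩
    have hK : ∀ j, algebraMap k C (K j) + algebraMap k C (x₀ (P j l)) = if j = l then 1 else 0 := fun j => by
      rw [← map_add, show K j + x₀ (P j l) = x₀ ((1 - P) j l + P j l) from (map_add _ _ _).symm, Matrix.sub_apply,
        sub_add_cancel, Matrix.one_apply]
      split_ifs <;> simp
    have e1 : inc (v l) - φ a = inc (∑ j, algebraMap k C (x₀ (P j l)) * (v j - algebraMap k C (x₀ (v j)))) -
        ∑ j, algebraMap k s.range (K j) * Uc j := by
      have hφC : ∀ c, φ (MvPolynomial.C c) = algebraMap k s.range c := fun c => MvPolynomial.aeval_C _ _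
      have h3 : inc (v l) = algebraMap k s.range (x₀ (v l)) +
          ∑ j, (algebraMap k s.range (K j) + algebraMap k s.range (x₀ (P j l))) *
            (inc (v j) - algebraMap k s.range (x₀ (v j))) := by
        rw [Finset.sum_congr rfl fun j _ => show (algebraMap k s.range (K j) + algebraMap k s.range (x₀ (P j l))) *
            (inc (v j) - algebraMap k s.range (x₀ (v j))) =
            if j = l then inc (v j) - algebraMap k s.range (x₀ (v j)) else 0 by
          rw [← AlgHom.commutes inc (K j), ← AlgHom.commutes inc (x₀ (P j l)), ← map_add, hK]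
          split_ifs <;> simp]
        simp
      simp only [a, map_add, map_sum, map_mul, map_sub, hφC, AlgHom.commutes, Uc]
      rw [h3]
      simp only [add_mul, mul_sub, Finset.sum_add_distrib, Finset.sum_sub_distrib]
      ring
    rw [e1]
    refine sub_mem ?_ ?_
    · have h1 := Ideal.mem_map_of_mem inc.toRingHom (hPx l)
      rw [Ideal.map_pow] at h1
      refine Ideal.pow_right_mono (Ideal.map_le_iff_le_comap.2 fun c hc => ?_) 2 h1
      show x₀ (ev (MvPolynomial.C c)) = 0
      rw [hevC]
      exact hc
    · have h4 : ∑ j, algebraMap k s.range (K j) * Uc j =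
          ∑ j, (algebraMap k s.range (K j) - inc ((1 - P) j l)) * Uc j := by
        simp only [sub_mul, Finset.sum_sub_distrib, hQU, sub_zero]
      rw [h4]
      refine Ideal.sum_mem _ fun j _ => ?_
      rw [pow_two]
      refine Ideal.mul_mem_mul ?_ (hUcm j)
      show e (algebraMap k s.range (K j) - inc ((1 - P) j l)) = 0
      rw [map_sub, AlgHom.commutes]
      show K j - x₀ (ev (MvPolynomial.C ((1 - P) j l))) = 0
      rw [hevC, sub_self]
  intro b
  have hC : ∀ c, inc c ∈ V := fun c => by
    obtain ⟨p, rfl⟩ := hgen c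
    induction p using MvPolynomial.induction_on with
    | C a => rw [MvPolynomial.aeval_C, AlgHom.commutes]; exact V.algebraMap_mem _
    | add p q hp hq => rw [map_add, map_add]; exact V.add_mem hp hq
    | mul_X p i hp => rw [map_mul, map_mul, MvPolynomial.aeval_X]; exact V.mul_mem hp (hvV i)
  obtain ⟨F, rfl⟩ := AlgHom.rangeRestrict_surjective s b
  show s.rangeRestrict F ∈ V
  induction F using MvPolynomial.induction_on with
  | C a => exact (show inc a = s.rangeRestrict (MvPolynomial.C a) from Subtype.ext (hsC a).symm) ▸ hC a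
  | add p q hp hq => rw [map_add]; exact V.add_mem hp hq
  | mul_X p i hp =>
    rw [map_mul]
    refine V.mul_mem hp ⟨X i, ?_⟩
    rw [show s.rangeRestrict (X i) = φ (X i) from Subtype.ext ((hsX i).trans (hφX i).symm), sub_self]
    exact zero_mem _

end LunaLib.Pts

end
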