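import Mathlib
import Groth.Agent.GLinFinLib.Twist

/-! # Finiteness of invariants of Noetherian comodule algebras -/

set_option autoImplicit false
set_option maxHeartbeats 1000000
set_option synthInstance.maxHeartbeats 400000

noncomputable section

open TensorProduct HopfRep
open scoped ComodLib

namespace LunaLib

universe u v w

variable {k : Type u} [Field k] {H : Type v} [CommRing H] [HopfAlgebra k H]
  {A : Type w} [CommRing A] [Algebra k A] [Comod k H A] [GLin.IsCoactAlg k H A]
  {B : Type w} [CommRing B] [Algebra k B] [Comod k H B] [GLin.IsCoactAlg k H B]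

theorem reynolds_mul (α : H →ₗ[k] k) (a : A) {y : A} (hy : y ∈ GLin.invariants k H A) :
    ComodLib.reynolds A α (a * y) = ComodLib.reynolds A α a * y := by
  refine (ComodLib.reynolds_natural α (φ := LinearMap.mulRight k y) (LinearMap.ext fun f => ?_) a).symm
  show Comod.coact (k := k) (A := H) (f * y) = (LinearMap.mulRight k y).rTensor H (Comod.coact (k := k) (A := H) f)
  rw [GLin.IsCoactAlg.coact_mul, show Comod.coact (k := k) (A := H) y = y ⊗ₜ[k] (1 : H) from hy]
  generalize Comod.coact (k := k) (A := H) f = z
  induction z with
  | zero => simp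
  | add z z' hz hz' => rw [add_mul, map_add, hz, hz']
  | tmul x c => simp [Algebra.TensorProduct.tmul_mul_tmul]

theorem isNoetherianRing_invariants [IsNoetherianRing A] (hG : IsLinearlyReductive k H) :
    IsNoetherianRing (GLin.invariants k H A) := by
  obtain ⟨β, hβ, h1⟩ := ComodLib.exists_invariant_of_isLinearlyReductive hG
  let S := GLin.invariants k H A
  have hback : ∀ J : Ideal S, (J.map S.val).comap S.val = J := fun J => by
    refine le_antisymm (fun u hu => ?_) Ideal.le_comap_map
    have hu' : (u : A) ∈ Submodule.span A (S.val '' (J : Set S)) := hu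
    obtain ⟨n, f, g, h⟩ := Submodule.mem_span_set'.1 hu'
    choose y hy hyg using fun i => (g i).2
    have h2 : u = ∑ i, (⟨ComodLib.reynolds A β (f i), ComodLib.reynolds_mem hβ _⟩ : S) * y i := by
      apply Subtype.ext
      have h3 := congrArg (ComodLib.reynolds A β) h
      rw [map_sum, ComodLib.reynolds_fixed h1 u.2] at h3
      rw [← h3, AddSubmonoidClass.coe_finsetSum]
      refine Finset.sum_congr rfl fun i _ => ?_
      rw [← hyg i]
      exact reynolds_mul β (f i) (y i).2
    rw [h2]
    exact sum_mem fun i _ => Ideal.mul_mem_left _ _ (hy i)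
  let F : Ideal S → Ideal A := fun J => J.map S.val
  have hF : StrictMono F := Monotone.strictMono_of_injective (fun _ _ h => Ideal.map_mono h)
    (Function.LeftInverse.injective (g := fun J : Ideal A => J.comap S.val) hback)
  exact isNoetherianRing_iff.2 (isNoetherian_iff'.2 hF.wellFoundedGT)

theorem finiteType_invariants [IsNoetherianRing A] (hG : IsLinearlyReductive k H) [Algebra A B]
    [IsScalarTower k A B] [Algebra.FiniteType A B]
    (hAB : Hoch.IsComodHom H (IsScalarTower.toAlgHom k A B).toLinearMap)
    [Algebra (GLin.invariants k H A) (GLin.invariants k H B)]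
    (h : ∀ a : GLin.invariants k H A,
      ((algebraMap (GLin.invariants k H A) (GLin.invariants k H B) a : GLin.invariants k H B) : B) =
        algebraMap A B (a : A)) :
    Algebra.FiniteType (GLin.invariants k H A) (GLin.invariants k H B) := by
  classical
  obtain ⟨s, hs, hinv⟩ := GLinFinLib.exists_finset_invariants_le_adjoin hG B hAB
  let s' : Finset (GLin.invariants k H B) := s.attach.image fun x => ⟨x.1, hs x.1 x.2⟩
  refine ⟨⟨s', eq_top_iff.2 fun b _ => ?_⟩⟩
  let T : Subalgebra k (GLin.invariants k H B) :=
    { (Algebra.adjoin (GLin.invariants k H A) (s' : Set (GLin.invariants k H B))).toSubring with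
      algebraMap_mem' := fun c => by
        have e : algebraMap k (GLin.invariants k H B) c =
            algebraMap (GLin.invariants k H A) (GLin.invariants k H B) (algebraMap k (GLin.invariants k H A) c) :=
          Subtype.ext (by
            rw [h]
            exact (IsScalarTower.algebraMap_apply k A B c))
        rw [e]
        exact (Algebra.adjoin (GLin.invariants k H A) (s' : Set (GLin.invariants k H B))).algebraMap_mem _ }
  have hle : GLin.invariants k H B ≤ T.map (GLin.invariants k H B).val := by
    refine hinv.le.trans (Algebra.adjoin_le (Set.union_subset ?_ ?_))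
    · rintro _ ⟨a, ha, rfl⟩
      exact ⟨algebraMap (GLin.invariants k H A) (GLin.invariants k H B) ⟨a, ha⟩,
        (Algebra.adjoin (GLin.invariants k H A) (s' : Set (GLin.invariants k H B))).algebraMap_mem _,
        h ⟨a, ha⟩⟩
    · intro x hx
      exact ⟨⟨x, hs x hx⟩, Algebra.subset_adjoin (Finset.mem_coe.2
        (Finset.mem_image.2 ⟨⟨x, hx⟩, Finset.mem_attach _ _, rfl⟩)), rfl⟩
  obtain ⟨y, hy, hye⟩ := hle b.2
  have : y = b := Subtype.ext hye
  exact this ▸ hy

end LunaLib

end
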