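import Mathlib
import Groth.Agent.GLinFinLib.Algebra

/-! # Powers of a stable ideal meet the invariants in a bounded way

The Rees algebra of a stable ideal has finitely generated invariants, so the traces on `B^G` of the powers of
a stable ideal `I` are cofinal with the powers of `I ∩ B^G`. -/

set_option autoImplicit false
set_option maxHeartbeats 1000000
set_option synthInstance.maxHeartbeats 400000

noncomputable section

open TensorProduct HopfRep MvPolynomial
open scoped ComodLib

namespace LunaLib

universe u v w

variable {k : Type u} [Field k] {H : Type v} [CommRing H] [HopfAlgebra k H]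
  {B : Type w} [CommRing B] [Algebra k B] [Comod k H B] [GLin.IsCoactAlg k H B]

/-- The exponent attached to a degree bound. -/
def ex (d n : ℕ) : ℕ := (n + d - 1) / d

theorem ex_add_le (d a c : ℕ) : ex d (a + c) ≤ ex d a + ex d c := by
  rcases Nat.eq_zero_or_pos d with rfl | hd
  · simp [ex]
  unfold ex
  have h1 := Nat.div_add_mod (a + d - 1) d
  have h2 := Nat.div_add_mod (c + d - 1) d
  have h3 := Nat.mod_lt (a + d - 1) hd
  have h4 := Nat.mod_lt (c + d - 1) hd
  rw [Nat.div_le_iff_le_mul hd]
  have : ((a + d - 1) / d + (c + d - 1) / d) * d = d * ((a + d - 1) / d) + d * ((c + d - 1) / d) := by ring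
  omega

theorem ex_le_one {d n : ℕ} (h : n ≤ d) : ex d n ≤ 1 := by
  rcases Nat.eq_zero_or_pos d with rfl | hd
  · simp [ex]
  unfold ex
  rw [Nat.div_le_iff_le_mul hd]
  omega

theorem le_ex {d : ℕ} (hd : 0 < d) (i : ℕ) : i ≤ ex d (d * i) := by
  unfold ex
  rw [Nat.le_div_iff_mul_le hd, mul_comm i d]
  omega

/-- The invariants of the powers of a stable ideal. -/
theorem exists_pow_le [IsNoetherianRing B] (hG : IsLinearlyReductive k H) (I : Ideal B)
    (hI : IsSubcomod (k := k) (A := H) (I.restrictScalars k)) :
    ∃ d, 0 < d ∧ ∀ (n : ℕ) (f : ↥(GLin.invariants k H B)), (f : B) ∈ I ^ n →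
      f ∈ (I.comap (GLin.invariants k H B).val.toRingHom) ^ ex d n := by
  classical
  obtain ⟨g, hg⟩ := (IsNoetherian.noetherian I : I.FG)
  -- the span of the family is the ideal generated inside `I`
  obtain ⟨r', v', m', hv'I, hv'span, hv'⟩ : ∃ (r' : ℕ) (v' : Fin r' → B) (m' : Fin r' → Fin r' → H),
      (∀ i, v' i ∈ I) ∧ I ≤ Ideal.span (Set.range v') ∧
      ((∀ i, Comod.coact (k := k) (A := H) (v' i) = ∑ j, v' j ⊗ₜ[k] m' j i) ∧
        (∀ j i, CoalgebraStruct.comul (R := k) (m' j i) = ∑ l, m' j l ⊗ₜ[k] m' l i) ∧
        (∀ j i, CoalgebraStruct.counit (R := k) (m' j i) = if j = i then (1 : k) else 0)) := by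
    letI cI : Comod k H ↥(I.restrictScalars k) := ComodLib.subComod hI
    have hgI : ∀ a ∈ g, a ∈ I.restrictScalars k := fun a ha =>
      (Submodule.restrictScalars_mem k I a).2 (hg.le (Ideal.subset_span ha))
    let g' : Finset ↥(I.restrictScalars k) :=
      g.attach.image fun a => (⟨a.1, hgI a.1 a.2⟩ : ↥(I.restrictScalars k))
    have hex := GLinFinLib.exists_closed_family (k := k) (H := H) g'
    obtain ⟨r', w, m', hgw, hw, hm, ho⟩ := hex
    refine ⟨r', fun i => (w i : B), m', fun i => (w i).2, ?_, fun i => ?_, hm, ho⟩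
    · conv_lhs => rw [← hg]
      refine Ideal.span_le.2 fun a ha => ?_
      obtain ⟨c, hc⟩ := (Submodule.mem_span_range_iff_exists_fun k).1 (hgw _
        (Finset.mem_image_of_mem _ (Finset.mem_attach g ⟨a, ha⟩)))
      have h1 := congrArg (I.restrictScalars k).subtype hc
      rw [map_sum] at h1
      simp only [map_smul, Submodule.coe_subtype] at h1
      rw [← h1]
      exact Submodule.sum_mem _ fun i _ => by
        rw [Algebra.smul_def]; exact Ideal.mul_mem_left _ _ (Ideal.subset_span ⟨i, rfl⟩)
    · have h1 := (LinearMap.congr_fun (ComodLib.exists_coact_sub hI).choose_spec (w i)).symm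
      simp only [LinearMap.comp_apply, Submodule.coe_subtype] at h1
      refine h1.trans ?_
      show LinearMap.rTensor H _ (Comod.coact (k := k) (A := H) (w i)) = _
      rw [hw, map_sum]
      rfl
  obtain ⟨hv', hmul', hone'⟩ := hv'
  letI := GLinFinLib.polyComod (k := k) (A := B) m' hmul' hone'
  haveI : GLin.IsCoactAlg k H (MvPolynomial (Fin r') B) :=
    ⟨map_one (GLinFinLib.polyCoact (k := k) (A := B) m'), map_mul (GLinFinLib.polyCoact (k := k) (A := B) m')⟩
  let π : MvPolynomial (Fin r') B →ₐ[k] B := (MvPolynomial.aeval v').restrictScalars k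
  have hπC : ∀ a, π (C a) = a := fun a => MvPolynomial.aeval_C _ _
  have hπX : ∀ i, π (X i) = v' i := fun i => MvPolynomial.aeval_X _ _
  have hπc : Hoch.IsComodHom H π.toLinearMap := by
    have h : (GLin.coactAlgHom k H B).comp π =
        (Algebra.TensorProduct.map π (AlgHom.id k H)).comp (GLinFinLib.polyCoact (k := k) (A := B) m') := by
      refine GLinFinLib.algHom_ext_poly (fun a => ?_) (fun i => ?_)
      · rw [AlgHom.comp_apply, AlgHom.comp_apply, GLinFinLib.polyCoact_C, hπC, GLin.coactAlgHom_apply]
        generalize Comod.coact (k := k) (A := H) a = z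
        induction z with
        | zero => simp
        | add z z' hz hz' => simp only [map_add, ← hz, ← hz']
        | tmul x c =>
          rw [Algebra.TensorProduct.map_tmul, Algebra.TensorProduct.map_tmul,
            show GLinFinLib.constHom (k := k) B r' x = C x from rfl, hπC]
          rfl
      · rw [AlgHom.comp_apply, AlgHom.comp_apply, GLinFinLib.polyCoact_X, hπX, GLin.coactAlgHom_apply, hv', map_sum]
        simp [hπX]
    refine LinearMap.ext fun x => ?_
    refine (AlgHom.congr_fun h x).trans ?_
    show _ = π.toLinearMap.rTensor H (GLinFinLib.polyCoact (k := k) (A := B) m' x)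
    rw [AlgHom.comp_apply]
    generalize GLinFinLib.polyCoact (k := k) (A := B) m' x = z
    induction z using TensorProduct.induction_on with
    | zero => simp
    | add p q hp hq => simp only [map_add, hp, hq]
    | tmul p q => rfl
  let hc : ℕ → MvPolynomial (Fin r') B →ₗ[k] MvPolynomial (Fin r') B :=
    fun e => (homogeneousComponent (R := B) (σ := Fin r') e).restrictScalars k
  have hhc : ∀ e, Hoch.IsComodHom H (hc e) := fun e => LinearMap.ext fun x =>
    GLinFinLib.coact_homogeneousComponent (k := k) (A := B) m' e x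
  obtain ⟨α, hα, h1⟩ := ComodLib.exists_invariant_of_isLinearlyReductive hG
  obtain ⟨t, ht1, ht2⟩ := GLinFinLib.poly_invariants (A := B) hG m' hmul' hone'
  let d := t.sup (fun f => f.totalDegree) + 1
  -- elements of the powers
  have hpow : ∀ n, ∀ x ∈ I ^ n, ∃ F ∈ homogeneousSubmodule (Fin r') B n, π F = x := by
    intro n
    induction n with
    | zero => exact fun x _ => ⟨C x, (mem_homogeneousSubmodule _ _).2 (isHomogeneous_C _ _), hπC x⟩
    | succ n ih =>
      intro x hx
      rw [pow_succ] at hx
      refine Submodule.mul_induction_on hx (fun a ha b hb => ?_) (fun a b ⟨F, hF, hFe⟩ ⟨G, hG', hGe⟩ =>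
        ⟨F + G, add_mem hF hG', by rw [map_add, hFe, hGe]⟩)
      obtain ⟨F, hF, rfl⟩ := ih a ha
      obtain ⟨c, hc'⟩ := (Submodule.mem_span_range_iff_exists_fun B).1 (hv'span hb)
      refine ⟨F * ∑ i, C (c i) * X i, (mem_homogeneousSubmodule _ _).2 ?_, ?_⟩
      · refine ((mem_homogeneousSubmodule _ _).1 hF).mul (IsHomogeneous.sum _ _ _ fun i _ => ?_)
        simpa using (isHomogeneous_C (Fin r') (c i)).mul (isHomogeneous_X B i)
      · rw [map_mul, map_sum]
        simp only [map_mul, hπC, hπX, ← hc', smul_eq_mul]
  have hπI : ∀ e, ∀ F ∈ homogeneousSubmodule (Fin r') B e, π F ∈ I ^ e := by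
    intro e F hF
    rw [← F.support_sum_monomial_coeff, map_sum]
    refine Ideal.sum_mem _ fun s hs => ?_
    have hdeg : s.degree = e := by
      have := ((mem_homogeneousSubmodule _ _).1 hF) (mem_support_iff.1 hs)
      rw [Finsupp.degree_eq_weight_one]
      exact this
    show MvPolynomial.aeval v' (monomial s (coeff s F)) ∈ I ^ e
    rw [aeval_monomial]
    refine Ideal.mul_mem_left _ _ ?_
    rw [← hdeg, Finsupp.degree_apply, Finsupp.prod, ← Finset.prod_pow_eq_pow_sum]
    exact Ideal.prod_mem_prod fun i _ => Ideal.pow_mem_pow (hv'I i) _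
  let B0 := GLin.invariants k H B
  let m0 : Ideal B0 := I.comap B0.val.toRingHom
  let 𝔉 : Subalgebra k (MvPolynomial (Fin r') B) :=
    { carrier := {F | ∀ b, ∃ q ∈ m0 ^ ex d b, (q : B) = π (hc b F)}
      mul_mem' := fun {F G} hF hG' b => by
        choose qF hqF hqFe using hF
        choose qG hqG hqGe using hG'
        refine ⟨∑ p ∈ Finset.HasAntidiagonal.antidiagonal b, qF p.1 * qG p.2, Ideal.sum_mem _ fun p hp => ?_, ?_⟩
        · refine Ideal.pow_le_pow_right ((Finset.HasAntidiagonal.mem_antidiagonal.1 hp) ▸ ex_add_le d p.1 p.2) ?_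
          rw [pow_add]
          exact Ideal.mul_mem_mul (hqF _) (hqG _)
        · have e : hc b (F * G) = ∑ p ∈ Finset.HasAntidiagonal.antidiagonal b, hc p.1 F * hc p.2 G := by
            show homogeneousComponent b (F * G) = _
            rw [← GLinFinLib.coeff_degHom, map_mul, Polynomial.coeff_mul]
            exact Finset.sum_congr rfl fun p _ => by
              rw [GLinFinLib.coeff_degHom, GLinFinLib.coeff_degHom]; rfl
          rw [e, map_sum, AddSubmonoidClass.coe_finsetSum]
          exact Finset.sum_congr rfl fun p _ => by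
            rw [map_mul, MulMemClass.coe_mul, hqFe, hqGe]
      add_mem' := fun {F G} hF hG' b => by
        obtain ⟨p, hp, hpe⟩ := hF b
        obtain ⟨q, hq, hqe⟩ := hG' b
        exact ⟨p + q, add_mem hp hq, by rw [AddMemClass.coe_add, hpe, hqe, map_add, map_add]⟩
      algebraMap_mem' := fun c b => by
        have e : algebraMap k (MvPolynomial (Fin r') B) c = C (algebraMap k B c) := rfl
        rcases Nat.eq_zero_or_pos b with rfl | hb
        · refine ⟨algebraMap k B0 c, by
            rw [show ex d 0 = 0 from Nat.div_eq_of_lt (by omega), pow_zero, Ideal.one_eq_top]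
            exact Submodule.mem_top, ?_⟩
          show _ = π (homogeneousComponent 0 _)
          rw [e, homogeneousComponent_zero, coeff_zero_C, hπC]
          rfl
        · refine ⟨0, zero_mem _, ?_⟩
          show _ = π (homogeneousComponent b _)
          rw [e, homogeneousComponent_of_mem ((mem_homogeneousSubmodule _ _).2 (isHomogeneous_C _ _)),
            if_neg (by omega), map_zero]
          rfl }
  have h𝔉 : Algebra.adjoin k ((C '' (↑B0 : Set B)) ∪ (↑t : Set (MvPolynomial (Fin r') B))) ≤ 𝔉 := by
    refine Algebra.adjoin_le (Set.union_subset ?_ ?_)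
    · rintro _ ⟨a, ha, rfl⟩ b
      rcases Nat.eq_zero_or_pos b with rfl | hb
      · refine ⟨⟨a, ha⟩, by
          rw [show ex d 0 = 0 from Nat.div_eq_of_lt (by omega), pow_zero, Ideal.one_eq_top]
          exact Submodule.mem_top, ?_⟩
        show a = π (homogeneousComponent 0 _)
        rw [homogeneousComponent_zero, coeff_zero_C, hπC]
      · refine ⟨0, zero_mem _, ?_⟩
        show _ = π (homogeneousComponent b _)
        rw [homogeneousComponent_of_mem ((mem_homogeneousSubmodule _ _).2 (isHomogeneous_C _ _)),
          if_neg (by omega), map_zero]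
        rfl
    · intro F hF b
      have hfix : π (hc b F) ∈ B0 := by
        show Comod.coact (k := k) (A := H) (π.toLinearMap (hc b F)) = _
        rw [← LinearMap.comp_apply, hπc, LinearMap.comp_apply, ← LinearMap.comp_apply (f := Comod.coact) ,
          hhc b, LinearMap.comp_apply,
          show Comod.coact (k := k) (A := H) F = F ⊗ₜ[k] (1 : H) from ht1 F hF, LinearMap.rTensor_tmul,
          LinearMap.rTensor_tmul]
        rfl
      refine ⟨⟨_, hfix⟩, ?_, rfl⟩
      by_cases hb : b ≤ d
      · rcases Nat.eq_zero_or_pos b with rfl | hb0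
        · rw [show ex d 0 = 0 from Nat.div_eq_of_lt (by omega), pow_zero, Ideal.one_eq_top]
          exact Submodule.mem_top
        · refine Ideal.pow_le_pow_right (ex_le_one hb) ?_
          rw [pow_one]
          exact Ideal.pow_le_self (I := I) (by omega : b ≠ 0)
            (hπI b _ ((mem_homogeneousSubmodule _ _).2 (homogeneousComponent_isHomogeneous b F)))
      · have hz : hc b F = 0 := homogeneousComponent_eq_zero _ _ (by
          have := Finset.le_sup (f := fun f => MvPolynomial.totalDegree f) hF
          omega)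
        have h0 : (⟨π (hc b F), hfix⟩ : B0) = 0 := Subtype.ext (show π (hc b F) = 0 by rw [hz, map_zero])
        rw [h0]
        exact zero_mem _
  refine ⟨d, by omega, fun n f hf => ?_⟩
  obtain ⟨F, hF, hFe⟩ := hpow n _ hf
  let F' := ComodLib.reynolds (MvPolynomial (Fin r') B) α F
  have hF' : F' ∈ 𝔉 := h𝔉 (ht2 F' (ComodLib.reynolds_mem hα F))
  obtain ⟨q, hq, hqe⟩ := hF' n
  have e : π (hc n F') = (f : B) := by
    have e1 : hc n F = F := by
      show homogeneousComponent n F = F
      rw [homogeneousComponent_of_mem hF, if_pos rfl]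
    have e2 := ComodLib.reynolds_natural α (hhc n) F
    rw [e1] at e2
    show π.toLinearMap (hc n F') = _
    rw [show hc n F' = F' from e2, ComodLib.reynolds_natural α hπc F]
    show ComodLib.reynolds B α (π F) = _
    rw [hFe]
    exact ComodLib.reynolds_fixed h1 f.2
  have : q = f := Subtype.ext (hqe.trans e)
  exact this ▸ hq

end LunaLib

end
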