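import Mathlib
import Groth.Agent.LunaLib.Rees

/-! # Formal neighbourhoods of closed orbits and invariants

If an equivariant map induces isomorphisms on all infinitesimal neighbourhoods of stable ideals, then it induces
isomorphisms on the completions of the invariants and of all modules of covariants. -/

set_option autoImplicit false
set_option maxHeartbeats 1000000
set_option synthInstance.maxHeartbeats 400000

noncomputable section

open TensorProduct HopfRep MvPolynomial
open scoped ComodLib

namespace LunaLib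

universe u v w

variable {k : Type u} [Field k] {H : Type v} [CommRing H] [HopfAlgebra k H]

local notation "Inv" => GLin.invariants k H

/-- `φ` is an isomorphism on all infinitesimal neighbourhoods of `J` and `I`. -/
def NearIso {A B : Type w} [CommRing A] [CommRing B] (φ : A →+* B) (J : Ideal A) (I : Ideal B) : Prop :=
  J.map φ ≤ I ∧ ∀ n : ℕ, (∀ b, ∃ a, b - φ a ∈ I ^ n) ∧ ∀ a, φ a ∈ I ^ n → a ∈ J ^ n

section stable

variable {B : Type w} [CommRing B] [Algebra k B] [Comod k H B] [GLin.IsCoactAlg k H B]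

theorem isSubcomod_mul {I J : Ideal B} (hI : IsSubcomod (k := k) (A := H) (I.restrictScalars k))
    (hJ : IsSubcomod (k := k) (A := H) (J.restrictScalars k)) :
    IsSubcomod (k := k) (A := H) ((I * J).restrictScalars k) := by
  intro x hx
  rw [Submodule.restrictScalars_mem] at hx
  refine Submodule.mul_induction_on hx (fun a ha b hb => ?_) (fun a b ha hb => by rw [map_add]; exact add_mem ha hb)
  rw [GLin.IsCoactAlg.coact_mul (k := k) (A := H)]
  obtain ⟨p, hp⟩ := hI a ha
  obtain ⟨q, hq⟩ := hJ b hb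
  rw [← hp, ← hq]
  clear hp hq
  induction p using TensorProduct.induction_on with
  | zero => simp
  | add p p' h h' => rw [map_add, add_mul]; exact add_mem h h'
  | tmul p c =>
    induction q using TensorProduct.induction_on with
    | zero => simp
    | add q q' h h' => rw [map_add, mul_add]; exact add_mem h h'
    | tmul q e =>
      exact ⟨⟨(p : B) * (q : B), Ideal.mul_mem_mul p.2 q.2⟩ ⊗ₜ[k] (c * e), by
        simp only [LinearMap.rTensor_tmul, Submodule.coe_subtype]
        exact (Algebra.TensorProduct.tmul_mul_tmul _ _ _ _).symm⟩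

theorem isSubcomod_pow {I : Ideal B} (hI : IsSubcomod (k := k) (A := H) (I.restrictScalars k)) :
    ∀ n : ℕ, IsSubcomod (k := k) (A := H) ((I ^ n).restrictScalars k)
  | 0 => fun x _ => by
    generalize Comod.coact (k := k) (A := H) x = z
    induction z with
    | zero => simp
    | add p q hp hq => exact add_mem hp hq
    | tmul p q => exact ⟨⟨p, by simp⟩ ⊗ₜ[k] q, rfl⟩
  | n + 1 => by rw [pow_succ]; exact isSubcomod_mul (isSubcomod_pow hI n) hI

theorem reynolds_mem_ideal {I : Ideal B} (hI : IsSubcomod (k := k) (A := H) (I.restrictScalars k))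
    (α : H →ₗ[k] k) {x : B} (hx : x ∈ I) : ComodLib.reynolds B α x ∈ I :=
  (ComodLib.mem_range_rTensor_iff _ _).1 (hI x hx) _

theorem coe_mem_pow (I : Ideal B) {n : ℕ} {q : Inv B}
    (hq : q ∈ (I.comap (Inv B).val.toRingHom) ^ n) : (q : B) ∈ I ^ n := by
  have h := Ideal.mem_map_of_mem (Inv B).val.toRingHom hq
  rw [Ideal.map_pow] at h
  exact Ideal.pow_right_mono Ideal.map_comap_le n h

end stable

variable {A : Type w} [CommRing A] [Algebra k A] [Comod k H A] [GLin.IsCoactAlg k H A]
  {B : Type w} [CommRing B] [Algebra k B] [Comod k H B] [GLin.IsCoactAlg k H B]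

theorem map_invariant {φ : A →ₐ[k] B} (hφ : Hoch.IsComodHom H φ.toLinearMap) {a : A} (ha : a ∈ Inv A) :
    φ a ∈ Inv B := by
  show Comod.coact (k := k) (A := H) (φ.toLinearMap a) = _
  rw [← LinearMap.comp_apply, hφ, LinearMap.comp_apply,
    show Comod.coact (k := k) (A := H) a = a ⊗ₜ[k] (1 : H) from ha, LinearMap.rTensor_tmul]
  rfl

/-- Invariants are approximated by images of invariants. -/
theorem inv_surj [IsNoetherianRing B] (hG : IsLinearlyReductive k H) {φ : A →ₐ[k] B}
    (hφ : Hoch.IsComodHom H φ.toLinearMap) {J : Ideal A} {I : Ideal B} (hn : NearIso φ.toRingHom J I)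
    (hI : IsSubcomod (k := k) (A := H) (I.restrictScalars k)) (j : ℕ) (b : Inv B) :
    ∃ a : Inv A, b - ⟨φ a, map_invariant hφ a.2⟩ ∈ (I.comap (Inv B).val.toRingHom) ^ j := by
  obtain ⟨α, hα, h1⟩ := ComodLib.exists_invariant_of_isLinearlyReductive hG
  obtain ⟨d, hd, hpow⟩ := exists_pow_le hG I hI
  obtain ⟨a, ha⟩ := (hn.2 (d * j)).1 (b : B)
  refine ⟨⟨ComodLib.reynolds A α a, ComodLib.reynolds_mem hα a⟩,
    Ideal.pow_le_pow_right (le_ex hd j) (hpow (d * j) _ ?_)⟩
  have h2 := reynolds_mem_ideal (isSubcomod_pow hI (d * j)) α ha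
  rw [map_sub, ComodLib.reynolds_fixed h1 b.2] at h2
  show (b : B) - φ (ComodLib.reynolds A α a) ∈ I ^ (d * j)
  rw [show φ (ComodLib.reynolds A α a) = ComodLib.reynolds B α (φ a) from ComodLib.reynolds_natural α hφ a]
  exact h2

/-- Invariants whose images are small are small. -/
theorem inv_inj [IsNoetherianRing A] (hG : IsLinearlyReductive k H) {φ : A →ₐ[k] B}
    (hφ : Hoch.IsComodHom H φ.toLinearMap) {J : Ideal A} {I : Ideal B} (hn : NearIso φ.toRingHom J I)
    (hJ : IsSubcomod (k := k) (A := H) (J.restrictScalars k)) (i : ℕ) :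
    ∃ j, ∀ a : Inv A, (⟨φ a, map_invariant hφ a.2⟩ : Inv B) ∈ (I.comap (Inv B).val.toRingHom) ^ j →
      a ∈ (J.comap (Inv A).val.toRingHom) ^ i := by
  obtain ⟨d, hd, hpow⟩ := exists_pow_le hG J hJ
  exact ⟨d * i, fun a ha =>
    Ideal.pow_le_pow_right (le_ex hd i) (hpow _ a ((hn.2 (d * i)).2 a (coe_mem_pow I ha)))⟩

section generic

/-- The constant and linear parts of a product of small elements. -/
theorem parts_pow {T R : Type*} [CommRing T] [CommRing R] {M : Type*} [AddCommGroup M] [Module R M]
    (g0 : T →+* R) (g1 : T →+ M) (hd : ∀ a b, g1 (a * b) = g0 a • g1 b + g0 b • g1 a) (N : Submodule R M)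
    (hN : ∀ a, g1 a ∈ N) (𝔪 : Ideal T) (m0 : Ideal R) (hm : 𝔪 ≤ m0.comap g0) :
    ∀ j, ∀ a ∈ 𝔪 ^ (j + 1), g0 a ∈ m0 ^ (j + 1) ∧ g1 a ∈ m0 ^ j • N := by
  intro j
  induction j with
  | zero =>
    intro a ha
    rw [pow_one] at ha
    exact ⟨by rw [pow_one]; exact hm ha, by rw [pow_zero, Ideal.one_eq_top, Submodule.top_smul]; exact hN a⟩
  | succ j ih =>
    intro a ha
    rw [pow_succ] at ha
    refine Submodule.mul_induction_on ha (fun x hx y hy => ?_) (fun x y hx hy => ?_)
    · obtain ⟨hc, hl⟩ := ih x hx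
      refine ⟨?_, ?_⟩
      · rw [map_mul, pow_succ]
        exact Ideal.mul_mem_mul hc (hm hy)
      · rw [hd]
        refine add_mem (Submodule.smul_mem_smul hc (hN y)) ?_
        rw [pow_succ', Submodule.mul_smul]
        exact Submodule.smul_mem_smul (hm hy) hl
    · refine ⟨?_, ?_⟩
      · rw [map_add]; exact add_mem hx.1 hy.1
      · rw [map_add]; exact add_mem hx.2 hy.2

/-- Small linear elements are small. -/
theorem exists_mem_pow {T P R : Type*} [CommRing T] [CommRing P] [CommRing R] [Module R P]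
    (ι : T →+* P) (c : R →+* T) (N : Submodule R P) (hN : ∀ E ∈ N, ∃ e, ι e = E)
    (hc : ∀ q E, q • E = ι (c q) * E) (m0 : Ideal R) (𝔪 : Ideal T) (hm : m0 ≤ 𝔪.comap c) (j : ℕ)
    {F : P} (hF : F ∈ m0 ^ j • N) : ∃ f ∈ 𝔪 ^ j, ι f = F := by
  induction hF using Submodule.smul_induction_on' with
  | smul q hq E hE =>
    obtain ⟨e, rfl⟩ := hN E hE
    refine ⟨c q * e, Ideal.mul_mem_right _ _ ?_, by rw [map_mul, hc]⟩
    exact (Ideal.le_comap_pow c j) (Ideal.pow_right_mono hm j hq)
  | add a _ b _ ha hb =>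
    obtain ⟨f, hf, rfl⟩ := ha
    obtain ⟨g, hg, rfl⟩ := hb
    exact ⟨f + g, add_mem hf hg, map_add ι f g⟩

end generic

section poly

variable {r : ℕ} (m : Fin r → Fin r → H)
  (hmul : ∀ j i, CoalgebraStruct.comul (R := k) (m j i) = ∑ l, m j l ⊗ₜ[k] m l i)
  (hone : ∀ j i, CoalgebraStruct.counit (R := k) (m j i) = if j = i then (1 : k) else 0)

omit [Comod k H A] [GLin.IsCoactAlg k H A] [Comod k H B] [GLin.IsCoactAlg k H B] in
/-- The ideal of the origin above `I`. -/
theorem mem_originIdeal_pow_iff (I : Ideal B) (n : ℕ) (F : MvPolynomial (Fin r) B) :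
    F ∈ (I.comap (constantCoeff (σ := Fin r) (R := B))) ^ n ↔ ∀ s, coeff s F ∈ I ^ (n - s.degree) := by
  classical
  let I' : Ideal (MvPolynomial (Fin r) B) := I.comap constantCoeff
  constructor
  · revert F
    induction n with
    | zero => intro F _ s; simp
    | succ n ih =>
      intro F hF s
      rw [pow_succ] at hF
      revert s
      refine Submodule.mul_induction_on hF (fun a ha b hb s => ?_) (fun a b ha hb s => by
        rw [coeff_add]; exact add_mem (ha s) (hb s))
      rw [coeff_mul]
      refine Ideal.sum_mem _ fun p hp => ?_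
      have hs : p.1.degree + p.2.degree = s.degree := by
        rw [← map_add, Finset.HasAntidiagonal.mem_antidiagonal.1 hp]
      rcases Nat.eq_zero_or_pos p.2.degree with h0 | hpos
      · have hb0 : p.2 = 0 := (Finsupp.degree_eq_zero_iff _).1 h0
        refine Ideal.pow_le_pow_right (show n + 1 - s.degree ≤ (n - p.1.degree) + 1 by omega) ?_
        rw [pow_succ]
        refine Ideal.mul_mem_mul (ih a ha p.1) ?_
        rw [hb0, ← constantCoeff_eq]
        exact hb
      · exact Ideal.mul_mem_right _ _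
          (Ideal.pow_le_pow_right (show n + 1 - s.degree ≤ n - p.1.degree by omega) (ih a ha p.1))
  · intro h
    rw [← F.support_sum_monomial_coeff]
    refine Ideal.sum_mem _ fun s _ => ?_
    have hC : C (coeff s F) ∈ I' ^ (n - s.degree) := by
      have h1 := Ideal.mem_map_of_mem (C (R := B) (σ := Fin r)) (h s)
      rw [Ideal.map_pow] at h1
      exact Ideal.pow_right_mono (Ideal.map_le_iff_le_comap.2 fun x hx => by simpa [I'] using hx) _ h1
    have hX : (s.prod fun i e => (X i : MvPolynomial (Fin r) B) ^ e) ∈ I' ^ s.degree := by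
      rw [Finsupp.degree_apply, Finsupp.prod, ← Finset.prod_pow_eq_pow_sum]
      exact Ideal.prod_mem_prod fun i _ => Ideal.pow_mem_pow (show X i ∈ I' by simp [I']) _
    rw [monomial_eq]
    refine Ideal.pow_le_pow_right (show n ≤ (n - s.degree) + s.degree by omega) ?_
    rw [pow_add]
    exact Ideal.mul_mem_mul hC hX

omit [Comod k H A] [GLin.IsCoactAlg k H A] [Comod k H B] [GLin.IsCoactAlg k H B] in
theorem nearIso_poly {φ : A →ₐ[k] B} {J : Ideal A} {I : Ideal B} (hn : NearIso φ.toRingHom J I) :
    NearIso (MvPolynomial.mapAlgHom (σ := Fin r) φ).toRingHom (J.comap constantCoeff)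
      (I.comap constantCoeff) := by
  classical
  refine ⟨Ideal.map_le_iff_le_comap.2 fun F hF => ?_, fun n => ⟨fun F => ?_, fun G hG => ?_⟩⟩
  · show constantCoeff (MvPolynomial.map φ.toRingHom F) ∈ I
    rw [constantCoeff_map]
    exact hn.1 (Ideal.mem_map_of_mem φ.toRingHom hF)
  · choose a ha using fun s => (hn.2 n).1 (coeff s F)
    refine ⟨∑ s ∈ F.support, monomial s (a s), (mem_originIdeal_pow_iff I n _).2 fun s => ?_⟩
    show coeff s (F - MvPolynomial.map φ.toRingHom (∑ s ∈ F.support, monomial s (a s))) ∈ _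
    rw [map_sum, coeff_sub, coeff_sum]
    simp only [map_monomial, coeff_monomial, Finset.sum_ite_eq']
    by_cases hs : s ∈ F.support
    · rw [if_pos hs]
      exact Ideal.pow_le_pow_right (Nat.sub_le n _) (ha s)
    · rw [if_neg hs, notMem_support_iff.1 hs, sub_zero]
      exact zero_mem _
  · refine (mem_originIdeal_pow_iff J n G).2 fun s => (hn.2 _).2 _ ?_
    have h := (mem_originIdeal_pow_iff I n _).1 hG s
    rwa [show (MvPolynomial.mapAlgHom (σ := Fin r) φ).toRingHom G = MvPolynomial.map φ.toRingHom G from rfl,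
      coeff_map] at h

theorem isSubcomod_origin {I : Ideal B} (hI : IsSubcomod (k := k) (A := H) (I.restrictScalars k)) :
    letI := GLinFinLib.polyComod (k := k) (A := B) m hmul hone
    IsSubcomod (k := k) (A := H)
      ((I.comap (constantCoeff (σ := Fin r) (R := B))).restrictScalars k) := by
  letI := GLinFinLib.polyComod (k := k) (A := B) m hmul hone
  let cc : MvPolynomial (Fin r) B →ₐ[k] B := (MvPolynomial.aeval (R := B) (fun _ : Fin r => (0 : B))).restrictScalars k
  have hcc : ∀ F, cc F = constantCoeff F := fun F => MvPolynomial.aeval_zero' F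
  have hh : Hoch.IsComodHom H cc.toLinearMap := by
    have h : (GLin.coactAlgHom k H B).comp cc =
        (Algebra.TensorProduct.map cc (AlgHom.id k H)).comp (GLinFinLib.polyCoact (k := k) (A := B) m) := by
      refine GLinFinLib.algHom_ext_poly (fun a => ?_) (fun i => ?_)
      · rw [AlgHom.comp_apply, AlgHom.comp_apply, GLinFinLib.polyCoact_C, hcc, constantCoeff_C,
          GLin.coactAlgHom_apply]
        generalize Comod.coact (k := k) (A := H) a = z
        induction z with
        | zero => simp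
        | add z z' hz hz' => simp only [map_add, ← hz, ← hz']
        | tmul x c =>
          rw [Algebra.TensorProduct.map_tmul, Algebra.TensorProduct.map_tmul,
            show GLinFinLib.constHom (k := k) B r x = C x from rfl, hcc, constantCoeff_C]
          rfl
      · rw [AlgHom.comp_apply, AlgHom.comp_apply, GLinFinLib.polyCoact_X, map_sum, hcc, constantCoeff_X, map_zero]
        simp [hcc]
    refine LinearMap.ext fun x => (AlgHom.congr_fun h x).trans ?_
    show _ = cc.toLinearMap.rTensor H (GLinFinLib.polyCoact (k := k) (A := B) m x)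
    rw [AlgHom.comp_apply]
    generalize GLinFinLib.polyCoact (k := k) (A := B) m x = z
    induction z using TensorProduct.induction_on with
    | zero => simp
    | add p q hp hq => simp only [map_add, hp, hq]
    | tmul p q => rfl
  have e : (I.comap (constantCoeff (σ := Fin r) (R := B))).restrictScalars k =
      (I.restrictScalars k).comap cc.toLinearMap := by
    ext F
    simp [hcc]
  rw [e]
  exact ComodLib.isSubcomod_comap_of_hom hh hI

theorem isComodHom_mapPoly {φ : A →ₐ[k] B} (hφ : Hoch.IsComodHom H φ.toLinearMap) :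
    letI := GLinFinLib.polyComod (k := k) (A := A) m hmul hone
    letI := GLinFinLib.polyComod (k := k) (A := B) m hmul hone
    Hoch.IsComodHom H (MvPolynomial.mapAlgHom (σ := Fin r) φ).toLinearMap := by
  letI := GLinFinLib.polyComod (k := k) (A := A) m hmul hone
  letI := GLinFinLib.polyComod (k := k) (A := B) m hmul hone
  let ψ : MvPolynomial (Fin r) A →ₐ[k] MvPolynomial (Fin r) B := MvPolynomial.mapAlgHom φ
  have hψC : ∀ a, ψ (C a) = C (φ a) := fun a => MvPolynomial.map_C _ _
  have hψX : ∀ i, ψ (X i) = X i := fun i => MvPolynomial.map_X _ _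
  have h : (GLinFinLib.polyCoact (k := k) (A := B) m).comp ψ =
      (Algebra.TensorProduct.map ψ (AlgHom.id k H)).comp (GLinFinLib.polyCoact (k := k) (A := A) m) := by
    refine GLinFinLib.algHom_ext_poly (fun a => ?_) (fun i => ?_)
    · rw [AlgHom.comp_apply, AlgHom.comp_apply, hψC, GLinFinLib.polyCoact_C, GLinFinLib.polyCoact_C]
      rw [show Comod.coact (k := k) (A := H) (φ a) = φ.toLinearMap.rTensor H (Comod.coact (k := k) (A := H) a) from
        LinearMap.congr_fun hφ a]
      generalize Comod.coact (k := k) (A := H) a = z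
      induction z with
      | zero => simp
      | add z z' hz hz' => simp only [map_add, hz, hz']
      | tmul x c =>
        simp only [LinearMap.rTensor_tmul, Algebra.TensorProduct.map_tmul, AlgHom.id_apply,
          AlgHom.toLinearMap_apply]
        rw [show GLinFinLib.constHom (k := k) A r x = C x from rfl, hψC]
        rfl
    · rw [AlgHom.comp_apply, AlgHom.comp_apply, hψX, GLinFinLib.polyCoact_X, GLinFinLib.polyCoact_X, map_sum]
      simp [hψX]
  refine LinearMap.ext fun x => (AlgHom.congr_fun h x).trans ?_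
  show _ = ψ.toLinearMap.rTensor H (GLinFinLib.polyCoact (k := k) (A := A) m x)
  rw [AlgHom.comp_apply]
  generalize GLinFinLib.polyCoact (k := k) (A := A) m x = z
  induction z using TensorProduct.induction_on with
  | zero => simp
  | add p q hp hq => simp only [map_add, hp, hq]
  | tmul p q => rfl

variable (k) in
/-- The module of covariants: invariant linear forms. -/
def Cov (B : Type w) [CommRing B] [Algebra k B] [Comod k H B] [GLin.IsCoactAlg k H B] :
    Submodule (Inv B) (MvPolynomial (Fin r) B) where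
  carrier := {F | GLinFinLib.polyCoact (k := k) (A := B) m F = F ⊗ₜ[k] (1 : H) ∧
    F ∈ homogeneousSubmodule (Fin r) B 1}
  zero_mem' := ⟨by simp, zero_mem _⟩
  add_mem' := fun {F G} hF hG => ⟨by rw [map_add, hF.1, hG.1, TensorProduct.add_tmul], add_mem hF.2 hG.2⟩
  smul_mem' := fun c F hF => by
    have e : c • F = C (c : B) * F := by rw [← MvPolynomial.smul_eq_C_mul]; rfl
    refine ⟨?_, ?_⟩
    · rw [e, map_mul, GLinFinLib.polyCoact_C, hF.1,
        show Comod.coact (k := k) (A := H) (c : B) = (c : B) ⊗ₜ[k] (1 : H) from c.2,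
        Algebra.TensorProduct.map_tmul, Algebra.TensorProduct.tmul_mul_tmul, AlgHom.id_apply, one_mul]
      rfl
    · rw [e]
      exact (mem_homogeneousSubmodule _ _).2 (IsHomogeneous.C_mul ((mem_homogeneousSubmodule _ _).1 hF.2) _)

theorem mem_cov {F : MvPolynomial (Fin r) B} :
    F ∈ Cov k m B ↔ GLinFinLib.polyCoact (k := k) (A := B) m F = F ⊗ₜ[k] (1 : H) ∧
      F ∈ homogeneousSubmodule (Fin r) B 1 := Iff.rfl

theorem smul_eq_C_mul' (c : Inv B) (F : MvPolynomial (Fin r) B) : c • F = C (c : B) * F := by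
  rw [← MvPolynomial.smul_eq_C_mul]; rfl

theorem hc_mem_cov {F : MvPolynomial (Fin r) B}
    (hF : GLinFinLib.polyCoact (k := k) (A := B) m F = F ⊗ₜ[k] (1 : H)) :
    homogeneousComponent 1 F ∈ Cov k m B := by
  refine ⟨?_, (mem_homogeneousSubmodule _ _).2 (homogeneousComponent_isHomogeneous 1 F)⟩
  rw [GLinFinLib.coact_homogeneousComponent, hF, LinearMap.rTensor_tmul]
  rfl

theorem constantCoeff_mem {F : MvPolynomial (Fin r) B}
    (hF : GLinFinLib.polyCoact (k := k) (A := B) m F = F ⊗ₜ[k] (1 : H)) :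
    constantCoeff F ∈ Inv B := by
  have h0 : GLinFinLib.polyCoact (k := k) (A := B) m (homogeneousComponent 0 F) =
      (homogeneousComponent 0 F) ⊗ₜ[k] (1 : H) := by
    rw [GLinFinLib.coact_homogeneousComponent, hF, LinearMap.rTensor_tmul]
    rfl
  rw [homogeneousComponent_zero, GLinFinLib.polyCoact_C, ← constantCoeff_eq] at h0
  show Comod.coact (k := k) (A := H) (constantCoeff F) = constantCoeff F ⊗ₜ[k] (1 : H)
  have h1 := congrArg (TensorProduct.map ((lcoeff B (0 : Fin r →₀ ℕ)).restrictScalars k) LinearMap.id) h0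
  rw [TensorProduct.map_tmul] at h1
  have h2 : ∀ z : B ⊗[k] H, TensorProduct.map ((lcoeff B (0 : Fin r →₀ ℕ)).restrictScalars k) LinearMap.id
      (Algebra.TensorProduct.map (GLinFinLib.constHom (k := k) B r) (AlgHom.id k H) z) = z := fun z => by
    induction z with
    | zero => simp
    | add z z' hz hz' => simp only [map_add, hz, hz']
    | tmul x c => simp [GLinFinLib.constHom]
  rw [h2] at h1
  simpa using h1

omit [Comod k H A] [GLin.IsCoactAlg k H A] [Comod k H B] [GLin.IsCoactAlg k H B] in
theorem hc_one_mul (F G : MvPolynomial (Fin r) B) :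
    homogeneousComponent 1 (F * G) =
      C (constantCoeff F) * homogeneousComponent 1 G + homogeneousComponent 1 F * C (constantCoeff G) := by
  rw [← GLinFinLib.coeff_degHom, map_mul, Polynomial.coeff_mul, Finset.Nat.sum_antidiagonal_eq_sum_range_succ_mk]
  simp [Finset.sum_range_succ, GLinFinLib.coeff_degHom, homogeneousComponent_zero, constantCoeff_eq]

include hmul hone in
variable (k B) in
/-- The invariants of the polynomial ring. -/
abbrev polyInv : Subalgebra k (MvPolynomial (Fin r) B) :=
  letI := GLinFinLib.polyComod (k := k) (A := B) m hmul hone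
  haveI : GLin.IsCoactAlg k H (MvPolynomial (Fin r) B) :=
    ⟨map_one (GLinFinLib.polyCoact (k := k) (A := B) m), map_mul (GLinFinLib.polyCoact (k := k) (A := B) m)⟩
  GLin.invariants k H (MvPolynomial (Fin r) B)

/-- The constant and linear parts of a product of small invariants. -/
theorem origin_pow_parts (I : Ideal B) (j : ℕ)
    (F : ↥(polyInv k B m hmul hone))
    (hF : F ∈ ((I.comap (constantCoeff (σ := Fin r) (R := B))).comap
      (polyInv k B m hmul hone).val.toRingHom) ^ (j + 1)) :
    (⟨constantCoeff F.1, constantCoeff_mem m F.2⟩ : Inv B) ∈ (I.comap (Inv B).val.toRingHom) ^ (j + 1) ∧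
      homogeneousComponent 1 F.1 ∈ (I.comap (Inv B).val.toRingHom) ^ j • Cov k m B := by
  let g0 : ↥(polyInv k B m hmul hone) →+* ↥(Inv B) :=
    ((constantCoeff : MvPolynomial (Fin r) B →+* B).comp
      (polyInv k B m hmul hone).val.toRingHom).codRestrict (Inv B) fun a => constantCoeff_mem m a.2
  let g1 : ↥(polyInv k B m hmul hone) →+ MvPolynomial (Fin r) B :=
    (homogeneousComponent (R := B) (σ := Fin r) 1).toAddMonoidHom.comp
      (polyInv k B m hmul hone).val.toRingHom.toAddMonoidHom
  exact parts_pow g0 g1 (fun a b => by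
      show homogeneousComponent 1 (a.1 * b.1) =
        g0 a • homogeneousComponent 1 b.1 + g0 b • homogeneousComponent 1 a.1
      rw [hc_one_mul, smul_eq_C_mul' (g0 a), smul_eq_C_mul' (g0 b), mul_comm (homogeneousComponent 1 a.1)]
      rfl)
    (Cov k m B) (fun a => hc_mem_cov m a.2) _ _ (fun a ha => ha) j F hF

include hmul hone in
theorem cov_fg [IsNoetherianRing B] (hG : IsLinearlyReductive k H) : (Cov k m B).FG := by
  classical
  obtain ⟨t, ht1, ht2⟩ := GLinFinLib.poly_invariants (A := B) hG m hmul hone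
  let N : Submodule (Inv B) (MvPolynomial (Fin r) B) :=
    Submodule.span (Inv B) (↑(t.image (homogeneousComponent 1)))
  refine ⟨t.image (homogeneousComponent 1), le_antisymm (Submodule.span_le.2 fun x hx => ?_) fun F hF => ?_⟩
  · obtain ⟨f, hf, rfl⟩ := Finset.mem_image.1 hx
    exact hc_mem_cov m (ht1 f hf)
  let 𝔊 : Subalgebra k (MvPolynomial (Fin r) B) :=
    { carrier := {F | constantCoeff F ∈ Inv B ∧ homogeneousComponent 1 F ∈ N}
      mul_mem' := fun {F G} hF hG' => ⟨by rw [map_mul]; exact mul_mem hF.1 hG'.1, by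
        rw [hc_one_mul, mul_comm (homogeneousComponent 1 F)]
        refine add_mem ?_ ?_
        · exact (smul_eq_C_mul' (⟨_, hF.1⟩ : Inv B) (homogeneousComponent 1 G)) ▸ N.smul_mem _ hG'.2
        · exact (smul_eq_C_mul' (⟨_, hG'.1⟩ : Inv B) (homogeneousComponent 1 F)) ▸ N.smul_mem _ hF.2⟩
      add_mem' := fun {F G} hF hG' => ⟨by rw [map_add]; exact add_mem hF.1 hG'.1,
        by rw [map_add]; exact add_mem hF.2 hG'.2⟩
      algebraMap_mem' := fun c => by
        have e : algebraMap k (MvPolynomial (Fin r) B) c = C (algebraMap k B c) := rfl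
        refine ⟨?_, ?_⟩
        · rw [e, constantCoeff_C]; exact (Inv B).algebraMap_mem c
        · rw [e, homogeneousComponent_of_mem ((mem_homogeneousSubmodule _ _).2 (isHomogeneous_C _ _)),
            if_neg (by omega)]
          exact zero_mem _ }
  have h : Algebra.adjoin k ((C '' (↑(Inv B) : Set B)) ∪ (↑t : Set (MvPolynomial (Fin r) B))) ≤ 𝔊 := by
    refine Algebra.adjoin_le (Set.union_subset ?_ fun f hf => ⟨constantCoeff_mem m (ht1 f hf),
      Submodule.subset_span (Finset.mem_coe.2 (Finset.mem_image_of_mem _ hf))⟩)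
    rintro _ ⟨a, ha, rfl⟩
    refine ⟨by rw [constantCoeff_C]; exact ha, ?_⟩
    rw [homogeneousComponent_of_mem ((mem_homogeneousSubmodule _ _).2 (isHomogeneous_C _ _)), if_neg (by omega)]
    exact zero_mem _
  have hF' := (h (ht2 F hF.1)).2
  rw [homogeneousComponent_of_mem hF.2, if_pos rfl] at hF'
  exact hF'

include hmul hone in
theorem mapPoly_cov {φ : A →ₐ[k] B} (hφ : Hoch.IsComodHom H φ.toLinearMap)
    {F : MvPolynomial (Fin r) A} (hF : F ∈ Cov k m A) : MvPolynomial.mapAlgHom φ F ∈ Cov k m B := by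
  refine ⟨?_, ?_⟩
  · letI := GLinFinLib.polyComod (k := k) (A := A) m hmul hone
    letI := GLinFinLib.polyComod (k := k) (A := B) m hmul hone
    have h := LinearMap.congr_fun (isComodHom_mapPoly m hmul hone hφ) F
    refine h.trans ?_
    show LinearMap.rTensor H _ (GLinFinLib.polyCoact (k := k) (A := A) m F) = _
    rw [hF.1]
    rfl
  · exact (mem_homogeneousSubmodule _ _).2 (((mem_homogeneousSubmodule _ _).1 hF.2).map φ.toRingHom)

omit [Comod k H A] [GLin.IsCoactAlg k H A] [Comod k H B] [GLin.IsCoactAlg k H B] in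
theorem hc_mapPoly (φ : A →ₐ[k] B) (e : ℕ) (F : MvPolynomial (Fin r) A) :
    homogeneousComponent e (MvPolynomial.mapAlgHom φ F) = MvPolynomial.mapAlgHom φ (homogeneousComponent e F) := by
  ext s
  show coeff s (homogeneousComponent e (MvPolynomial.map φ.toRingHom F)) =
    coeff s (MvPolynomial.map φ.toRingHom (homogeneousComponent e F))
  rw [coeff_homogeneousComponent, coeff_map, coeff_map, coeff_homogeneousComponent]
  split_ifs <;> simp

include hmul hone in
/-- Covariants are approximated by images of covariants. -/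
theorem cov_surj [IsNoetherianRing B] (hG : IsLinearlyReductive k H) {φ : A →ₐ[k] B}
    (hφ : Hoch.IsComodHom H φ.toLinearMap) {J : Ideal A} {I : Ideal B} (hn : NearIso φ.toRingHom J I)
    (hI : IsSubcomod (k := k) (A := H) (I.restrictScalars k)) (j : ℕ) {F : MvPolynomial (Fin r) B}
    (hF : F ∈ Cov k m B) :
    ∃ G ∈ Cov k m A, F - MvPolynomial.mapAlgHom φ G ∈ (I.comap (Inv B).val.toRingHom) ^ j • Cov k m B := by
  letI := GLinFinLib.polyComod (k := k) (A := A) m hmul hone
  letI := GLinFinLib.polyComod (k := k) (A := B) m hmul hone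
  haveI : GLin.IsCoactAlg k H (MvPolynomial (Fin r) A) :=
    ⟨map_one (GLinFinLib.polyCoact (k := k) (A := A) m), map_mul (GLinFinLib.polyCoact (k := k) (A := A) m)⟩
  haveI : GLin.IsCoactAlg k H (MvPolynomial (Fin r) B) :=
    ⟨map_one (GLinFinLib.polyCoact (k := k) (A := B) m), map_mul (GLinFinLib.polyCoact (k := k) (A := B) m)⟩
  obtain ⟨G, hG'⟩ := inv_surj (φ := MvPolynomial.mapAlgHom φ) hG (isComodHom_mapPoly m hmul hone hφ)
    (nearIso_poly hn) (isSubcomod_origin m hmul hone hI) (j + 1) ⟨F, hF.1⟩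
  refine ⟨homogeneousComponent 1 G.1, hc_mem_cov m G.2, ?_⟩
  have h := (origin_pow_parts m hmul hone I j _ hG').2
  rw [show ((⟨F, hF.1⟩ : Inv (MvPolynomial (Fin r) B)) -
      ⟨MvPolynomial.mapAlgHom φ G.1, map_invariant (isComodHom_mapPoly m hmul hone hφ) G.2⟩).1 =
      F - MvPolynomial.mapAlgHom φ G.1 from rfl, map_sub, homogeneousComponent_of_mem hF.2, if_pos rfl,
    hc_mapPoly] at h
  exact h

include hmul hone in
/-- Covariants with small images are small. -/
theorem cov_inj [IsNoetherianRing A] (hG : IsLinearlyReductive k H) {φ : A →ₐ[k] B}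
    (hφ : Hoch.IsComodHom H φ.toLinearMap) {J : Ideal A} {I : Ideal B} (hn : NearIso φ.toRingHom J I)
    (hJ : IsSubcomod (k := k) (A := H) (J.restrictScalars k)) (i : ℕ) :
    ∃ j, ∀ G ∈ Cov k m A, MvPolynomial.mapAlgHom φ G ∈ (I.comap (Inv B).val.toRingHom) ^ j • Cov k m B →
      G ∈ (J.comap (Inv A).val.toRingHom) ^ i • Cov k m A := by
  letI := GLinFinLib.polyComod (k := k) (A := A) m hmul hone
  letI := GLinFinLib.polyComod (k := k) (A := B) m hmul hone
  haveI : GLin.IsCoactAlg k H (MvPolynomial (Fin r) A) :=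
    ⟨map_one (GLinFinLib.polyCoact (k := k) (A := A) m), map_mul (GLinFinLib.polyCoact (k := k) (A := A) m)⟩
  haveI : GLin.IsCoactAlg k H (MvPolynomial (Fin r) B) :=
    ⟨map_one (GLinFinLib.polyCoact (k := k) (A := B) m), map_mul (GLinFinLib.polyCoact (k := k) (A := B) m)⟩
  let P0 := Inv (MvPolynomial (Fin r) B)
  let I' : Ideal (MvPolynomial (Fin r) B) := I.comap constantCoeff
  let mP : Ideal P0 := I'.comap P0.val.toRingHom
  obtain ⟨j, hj⟩ := inv_inj (φ := MvPolynomial.mapAlgHom φ) hG (isComodHom_mapPoly m hmul hone hφ)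
    (nearIso_poly hn) (isSubcomod_origin m hmul hone hJ) (i + 1)
  refine ⟨j, fun G hGc hsmall => ?_⟩
  -- small covariants lie in the power
  let c : Inv B →+* P0 := RingHom.codRestrict ((C : B →+* MvPolynomial (Fin r) B).comp (Inv B).val.toRingHom) P0
    fun q => by
      show GLinFinLib.polyCoact (k := k) (A := B) m (C (q : B)) = _
      rw [GLinFinLib.polyCoact_C, show Comod.coact (k := k) (A := H) (q : B) = (q : B) ⊗ₜ[k] (1 : H) from q.2,
        Algebra.TensorProduct.map_tmul]
      rfl
  obtain ⟨f, hf, hfe⟩ := exists_mem_pow P0.val.toRingHom c (Cov k m B) (fun E hE => ⟨⟨E, hE.1⟩, rfl⟩)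
    (fun q E => smul_eq_C_mul' q E) (I.comap (Inv B).val.toRingHom) mP
    (fun x hx => by
      show constantCoeff (C (x : B)) ∈ I
      rw [constantCoeff_C]
      exact hx) j hsmall
  have hmem : (⟨MvPolynomial.mapAlgHom φ G, map_invariant (isComodHom_mapPoly m hmul hone hφ) hGc.1⟩ : P0) ∈ mP ^ j := by
    have e : f = (⟨MvPolynomial.mapAlgHom φ G, map_invariant (isComodHom_mapPoly m hmul hone hφ) hGc.1⟩ : P0) :=
      Subtype.ext hfe
    exact e ▸ hf
  have h := (origin_pow_parts m hmul hone J i _ (hj ⟨G, hGc.1⟩ hmem)).2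
  rwa [homogeneousComponent_of_mem hGc.2, if_pos rfl] at h

end poly

end LunaLib

end
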