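import Mathlib
import Groth.Agent.LunaLib.Coideal
import Groth.Agent.LunaLib.Formal

/-! # Infinitesimal neighbourhoods of a closed orbit under an etale map -/

set_option autoImplicit false
set_option maxHeartbeats 1000000
set_option synthInstance.maxHeartbeats 400000

noncomputable section

open TensorProduct HopfRep
open scoped ComodLib

namespace LunaLib

universe u v w

variable {k : Type u} [Field k] {H : Type v} [CommRing H] [HopfAlgebra k H]
  {A : Type w} [CommRing A] [Algebra k A] [Comod k H A] [GLin.IsCoactAlg k H A]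
  {B : Type w} [CommRing B] [Algebra k B] [Comod k H B] [GLin.IsCoactAlg k H B]

theorem isSubcomod_ker_orbitHom (x : B →ₐ[k] k) :
    IsSubcomod (k := k) (A := H) ((RingHom.ker (GLin.orbitHom k H x)).restrictScalars k) := by
  refine (ComodLib.isSubcomod_iff _).2 fun f b hb => ?_
  show GLin.orbitHom k H x (f • b) = 0
  rw [orbitHom_eq_coeff, map_smul, ← orbitHom_eq_coeff, show GLin.orbitHom k H x b = 0 from hb, smul_zero]

theorem orbitHom_invariant (x : B →ₐ[k] k) {f : B} (hf : f ∈ GLin.invariants k H B) :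
    GLin.orbitHom k H x f = algebraMap k H (x f) := by
  rw [orbitHom_eq_coeff, ComodLib.coeff_apply, show Comod.coact (k := k) (A := H) f = f ⊗ₜ[k] (1 : H) from hf,
    ComodLib.sliceL_tmul, Algebra.algebraMap_eq_smul_one]
  rfl

theorem mem_ker_iff_of_invariant (x : B →ₐ[k] k) {f : B} (hf : f ∈ GLin.invariants k H B) :
    f ∈ RingHom.ker (GLin.orbitHom k H x) ↔ x f = 0 := by
  rw [RingHom.mem_ker, orbitHom_invariant x hf]
  refine ⟨fun h => ?_, fun h => by rw [h, map_zero]⟩
  have h1 := congrArg (Bialgebra.counitAlgHom k H) h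
  simpa using h1

variable [Algebra A B] [IsScalarTower k A B]
  (hφ : Hoch.IsComodHom H (IsScalarTower.toAlgHom k A B).toLinearMap)

include hφ in
theorem orbitHom_comp (x : B →ₐ[k] k) (a : A) :
    GLin.orbitHom k H (x.comp (IsScalarTower.toAlgHom k A B)) a = GLin.orbitHom k H x (algebraMap A B a) := by
  rw [orbitHom_eq_coeff, orbitHom_eq_coeff, ComodLib.coeff_apply, ComodLib.coeff_apply,
    show Comod.coact (k := k) (A := H) (algebraMap A B a) =
      (IsScalarTower.toAlgHom k A B).toLinearMap.rTensor H (Comod.coact (k := k) (A := H) a) from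
      LinearMap.congr_fun hφ a, ComodLib.sliceL_rTensor]
  rfl

include hφ in
theorem range_orbitHom_comp_le (x : B →ₐ[k] k) :
    (GLin.orbitHom k H (x.comp (IsScalarTower.toAlgHom k A B))).range ≤ (GLin.orbitHom k H x).range := by
  rintro _ ⟨a, rfl⟩
  exact ⟨algebraMap A B a, (orbitHom_comp hφ x a).symm⟩

include hφ in
theorem map_ker_le (x : B →ₐ[k] k) :
    (RingHom.ker (GLin.orbitHom k H (x.comp (IsScalarTower.toAlgHom k A B)))).map (algebraMap A B) ≤
      RingHom.ker (GLin.orbitHom k H x) :=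
  Ideal.map_le_iff_le_comap.2 fun a ha => by
    show GLin.orbitHom k H x (algebraMap A B a) = 0
    rw [← orbitHom_comp hφ]
    exact ha

include hφ in
/-- The orbit maps isomorphically when the stabilisers agree and the target orbit is closed. -/
theorem range_orbitHom_eq {x : B →ₐ[k] k}
    (hy : GLin.IsClosedOrbit k H (x.comp (IsScalarTower.toAlgHom k A B)))
    (hst : GLin.stabIdeal k H x ≤ GLin.stabIdeal k H (x.comp (IsScalarTower.toAlgHom k A B))) :
    (GLin.orbitHom k H x).range = (GLin.orbitHom k H (x.comp (IsScalarTower.toAlgHom k A B))).range := by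
  refine le_antisymm (le_of_augIdeal_le (stable_range _) (stable_range _) (surjective_of_isClosedOrbit _ hy) ?_)
    (range_orbitHom_comp_le hφ x)
  rwa [← stabIdeal_eq, ← stabIdeal_eq]

include hφ in
theorem isClosedOrbit_source {x : B →ₐ[k] k}
    (hy : GLin.IsClosedOrbit k H (x.comp (IsScalarTower.toAlgHom k A B)))
    (hst : GLin.stabIdeal k H x ≤ GLin.stabIdeal k H (x.comp (IsScalarTower.toAlgHom k A B))) :
    GLin.IsClosedOrbit k H x := by
  refine isClosedOrbit_of_surjective x ?_
  rw [range_orbitHom_eq hφ hy hst]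
  exact surjective_of_isClosedOrbit _ hy

include hφ in
/-- An etale map is an isomorphism on the infinitesimal neighbourhoods of isomorphic orbits. -/
theorem nearIso {x : B →ₐ[k] k}
    (heq : (GLin.orbitHom k H x).range = (GLin.orbitHom k H (x.comp (IsScalarTower.toAlgHom k A B))).range)
    {f : B} (hf : f ∈ GLin.invariants k H B) (hxf : x f ≠ 0)
    [Algebra.FormallyEtale A (Localization.Away f)] :
    NearIso (algebraMap A B) (RingHom.ker (GLin.orbitHom k H (x.comp (IsScalarTower.toAlgHom k A B))))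
      (RingHom.ker (GLin.orbitHom k H x)) := by
  refine ⟨map_ker_le hφ x, fun n => ?_⟩
  rcases Nat.eq_zero_or_pos n with rfl | hn
  · simp
  let I := RingHom.ker (GLin.orbitHom k H x)
  let J := RingHom.ker (GLin.orbitHom k H (x.comp (IsScalarTower.toAlgHom k A B)))
  have hJI : J = I.comap (algebraMap A B) := by
    ext a
    show GLin.orbitHom k H (x.comp (IsScalarTower.toAlgHom k A B)) a = 0 ↔ GLin.orbitHom k H x (algebraMap A B a) = 0
    rw [orbitHom_comp hφ]
  have hsurj : ∀ b : B, ∃ a : A, b - algebraMap A B a ∈ I := by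
    intro b
    obtain ⟨a, ha⟩ := heq.le (⟨b, rfl⟩ : GLin.orbitHom k H x b ∈ (GLin.orbitHom k H x).range)
    refine ⟨a, ?_⟩
    show GLin.orbitHom k H x (b - algebraMap A B a) = 0
    rw [map_sub, ← orbitHom_comp hφ]
    exact sub_eq_zero.2 ha.symm
  -- the element `f` is a unit modulo the powers
  have hunit : ∀ j, IsUnit (Ideal.Quotient.mk (I ^ j) f) := by
    intro j
    have h1 : f - algebraMap k B (x f) ∈ I := by
      show GLin.orbitHom k H x (f - algebraMap k B (x f)) = 0
      rw [map_sub, orbitHom_invariant x hf, AlgHom.commutes, sub_self]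
    have h2 : IsNilpotent (Ideal.Quotient.mk (I ^ j) (f - algebraMap k B (x f))) :=
      ⟨j, by rw [← map_pow]; exact Ideal.Quotient.eq_zero_iff_mem.2 (Ideal.pow_mem_pow h1 j)⟩
    have h3 : IsUnit (Ideal.Quotient.mk (I ^ j) (algebraMap k B (x f))) :=
      ((Ne.isUnit hxf).map (algebraMap k B)).map (Ideal.Quotient.mk (I ^ j))
    have h4 := h2.isUnit_add_right_of_commute h3 (Commute.all _ _)
    rw [← map_add] at h4
    simpa using h4
  let Bf := Localization.Away f
  let In := I ^ n
  let Jn := J ^ n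
  -- natural map
  let ν : Bf →ₐ[A] B ⧸ In :=
    IsLocalization.liftAlgHom (M := Submonoid.powers f) (f := Ideal.Quotient.mkₐ A In) (by
      rintro ⟨_, q, rfl⟩
      show IsUnit (Ideal.Quotient.mk In (f ^ q))
      rw [map_pow]
      exact (hunit n).pow q)
  have hν : ∀ b : B, ν (algebraMap B Bf b) = Ideal.Quotient.mk In b := fun b =>
    IsLocalization.lift_eq _ b
  -- the identification of the orbits
  let ι : (A ⧸ J) →ₐ[A] B ⧸ I := Ideal.Quotient.liftₐ J ((Ideal.Quotient.mkₐ A I).comp (Algebra.ofId A B))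
    (fun a ha => Ideal.Quotient.eq_zero_iff_mem.2 (by rw [hJI] at ha; exact ha))
  have hι : Function.Bijective ι := by
    refine ⟨(injective_iff_map_eq_zero ι).2 fun y hy => ?_, fun y => ?_⟩
    · obtain ⟨a, rfl⟩ := Ideal.Quotient.mk_surjective y
      exact Ideal.Quotient.eq_zero_iff_mem.2 (hJI.symm.le (Ideal.mem_comap.2
        (Ideal.Quotient.eq_zero_iff_mem.1 (show Ideal.Quotient.mk I (algebraMap A B a) = 0 from hy))))
    · obtain ⟨b, rfl⟩ := Ideal.Quotient.mk_surjective y
      obtain ⟨a, ha⟩ := hsurj b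
      exact ⟨Ideal.Quotient.mk J a, (Ideal.Quotient.eq.2 ha).symm⟩
  let eι := AlgEquiv.ofBijective ι hι
  let red : (B ⧸ In) →ₐ[A] B ⧸ I := Ideal.Quotient.factorₐ A (show I ^ n ≤ I from Ideal.pow_le_self hn.ne')
  let redA : (A ⧸ Jn) →ₐ[A] A ⧸ J := Ideal.Quotient.factorₐ A (show J ^ n ≤ J from Ideal.pow_le_self hn.ne')
  have hredA : Function.Surjective redA :=
    Ideal.Quotient.factor_surjective (show J ^ n ≤ J from Ideal.pow_le_self hn.ne')
  have hkerA : IsNilpotent (RingHom.ker (redA : (A ⧸ Jn) →+* A ⧸ J)) := by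
    refine ⟨n, ?_⟩
    rw [Ideal.zero_eq_bot, eq_bot_iff]
    have hle : RingHom.ker (redA : (A ⧸ Jn) →+* A ⧸ J) ≤ J.map (Ideal.Quotient.mk Jn) := by
      intro y hy
      obtain ⟨a, rfl⟩ := Ideal.Quotient.mk_surjective y
      exact Ideal.mem_map_of_mem _ (Ideal.Quotient.eq_zero_iff_mem.1 hy)
    refine (Ideal.pow_right_mono hle n).trans ?_
    rw [← Ideal.map_pow, Ideal.map_quotient_self]
  have hkerB : IsNilpotent (RingHom.ker (red : (B ⧸ In) →+* B ⧸ I)) := by
    refine ⟨n, ?_⟩
    rw [Ideal.zero_eq_bot, eq_bot_iff]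
    have hle : RingHom.ker (red : (B ⧸ In) →+* B ⧸ I) ≤ I.map (Ideal.Quotient.mk In) := by
      intro y hy
      obtain ⟨a, rfl⟩ := Ideal.Quotient.mk_surjective y
      exact Ideal.mem_map_of_mem _ (Ideal.Quotient.eq_zero_iff_mem.1 hy)
    refine (Ideal.pow_right_mono hle n).trans ?_
    rw [← Ideal.map_pow, Ideal.map_quotient_self]
  let s : Bf →ₐ[A] A ⧸ Jn :=
    Algebra.FormallySmooth.liftOfSurjective (eι.symm.toAlgHom.comp (red.comp ν)) redA hredA hkerA
  have hs : ∀ y, redA (s y) = eι.symm (red (ν y)) := fun y =>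
    Algebra.FormallySmooth.liftOfSurjective_apply _ _ hredA hkerA y
  let ιn : (A ⧸ Jn) →ₐ[A] B ⧸ In := Ideal.Quotient.liftₐ Jn ((Ideal.Quotient.mkₐ A In).comp (Algebra.ofId A B))
    (fun a ha => Ideal.Quotient.eq_zero_iff_mem.2 (by
      have h1 := Ideal.mem_map_of_mem (algebraMap A B) ha
      rw [Ideal.map_pow] at h1
      exact Ideal.pow_right_mono (map_ker_le hφ x) n h1))
  have hcompat : ∀ y, red (ιn y) = ι (redA y) := fun y => by
    obtain ⟨a, rfl⟩ := Ideal.Quotient.mk_surjective y
    rfl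
  have hνs : ιn.comp s = ν := by
    refine Algebra.FormallyUnramified.ext' (red : (B ⧸ In) →+* B ⧸ I) hkerB _ _ fun y => ?_
    show red (ιn (s y)) = red (ν y)
    rw [hcompat, hs]
    exact eι.apply_symm_apply _
  refine ⟨fun b => ?_, fun a ha => ?_⟩
  · obtain ⟨a, ha⟩ := Ideal.Quotient.mk_surjective (s (algebraMap B Bf b))
    refine ⟨a, Ideal.Quotient.eq.1 ?_⟩
    have h := AlgHom.congr_fun hνs (algebraMap B Bf b)
    rw [hν, AlgHom.comp_apply, ← ha] at h
    exact h.symm
  · let sB : B →ₐ[A] A ⧸ Jn := s.comp (IsScalarTower.toAlgHom A B Bf)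
    have hle : In ≤ RingHom.ker sB.toRingHom := by
      have h1 : ∀ i ∈ I, sB i ∈ J.map (Ideal.Quotient.mk Jn) := by
        intro i hi
        obtain ⟨a, ha⟩ := Ideal.Quotient.mk_surjective (sB i)
        rw [← ha]
        refine Ideal.mem_map_of_mem _ (Ideal.Quotient.eq_zero_iff_mem.1 ?_)
        show redA (Ideal.Quotient.mk Jn a) = 0
        rw [ha]
        show redA (s (algebraMap B Bf i)) = 0
        rw [hs, hν, show red (Ideal.Quotient.mk In i) = Ideal.Quotient.mk I i from rfl,
          Ideal.Quotient.eq_zero_iff_mem.2 hi, map_zero]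
      have h2 : I ≤ (J.map (Ideal.Quotient.mk Jn)).comap sB.toRingHom := h1
      intro i hi
      have h3 : sB i ∈ (J.map (Ideal.Quotient.mk Jn)) ^ n :=
        (Ideal.le_comap_pow sB.toRingHom n) (Ideal.pow_right_mono h2 n hi)
      rw [← Ideal.map_pow, Ideal.map_quotient_self] at h3
      exact h3
    refine Ideal.Quotient.eq_zero_iff_mem.1 ?_
    have h4 : sB (algebraMap A B a) = 0 := hle ha
    rw [AlgHom.commutes] at h4
    exact h4

end LunaLib

end
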