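import Mathlib
import Groth.Agent.ComodLib.LinRed
import Groth.Prelude.Def_GLin

/-! # Base change over the invariants

For an algebra `C` over the invariants of `A`, the tensor product `A ⊗ C` over the invariants carries the
coaction of the first factor, and its invariants are the image of `C`. -/

set_option autoImplicit false
set_option maxHeartbeats 1000000
set_option synthInstance.maxHeartbeats 400000

noncomputable section

open TensorProduct HopfRep
open scoped ComodLib

namespace LunaLib

universe u v w w'

section pair

variable {k : Type u} [CommRing k] {R : Type*} [CommRing R] {A : Type*} [CommRing A] [Algebra R A] [Algebra k A]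
  [SMulCommClass R k A] {C : Type*} [CommRing C] [Algebra R C] {T : Type*} [CommRing T] [Algebra k T]

/-- The algebra map out of a tensor product given by two maps agreeing on the base. -/
def liftPair (ρ : A →ₐ[k] T) (g : C →+* T) (h : ∀ r, ρ (algebraMap R A r) = g (algebraMap R C r)) :
    A ⊗[R] C →ₐ[k] T :=
  letI : Algebra R T := (g.comp (algebraMap R C)).toAlgebra
  let F : A ⊗[R] C →ₐ[R] T := Algebra.TensorProduct.productMap
    ({ ρ.toRingHom with commutes' := h } : A →ₐ[R] T)
    ({ g with commutes' := fun _ => rfl } : C →ₐ[R] T)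
  { F.toRingHom with
    commutes' := fun c => by
      show F (algebraMap k A c ⊗ₜ[R] (1 : C)) = _
      simp only [F, Algebra.TensorProduct.productMap_apply_tmul]
      rw [map_one, mul_one]
      exact ρ.commutes c }

theorem liftPair_tmul (ρ : A →ₐ[k] T) (g : C →+* T) (h : ∀ r, ρ (algebraMap R A r) = g (algebraMap R C r))
    (a : A) (c : C) : liftPair ρ g h (a ⊗ₜ[R] c) = ρ a * g c := by
  letI : Algebra R T := (g.comp (algebraMap R C)).toAlgebra
  exact Algebra.TensorProduct.productMap_apply_tmul
    ({ ρ.toRingHom with commutes' := h } : A →ₐ[R] T) ({ g with commutes' := fun _ => rfl } : C →ₐ[R] T) a c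

end pair

variable {k : Type u} [Field k] {H : Type v} [CommRing H] [HopfAlgebra k H]
  {A : Type w} [CommRing A] [Algebra k A] [Comod k H A] [GLin.IsCoactAlg k H A]
  (C : Type w') [CommRing C] [Algebra k C] [Algebra (GLin.invariants k H A) C]
  [IsScalarTower k (GLin.invariants k H A) C]

local notation "A₀" => GLin.invariants k H A
local notation "W" => A ⊗[A₀] C

/-- The coaction of the first factor. -/
def tensCoact : W →ₐ[k] W ⊗[k] H :=
  liftPair ((Algebra.TensorProduct.map
      (Algebra.TensorProduct.includeLeft : A →ₐ[k] W) (AlgHom.id k H)).comp (GLin.coactAlgHom k H A))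
    ((Algebra.TensorProduct.includeLeft : W →ₐ[k] W ⊗[k] H).toRingHom.comp
      (Algebra.TensorProduct.includeRight : C →ₐ[A₀] W).toRingHom)
    fun q => by
      show Algebra.TensorProduct.map (Algebra.TensorProduct.includeLeft : A →ₐ[k] W) (AlgHom.id k H)
        (Comod.coact (k := k) (A := H) (q : A)) = ((1 : A) ⊗ₜ[A₀] algebraMap A₀ C q) ⊗ₜ[k] (1 : H)
      rw [show Comod.coact (k := k) (A := H) (q : A) = (q : A) ⊗ₜ[k] (1 : H) from q.2,
        Algebra.TensorProduct.map_tmul]
      refine congrArg (· ⊗ₜ[k] (1 : H)) ?_
      show (q : A) ⊗ₜ[A₀] (1 : C) = _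
      rw [Algebra.algebraMap_eq_smul_one, ← TensorProduct.smul_tmul,
        show q • (1 : A) = (q : A) from mul_one _]

/-- Tensoring with a fixed element. -/
def lmk (c : C) : A →ₗ[k] W := ((TensorProduct.mk A₀ A C).flip c).restrictScalars k

omit [Algebra k C] [IsScalarTower k A₀ C] in
theorem lmk_apply (a : A) (c : C) : lmk (k := k) (H := H) (A := A) C c a = a ⊗ₜ[A₀] c := rfl

theorem tensCoact_tmul (a : A) (c : C) : tensCoact (k := k) (H := H) (A := A) C (a ⊗ₜ[A₀] c) =
    (lmk (k := k) (H := H) (A := A) C c).rTensor H (Comod.coact (k := k) (A := H) a) := by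
  rw [tensCoact, liftPair_tmul]
  show Algebra.TensorProduct.map (Algebra.TensorProduct.includeLeft : A →ₐ[k] W) (AlgHom.id k H)
    (Comod.coact (k := k) (A := H) a) * (((1 : A) ⊗ₜ[A₀] c) ⊗ₜ[k] (1 : H)) = _
  generalize Comod.coact (k := k) (A := H) a = z
  induction z with
  | zero => simp
  | add z z' hz hz' => simp only [map_add, add_mul, hz, hz']
  | tmul x h => simp [lmk_apply, Algebra.TensorProduct.tmul_mul_tmul]

/-- The tensor product as a comodule. -/
@[reducible] def tensComod : Comod k H W where
  coact := (tensCoact (k := k) (H := H) (A := A) C).toLinearMap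
  coassoc := by
    refine LinearMap.ext fun x => ?_
    simp only [LinearMap.comp_apply, LinearEquiv.coe_coe, AlgHom.toLinearMap_apply]
    induction x using TensorProduct.induction_on with
    | zero => simp
    | add p q hp hq => simp only [map_add, hp, hq]
    | tmul a c =>
      rw [tensCoact_tmul]
      have e0 : (tensCoact (k := k) (H := H) (A := A) C).toLinearMap ∘ₗ lmk (k := k) (H := H) (A := A) C c =
          (lmk (k := k) (H := H) (A := A) C c).rTensor H ∘ₗ Comod.coact (k := k) (A := H) :=
        LinearMap.ext fun x => tensCoact_tmul C x c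
      have e1 : ∀ z : (A ⊗[k] H) ⊗[k] H, TensorProduct.assoc k W H H (((lmk (k := k) (H := H) (A := A) C c).rTensor H).rTensor H z) =
          (lmk (k := k) (H := H) (A := A) C c).rTensor (H ⊗[k] H) (TensorProduct.assoc k A H H z) := fun z => by
        induction z with
        | zero => simp
        | add z z' hz hz' => simp only [map_add, hz, hz']
        | tmul p h =>
          induction p with
          | zero => simp [TensorProduct.zero_tmul]
          | add p p' hp hp' => simp only [map_add, TensorProduct.add_tmul, hp, hp']
          | tmul p g => simp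
      have e2 : ∀ z : A ⊗[k] H, (CoalgebraStruct.comul (R := k) (A := H)).lTensor W ((lmk (k := k) (H := H) (A := A) C c).rTensor H z) =
          (lmk (k := k) (H := H) (A := A) C c).rTensor (H ⊗[k] H) ((CoalgebraStruct.comul (R := k) (A := H)).lTensor A z) := fun z => by
        induction z with
        | zero => simp
        | add z z' hz hz' => simp only [map_add, hz, hz']
        | tmul p h => simp
      rw [← LinearMap.rTensor_comp_apply, e0, LinearMap.rTensor_comp_apply, e1, e2,
        ComodLib.coassoc_apply (k := k) (A := H) (V := A) a]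
  counit_comp := by
    refine LinearMap.ext fun x => ?_
    simp only [LinearMap.comp_apply, AlgHom.toLinearMap_apply, LinearMap.flip_apply, TensorProduct.mk_apply]
    induction x using TensorProduct.induction_on with
    | zero => simp
    | add p q hp hq => simp only [map_add, hp, hq, TensorProduct.add_tmul]
    | tmul a c =>
      rw [tensCoact_tmul]
      have e : ∀ z : A ⊗[k] H, (CoalgebraStruct.counit (R := k) (A := H)).lTensor W ((lmk (k := k) (H := H) (A := A) C c).rTensor H z) =
          (lmk (k := k) (H := H) (A := A) C c).rTensor k ((CoalgebraStruct.counit (R := k) (A := H)).lTensor A z) := fun z => by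
        induction z with
        | zero => simp
        | add z z' hz hz' => simp only [map_add, hz, hz']
        | tmul p h => simp
      rw [e, show (CoalgebraStruct.counit (R := k) (A := H)).lTensor A (Comod.coact (k := k) (A := H) a) =
        a ⊗ₜ[k] (1 : k) from LinearMap.congr_fun (Comod.counit_comp (k := k) (A := H) (V := A)) a]
      rfl

theorem tens_isCoactAlg :
    letI := tensComod (k := k) (H := H) (A := A) C
    GLin.IsCoactAlg k H W :=
  letI := tensComod (k := k) (H := H) (A := A) C
  ⟨(tensCoact (k := k) (H := H) (A := A) C).toRingHom.map_one,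
    (tensCoact (k := k) (H := H) (A := A) C).toRingHom.map_mul⟩

theorem isComodHom_lmk (c : C) :
    letI := tensComod (k := k) (H := H) (A := A) C
    Hoch.IsComodHom H (lmk (k := k) (H := H) (A := A) C c) :=
  LinearMap.ext fun a => tensCoact_tmul C a c

theorem tensCoact_one_tmul (c : C) :
    tensCoact (k := k) (H := H) (A := A) C ((1 : A) ⊗ₜ[A₀] c) = ((1 : A) ⊗ₜ[A₀] c) ⊗ₜ[k] (1 : H) := by
  rw [tensCoact_tmul, GLin.IsCoactAlg.coact_one (k := k) (A := H) (R := A),
    Algebra.TensorProduct.one_def, LinearMap.rTensor_tmul, lmk_apply]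

/-- The invariants of the tensor product come from the second factor. -/
theorem exists_eq_of_invariant (hG : IsLinearlyReductive k H) (x : W)
    (hx : tensCoact (k := k) (H := H) (A := A) C x = x ⊗ₜ[k] (1 : H)) : ∃ c, x = (1 : A) ⊗ₜ[A₀] c := by
  letI := tensComod (k := k) (H := H) (A := A) C
  obtain ⟨α, hα, h1⟩ := ComodLib.exists_invariant_of_isLinearlyReductive hG
  suffices key : ∀ y : W, ∃ c, ComodLib.reynolds W α y = (1 : A) ⊗ₜ[A₀] c by
    obtain ⟨c, hc⟩ := key x
    have hfix : x ∈ fixedPts k H W := hx
    exact ⟨c, (ComodLib.reynolds_fixed h1 hfix).symm.trans hc⟩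
  intro y
  induction y using TensorProduct.induction_on with
  | zero => exact ⟨0, by rw [map_zero, TensorProduct.tmul_zero]⟩
  | add p q hp hq =>
    obtain ⟨c, hc⟩ := hp
    obtain ⟨d, hd⟩ := hq
    exact ⟨c + d, by rw [map_add, hc, hd, TensorProduct.tmul_add]⟩
  | tmul a c =>
    let q : A₀ := ⟨ComodLib.reynolds A α a, ComodLib.reynolds_mem hα a⟩
    refine ⟨q • c, (ComodLib.reynolds_natural α (isComodHom_lmk (k := k) (H := H) (A := A) C c) a).symm.trans ?_⟩
    show (q : A) ⊗ₜ[A₀] c = _
    rw [← TensorProduct.smul_tmul, show q • (1 : A) = (q : A) from mul_one _]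

end LunaLib

end
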