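import Mathlib
import Groth.Agent.ComodLib.HomComod
import Groth.Agent.LunaLib.Orbit
import Groth.Agent.LunaLib.Etale
import Groth.Agent.LunaLib.Invariants
import Groth.Agent.LunaLib.Tensor

/-! # The fundamental lemma

An equivariant map which is etale near a closed orbit and preserves its stabiliser is, near that orbit, the base
change of an etale map of quotients. -/

set_option autoImplicit false
set_option maxHeartbeats 1000000
set_option synthInstance.maxHeartbeats 400000

noncomputable section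

open TensorProduct HopfRep MvPolynomial
open scoped ComodLib Pointwise

namespace LunaLib

universe u v w

variable {k : Type u} [Field k] {H : Type v} [CommRing H] [HopfAlgebra k H]
  {A : Type w} [CommRing A] [Algebra k A] [Comod k H A] [GLin.IsCoactAlg k H A]
  {B : Type w} [CommRing B] [Algebra k B] [Comod k H B] [GLin.IsCoactAlg k H B]

local notation "Inv" => GLin.invariants k H

/-- A closed family gives an invariant linear form with coefficients in it. -/
theorem exists_covariant {r : ℕ} (v : Fin r → A) (m : Fin r → Fin r → H)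
    (hv : ∀ i, Comod.coact (k := k) (A := H) (v i) = ∑ j, v j ⊗ₜ[k] m j i)
    (hmul : ∀ j i, CoalgebraStruct.comul (R := k) (m j i) = ∑ l, m j l ⊗ₜ[k] m l i)
    (hone : ∀ j i, CoalgebraStruct.counit (R := k) (m j i) = if j = i then (1 : k) else 0) :
    ∃ n : Fin r → Fin r → H,
      (∀ j i, CoalgebraStruct.comul (R := k) (n j i) = ∑ l, n j l ⊗ₜ[k] n l i) ∧
      (∀ j i, CoalgebraStruct.counit (R := k) (n j i) = if j = i then (1 : k) else 0) ∧
      (∑ i, C (v i) * X i : MvPolynomial (Fin r) A) ∈ Cov k n A := by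
  classical
  let n : Fin r → Fin r → H := fun l i => HopfAlgebra.antipode k (m i l)
  refine ⟨n, fun l i => ?_, fun l i => ?_, ?_, ?_⟩
  · show CoalgebraStruct.comul (R := k) (HopfAlgebra.antipode k (m i l)) = _
    rw [ComodLib.comul_antipode', hmul, map_sum, map_sum]
    exact Finset.sum_congr rfl fun p _ => by rw [TensorProduct.comm_tmul, TensorProduct.map_tmul]
  · show CoalgebraStruct.counit (R := k) (HopfAlgebra.antipode k (m i l)) = _
    rw [HopfAlgebra.counit_antipode, hone]
    simp [eq_comm]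
  · have key : ∀ j l, ∑ i, m j i * HopfAlgebra.antipode k (m i l) = if j = l then (1 : H) else 0 := by
      intro j l
      have h := HopfAlgebra.mul_antipode_lTensor_comul_apply (R := k) (m j l)
      rw [hmul] at h
      simp only [map_sum, LinearMap.lTensor_tmul, LinearMap.mul'_apply, hone] at h
      rw [h]
      split_ifs <;> simp
    have e : ∀ i, GLinFinLib.polyCoact (k := k) (A := A) n (C (v i) * X i) =
        ∑ j, ∑ l, ((C (v j) * X l : MvPolynomial (Fin r) A)) ⊗ₜ[k] (m j i * HopfAlgebra.antipode k (m i l)) := by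
      intro i
      rw [map_mul, GLinFinLib.polyCoact_C, GLinFinLib.polyCoact_X, hv, map_sum, Finset.sum_mul_sum]
      refine Finset.sum_congr rfl fun j _ => Finset.sum_congr rfl fun l _ => ?_
      rw [Algebra.TensorProduct.map_tmul, Algebra.TensorProduct.tmul_mul_tmul]
      rfl
    rw [map_sum]
    simp only [e]
    rw [Finset.sum_comm, TensorProduct.sum_tmul]
    refine Finset.sum_congr rfl fun j _ => ?_
    rw [Finset.sum_comm]
    simp only [← TensorProduct.tmul_sum, key]
    rw [Finset.sum_eq_single j (fun l _ hl => by rw [if_neg hl.symm, TensorProduct.tmul_zero]) (by simp), if_pos rfl]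
  · exact (mem_homogeneousSubmodule _ _).2
      (IsHomogeneous.sum _ _ _ fun i _ => IsHomogeneous.C_mul (isHomogeneous_X A i) _)

omit [Comod k H A] [GLin.IsCoactAlg k H A] in
theorem coeff_linearForm {r : ℕ} (v : Fin r → A) (i : Fin r) :
    coeff (Finsupp.single i 1) (∑ j, C (v j) * X j : MvPolynomial (Fin r) A) = v i := by
  classical
  simp [coeff_sum, coeff_C_mul, coeff_X, Finsupp.single_left_inj]

/-- Near a point every element comes from `A` and the invariants. -/
theorem exists_mul_mem_span [IsNoetherianRing B] (hG : IsLinearlyReductive k H) {φ : A →ₐ[k] B}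
    (hφ : Hoch.IsComodHom H φ.toLinearMap) {J : Ideal A} {I : Ideal B} (hn : NearIso φ.toRingHom J I)
    (hI : IsSubcomod (k := k) (A := H) (I.restrictScalars k)) (b : B) :
    ∃ s : Inv B, s - 1 ∈ I.comap (Inv B).val.toRingHom ∧
      (s : B) * b ∈ Submodule.span (Inv B) (Set.range φ) := by
  classical
  obtain ⟨r, v, m, hbv, hv, hmul, hone⟩ := GLinFinLib.exists_closed_family (k := k) (H := H) ({b} : Finset B)
  obtain ⟨n, hmul', hone', hξ⟩ := exists_covariant v m hv hmul hone
  let T : Submodule (Inv B) (MvPolynomial (Fin r) B) :=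
    { carrier := {F | ∀ e, coeff e F ∈ Submodule.span (Inv B) (Set.range φ)}
      zero_mem' := fun e => by rw [coeff_zero]; exact zero_mem _
      add_mem' := fun {F G} hF hG' e => by rw [coeff_add]; exact add_mem (hF e) (hG' e)
      smul_mem' := fun c F hF e => by
        rw [smul_eq_C_mul', coeff_C_mul]
        exact Submodule.smul_mem _ c (hF e) }
  have hle : Cov k n B ≤ T ⊔ (I.comap (Inv B).val.toRingHom) • Cov k n B := by
    intro F hF
    obtain ⟨G, -, hFG⟩ := cov_surj n hmul' hone' hG hφ hn hI 1 hF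
    rw [pow_one] at hFG
    refine Submodule.mem_sup.2 ⟨_, fun e => ?_, _, hFG, add_sub_cancel _ _⟩
    show coeff e (MvPolynomial.map φ.toRingHom G) ∈ _
    rw [coeff_map]
    exact Submodule.subset_span ⟨coeff e G, rfl⟩
  obtain ⟨s, hs, hsle⟩ := Submodule.exists_sub_one_mem_and_smul_le_of_fg_of_le_sup
    (cov_fg n hmul' hone' hG) le_rfl hle
  refine ⟨s, hs, ?_⟩
  have hsξ := hsle (Submodule.smul_mem_pointwise_smul _ s _ hξ)
  have hvs : ∀ i, (s : B) * v i ∈ Submodule.span (Inv B) (Set.range φ) := fun i => by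
    have h := hsξ (Finsupp.single i 1)
    rwa [smul_eq_C_mul', coeff_C_mul, coeff_linearForm] at h
  exact (Submodule.span_le (p := ((Submodule.span (Inv B) (Set.range φ)).restrictScalars k).comap
    (LinearMap.mulLeft k (s : B)))).2 (by rintro _ ⟨i, rfl⟩; exact hvs i)
    (hbv b (Finset.mem_singleton_self b))

/-- Near a point an element of the kernel vanishes. -/
theorem exists_mul_eq_zero [IsNoetherianRing A] (hG : IsLinearlyReductive k H) {φ : A →ₐ[k] B}
    (hφ : Hoch.IsComodHom H φ.toLinearMap) {J : Ideal A} {I : Ideal B} (hn : NearIso φ.toRingHom J I)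
    (hJ : IsSubcomod (k := k) (A := H) (J.restrictScalars k)) {z : A} (hz : φ z = 0) :
    ∃ s : Inv A, s - 1 ∈ J.comap (Inv A).val.toRingHom ∧ (s : A) * z = 0 := by
  classical
  obtain ⟨r, v, m, hzv, hv0, hv, hmul, hone⟩ : ∃ (r : ℕ) (v : Fin r → A) (m : Fin r → Fin r → H),
      z ∈ Submodule.span k (Set.range v) ∧ (∀ i, φ (v i) = 0) ∧
      (∀ i, Comod.coact (k := k) (A := H) (v i) = ∑ j, v j ⊗ₜ[k] m j i) ∧
      (∀ j i, CoalgebraStruct.comul (R := k) (m j i) = ∑ l, m j l ⊗ₜ[k] m l i) ∧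
      (∀ j i, CoalgebraStruct.counit (R := k) (m j i) = if j = i then (1 : k) else 0) := by
    have hK : IsSubcomod (k := k) (A := H) (LinearMap.ker φ.toLinearMap) := ComodLib.isSubcomod_ker_of_hom hφ
    letI cK : Comod k H ↥(LinearMap.ker φ.toLinearMap) := ComodLib.subComod hK
    obtain ⟨r, v, m, hzv, hv, hmul, hone⟩ :=
      GLinFinLib.exists_closed_family (k := k) (H := H) ({⟨z, hz⟩} : Finset ↥(LinearMap.ker φ.toLinearMap))
    refine ⟨r, fun i => (v i : A), m, ?_, fun i => (v i).2, fun i => ?_, hmul, hone⟩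
    · obtain ⟨c, hc⟩ := (Submodule.mem_span_range_iff_exists_fun k).1 (hzv _ (Finset.mem_singleton_self _))
      have h1 := congrArg (LinearMap.ker φ.toLinearMap).subtype hc
      rw [map_sum] at h1
      simp only [map_smul, Submodule.coe_subtype] at h1
      rw [← h1]
      exact Submodule.sum_mem _ fun i _ => Submodule.smul_mem _ _ (Submodule.subset_span ⟨i, rfl⟩)
    · have h1 := (LinearMap.congr_fun (ComodLib.exists_coact_sub hK).choose_spec (v i)).symm
      simp only [LinearMap.comp_apply, Submodule.coe_subtype] at h1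
      refine h1.trans ?_
      show LinearMap.rTensor H _ (Comod.coact (k := k) (A := H) (v i)) = _
      rw [hv, map_sum]
      rfl
  obtain ⟨n, hmul', hone', hξ⟩ := exists_covariant v m hv hmul hone
  haveI : IsNoetherianRing (Inv A) := isNoetherianRing_invariants hG
  haveI : Module.Finite (Inv A) ↥(Cov k n A) := Module.Finite.iff_fg.2 (cov_fg n hmul' hone' hG)
  have hmap : MvPolynomial.mapAlgHom φ (∑ i, C (v i) * X i) = 0 := by
    show MvPolynomial.map φ.toRingHom (∑ i, C (v i) * X i) = 0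
    rw [map_sum]
    refine Finset.sum_eq_zero fun i _ => ?_
    rw [map_mul, map_C, show φ.toRingHom (v i) = 0 from hv0 i, map_zero, zero_mul]
  have hmem : (⟨_, hξ⟩ : ↥(Cov k n A)) ∈
      (⨅ i : ℕ, (J.comap (Inv A).val.toRingHom) ^ i • ⊤ : Submodule (Inv A) ↥(Cov k n A)) := by
    refine (Submodule.mem_iInf _).2 fun i => ?_
    obtain ⟨j, hj⟩ := cov_inj n hmul' hone' hG hφ hn hJ i
    rw [Submodule.mem_smul_top_iff]
    refine hj _ hξ ?_
    rw [hmap]
    exact zero_mem _
  obtain ⟨⟨c, hc⟩, hcξ⟩ := (Ideal.mem_iInf_smul_pow_eq_bot_iff _ _).1 hmem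
  refine ⟨1 - c, by rw [show (1 - c) - 1 = -c by ring]; exact neg_mem hc, ?_⟩
  have hvs : ∀ i, ((1 - c : Inv A) : A) * v i = 0 := fun i => by
    have h := congrArg (fun F : ↥(Cov k n A) => coeff (Finsupp.single i 1) (F : MvPolynomial (Fin r) A)) hcξ
    simp only [Submodule.coe_smul, smul_eq_C_mul', coeff_C_mul, coeff_linearForm] at h
    rw [AddSubgroupClass.coe_sub, OneMemClass.coe_one, sub_mul, one_mul, h, sub_self]
  exact (Submodule.span_le (p := LinearMap.ker (LinearMap.mulLeft k ((1 - c : Inv A) : A)))).2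
    (by rintro _ ⟨i, rfl⟩; exact hvs i) hzv

variable [Algebra A B] [IsScalarTower k A B] [Algebra (GLin.invariants k H A) (GLin.invariants k H B)]
  [IsScalarTower (GLin.invariants k H A) (GLin.invariants k H B) B]

/-- The fundamental lemma. -/
theorem fundamental [IsNoetherianRing A] [IsNoetherianRing B] [Algebra.FiniteType A B]
    (hG : IsLinearlyReductive k H) (hφ : Hoch.IsComodHom H (IsScalarTower.toAlgHom k A B).toLinearMap)
    {x : B →ₐ[k] k} (hy : GLin.IsClosedOrbit k H (x.comp (IsScalarTower.toAlgHom k A B)))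
    (hst : GLin.stabIdeal k H x ≤ GLin.stabIdeal k H (x.comp (IsScalarTower.toAlgHom k A B)))
    {f : Inv B} (hxf : x (f : B) ≠ 0) [Algebra.FormallyEtale A (Localization.Away (f : B))] :
    ∃ g : Inv B, x (g : B) ≠ 0 ∧ f ∣ g ∧ Algebra.Etale (Inv A) (Localization.Away g) ∧
      (∀ z : A ⊗[Inv A] (Inv B), Algebra.TensorProduct.productMap (IsScalarTower.toAlgHom (Inv A) A B)
          (IsScalarTower.toAlgHom (Inv A) (Inv B) B) z = 0 →
        ∃ j : ℕ, ((1 : A) ⊗ₜ[Inv A] g) ^ j * z = 0) ∧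
      (∀ b : B, ∃ (j : ℕ) (z : A ⊗[Inv A] (Inv B)),
        Algebra.TensorProduct.productMap (IsScalarTower.toAlgHom (Inv A) A B)
          (IsScalarTower.toAlgHom (Inv A) (Inv B) B) z = (g : B) ^ j * b) := by
  classical
  have hcompat : ∀ a : Inv A, ((algebraMap (Inv A) (Inv B) a : Inv B) : B) = algebraMap A B (a : A) :=
    fun a => (IsScalarTower.algebraMap_apply (Inv A) (Inv B) B a).symm
  haveI : IsScalarTower k (Inv A) (Inv B) := IsScalarTower.of_algebraMap_eq fun c => Subtype.ext (by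
    rw [hcompat]
    exact IsScalarTower.algebraMap_apply k A B c)
  haveI : IsNoetherianRing (Inv A) := isNoetherianRing_invariants hG
  haveI : Algebra.FiniteType (Inv A) (Inv B) := finiteType_invariants hG hφ hcompat
  let I : Ideal B := RingHom.ker (GLin.orbitHom k H x)
  let J : Ideal A := RingHom.ker (GLin.orbitHom k H (x.comp (IsScalarTower.toAlgHom k A B)))
  have hn : NearIso (IsScalarTower.toAlgHom k A B).toRingHom J I :=
    nearIso hφ (range_orbitHom_eq hφ hy hst) f.2 hxf
  have hI : IsSubcomod (k := k) (A := H) (I.restrictScalars k) := isSubcomod_ker_orbitHom x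
  have hJ : IsSubcomod (k := k) (A := H) (J.restrictScalars k) := isSubcomod_ker_orbitHom _
  let m0 : Ideal (Inv B) := I.comap (Inv B).val.toRingHom
  have hm0 : ∀ c : Inv B, c ∈ m0 ↔ x (c : B) = 0 := fun c => mem_ker_iff_of_invariant x c.2
  have hone0 : ∀ c : Inv B, c - 1 ∈ m0 → x (c : B) = 1 := fun c hc => by
    have h := (hm0 _).1 hc
    rwa [AddSubgroupClass.coe_sub, OneMemClass.coe_one, map_sub, map_one, sub_eq_zero] at h
  have hmax : m0.IsMaximal := by
    have e : m0 = RingHom.ker (x.toRingHom.comp (Inv B).val.toRingHom) := by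
      ext c
      exact hm0 c
    rw [e]
    exact RingHom.ker_isMaximal_of_surjective _ fun c => ⟨algebraMap k (Inv B) c, by simp⟩
  have happ : ∀ (j : ℕ) (c : Inv B), ∃ a : Inv A, c - algebraMap (Inv A) (Inv B) a ∈ m0 ^ j := by
    intro j c
    obtain ⟨a, ha⟩ := inv_surj hG hφ hn hI j c
    refine ⟨a, ?_⟩
    rwa [show algebraMap (Inv A) (Inv B) a =
      ⟨(IsScalarTower.toAlgHom k A B) a, map_invariant hφ a.2⟩ from Subtype.ext (hcompat a)]
  obtain ⟨ge, hge, hget⟩ := exists_etale (R := Inv A) (S := Inv B) m0 happ fun i => by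
    obtain ⟨j, hj⟩ := inv_inj hG hφ hn hJ i
    refine ⟨j, fun a ha => ?_⟩
    have e : (m0.comap (algebraMap (Inv A) (Inv B))) = J.comap (Inv A).val.toRingHom := by
      ext q
      show ((algebraMap (Inv A) (Inv B) q : Inv B) : B) ∈ I ↔ (q : A) ∈ J
      rw [hcompat]
      show GLin.orbitHom k H x (algebraMap A B q) = 0 ↔ GLin.orbitHom k H _ (q : A) = 0
      rw [orbitHom_comp hφ]
    rw [e]
    refine hj a ?_
    rwa [show (⟨(IsScalarTower.toAlgHom k A B) a, map_invariant hφ a.2⟩ : Inv B) =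
      algebraMap (Inv A) (Inv B) a from Subtype.ext (hcompat a).symm]
  -- the comparison map
  let μ := Algebra.TensorProduct.productMap (IsScalarTower.toAlgHom (Inv A) A B)
    (IsScalarTower.toAlgHom (Inv A) (Inv B) B)
  let μk : A ⊗[Inv A] (Inv B) →ₐ[k] B := μ.restrictScalars k
  have hμ : ∀ a c, μ (a ⊗ₜ[Inv A] c) = algebraMap A B a * (c : B) := fun a c =>
    Algebra.TensorProduct.productMap_apply_tmul _ _ a c
  letI := tensComod (k := k) (H := H) (A := A) (Inv B)
  haveI := tens_isCoactAlg (k := k) (H := H) (A := A) (Inv B)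
  have hμc : Hoch.IsComodHom H μk.toLinearMap := by
    refine LinearMap.ext fun t => ?_
    show Comod.coact (k := k) (A := H) (μk t) =
      μk.toLinearMap.rTensor H (tensCoact (k := k) (H := H) (A := A) (Inv B) t)
    induction t using TensorProduct.induction_on with
    | zero => simp
    | add p q hp hq => simp only [map_add, hp, hq]
    | tmul a c =>
      rw [tensCoact_tmul, show μk (a ⊗ₜ[Inv A] c) = algebraMap A B a * (c : B) from hμ a c,
        GLin.IsCoactAlg.coact_mul,
        show Comod.coact (k := k) (A := H) (c : B) = (c : B) ⊗ₜ[k] (1 : H) from c.2,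
        show Comod.coact (k := k) (A := H) (algebraMap A B a) =
          (IsScalarTower.toAlgHom k A B).toLinearMap.rTensor H (Comod.coact (k := k) (A := H) a) from
          LinearMap.congr_fun hφ a]
      generalize Comod.coact (k := k) (A := H) a = y
      induction y using TensorProduct.induction_on with
      | zero => simp
      | add p q hp hq => simp only [map_add, add_mul, hp, hq]
      | tmul p q =>
        simp only [LinearMap.rTensor_tmul, Algebra.TensorProduct.tmul_mul_tmul, mul_one]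
        rw [lmk_apply, show μk.toLinearMap (p ⊗ₜ[Inv A] c) = algebraMap A B p * (c : B) from hμ p c]
        rfl
  let JW : Ideal (A ⊗[Inv A] (Inv B)) := I.comap μk.toRingHom
  have hJW : IsSubcomod (k := k) (A := H) (JW.restrictScalars k) := ComodLib.isSubcomod_comap_of_hom hμc hI
  have hright : m0 ≤ JW.comap (Algebra.TensorProduct.includeRight : Inv B →ₐ[Inv A] _).toRingHom := by
    intro c hc
    show μ ((1 : A) ⊗ₜ[Inv A] c) ∈ I
    rw [hμ, map_one, one_mul]
    exact hc
  have hleft : J ≤ JW.comap (Algebra.TensorProduct.includeLeft : A →ₐ[k] A ⊗[Inv A] (Inv B)).toRingHom := by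
    intro a ha
    show μ (a ⊗ₜ[Inv A] (1 : Inv B)) ∈ I
    rw [hμ, OneMemClass.coe_one, mul_one]
    exact hn.1 (Ideal.mem_map_of_mem _ ha)
  have hclose : ∀ (j : ℕ) (t : A ⊗[Inv A] (Inv B)), ∃ a : A, t - a ⊗ₜ[Inv A] (1 : Inv B) ∈ JW ^ j := by
    intro j t
    induction t using TensorProduct.induction_on with
    | zero => exact ⟨0, by simp⟩
    | add p q hp hq =>
      obtain ⟨a, ha⟩ := hp
      obtain ⟨b, hb⟩ := hq
      refine ⟨a + b, ?_⟩
      rw [TensorProduct.add_tmul, add_sub_add_comm]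
      exact add_mem ha hb
    | tmul a c =>
      obtain ⟨q, hq⟩ := happ j c
      refine ⟨a * (q : A), ?_⟩
      have e : a ⊗ₜ[Inv A] c - (a * (q : A)) ⊗ₜ[Inv A] (1 : Inv B) =
          (a ⊗ₜ[Inv A] (1 : Inv B)) * ((1 : A) ⊗ₜ[Inv A] (c - algebraMap (Inv A) (Inv B) q)) := by
        rw [Algebra.TensorProduct.tmul_mul_tmul, mul_one, one_mul, TensorProduct.tmul_sub]
        congr 1
        rw [Algebra.algebraMap_eq_smul_one, ← TensorProduct.smul_tmul]
        congr 1
        exact mul_comm a (q : A)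
      rw [e]
      exact Ideal.mul_mem_left _ _ ((Ideal.le_comap_pow
        (Algebra.TensorProduct.includeRight : Inv B →ₐ[Inv A] A ⊗[Inv A] (Inv B)).toRingHom j)
        (Ideal.pow_right_mono hright j hq))
  have hnW : NearIso μk.toRingHom JW I := by
    refine ⟨Ideal.map_comap_le, fun j => ⟨fun b => ?_, fun t ht => ?_⟩⟩
    · obtain ⟨a, ha⟩ := (hn.2 j).1 b
      refine ⟨a ⊗ₜ[Inv A] (1 : Inv B), ?_⟩
      rwa [show μk.toRingHom (a ⊗ₜ[Inv A] (1 : Inv B)) = algebraMap A B a from
        (hμ a 1).trans (by rw [OneMemClass.coe_one, mul_one])]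
    · obtain ⟨a, ha⟩ := hclose j t
      have h1 : μk.toRingHom (t - a ⊗ₜ[Inv A] (1 : Inv B)) ∈ I ^ j :=
        Ideal.pow_right_mono (show JW.map μk.toRingHom ≤ I from Ideal.map_comap_le) j (by
          rw [← Ideal.map_pow]; exact Ideal.mem_map_of_mem μk.toRingHom ha)
      rw [map_sub, show μk.toRingHom (a ⊗ₜ[Inv A] (1 : Inv B)) = algebraMap A B a from
        (hμ a 1).trans (by rw [OneMemClass.coe_one, mul_one])] at h1
      have h2 : algebraMap A B a ∈ I ^ j := by
        have h3 := sub_mem ht h1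
        rwa [sub_sub_cancel] at h3
      have h4 := (hn.2 j).2 a h2
      have h5 : a ⊗ₜ[Inv A] (1 : Inv B) ∈ JW ^ j := (Ideal.le_comap_pow
        (Algebra.TensorProduct.includeLeft : A →ₐ[k] A ⊗[Inv A] (Inv B)).toRingHom j)
        (Ideal.pow_right_mono hleft j h4)
      rw [← sub_add_cancel t (a ⊗ₜ[Inv A] (1 : Inv B))]
      exact add_mem ha h5
  haveI : IsNoetherianRing (A ⊗[Inv A] (Inv B)) := Algebra.FiniteType.isNoetherianRing A _
  -- the kernel
  have hinj : ∀ z, μ z = 0 → ∃ c : Inv B, x (c : B) = 1 ∧ ((1 : A) ⊗ₜ[Inv A] c) * z = 0 := by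
    intro z hz
    obtain ⟨s, hs, hsz⟩ := exists_mul_eq_zero hG hμc hnW hJW (z := z) hz
    obtain ⟨c, hc⟩ := exists_eq_of_invariant (Inv B) hG s.1 s.2
    refine ⟨c, hone0 c ?_, by rw [← hc]; exact hsz⟩
    have h1 : μk.toRingHom ((s : A ⊗[Inv A] (Inv B)) - 1) ∈ I := hs
    rw [map_sub, map_one, hc, show μk.toRingHom ((1 : A) ⊗ₜ[Inv A] c) = algebraMap A B 1 * (c : B) from hμ 1 c,
      map_one, one_mul] at h1
    exact h1
  -- the image
  have hsurj : ∀ b : B, ∃ c : Inv B, x (c : B) = 1 ∧ ∃ z, μ z = (c : B) * b := by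
    intro b
    obtain ⟨c, hc, hcb⟩ := exists_mul_mem_span hG hφ hn hI b
    refine ⟨c, hone0 c hc, ?_⟩
    refine Submodule.span_induction ?_ ⟨0, map_zero _⟩ (fun p q _ _ ⟨s, hs⟩ ⟨t, ht⟩ => ⟨s + t, by rw [map_add, hs, ht]⟩)
      (fun q p _ ⟨s, hs⟩ => ⟨((1 : A) ⊗ₜ[Inv A] q) * s, by
        rw [map_mul, hs, hμ, map_one, one_mul]; rfl⟩) hcb
    rintro _ ⟨a, rfl⟩
    exact ⟨a ⊗ₜ[Inv A] 1, by rw [hμ, OneMemClass.coe_one, mul_one]; rfl⟩
  choose cB hcB hzB using hsurj
  obtain ⟨TB, hTB⟩ := ‹Algebra.FiniteType A B›.out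
  obtain ⟨TK, hTK⟩ := (IsNoetherian.noetherian (RingHom.ker μk.toRingHom) : (RingHom.ker μk.toRingHom).FG)
  choose! cK hcK hzK using hinj
  let g : Inv B := f * ge * ((∏ z ∈ TK, cK z) * ∏ b ∈ TB, cB b)
  have hTKmem : ∀ z ∈ TK, μ z = 0 := fun z hz => (hTK.le (Ideal.subset_span hz) : z ∈ RingHom.ker μk.toRingHom)
  have hgK : ∀ z ∈ TK, cK z ∣ g := fun z hz =>
    Dvd.dvd.mul_left (Dvd.dvd.mul_right (Finset.dvd_prod_of_mem cK hz) _) _
  have hgB : ∀ b ∈ TB, cB b ∣ g := fun b hb =>
    Dvd.dvd.mul_left (Dvd.dvd.mul_left (Finset.dvd_prod_of_mem cB hb) _) _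
  refine ⟨g, ?_, ⟨ge * ((∏ z ∈ TK, cK z) * ∏ b ∈ TB, cB b), mul_assoc _ _ _⟩, ?_, ?_, ?_⟩
  · let χ : Inv B →+* k := x.toRingHom.comp (Inv B).val.toRingHom
    show χ g ≠ 0
    simp only [g, map_mul, map_prod]
    refine mul_ne_zero (mul_ne_zero hxf fun h => hge ((hm0 ge).2 h)) (mul_ne_zero ?_ ?_)
    · refine Finset.prod_ne_zero_iff.2 fun z hz => ?_
      show x (cK z : B) ≠ 0
      rw [hcK z (hTKmem z hz)]
      exact one_ne_zero
    · refine Finset.prod_ne_zero_iff.2 fun b _ => ?_
      show x (cB b : B) ≠ 0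
      rw [hcB b]
      exact one_ne_zero
  · let rest : Inv B := f * ((∏ z ∈ TK, cK z) * ∏ b ∈ TB, cB b)
    let S1 := Localization.Away ge
    let S2 := Localization.Away (algebraMap (Inv B) S1 rest)
    haveI : Algebra.Etale (Inv A) S1 := hget
    haveI : Algebra.Etale S1 S2 := Algebra.Etale.of_isLocalizationAway (algebraMap (Inv B) S1 rest)
    haveI : Algebra.Etale (Inv A) S2 := Algebra.Etale.comp (Inv A) S1 S2
    haveI : IsLocalization.Away (ge * rest) S2 := IsLocalization.Away.mul' S1 S2 ge rest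
    haveI : IsLocalization.Away g S2 := by
      rwa [show g = ge * rest by simp only [g, rest]; ring]
    exact Algebra.Etale.of_equiv
      (((IsLocalization.algEquiv (Submonoid.powers g) S2 (Localization.Away g)).restrictScalars (Inv A)))
  · intro z hz
    refine ⟨1, ?_⟩
    rw [pow_one]
    have hzmem : z ∈ Ideal.span (TK : Set (A ⊗[Inv A] (Inv B))) :=
      hTK.symm.le (show z ∈ RingHom.ker μk.toRingHom from hz)
    refine (Submodule.span_le (p := LinearMap.ker (LinearMap.mulLeft (A ⊗[Inv A] (Inv B))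
      ((1 : A) ⊗ₜ[Inv A] g)))).2 (fun y hy => ?_) hzmem
    obtain ⟨q, hq⟩ := hgK y hy
    show ((1 : A) ⊗ₜ[Inv A] g) * y = 0
    rw [hq, show (1 : A) ⊗ₜ[Inv A] (cK y * q) = ((1 : A) ⊗ₜ[Inv A] q) * ((1 : A) ⊗ₜ[Inv A] cK y) by
      rw [Algebra.TensorProduct.tmul_mul_tmul, one_mul, mul_comm], mul_assoc, hzK y (hTKmem y hy), mul_zero]
  · have hg : μ ((1 : A) ⊗ₜ[Inv A] g) = (g : B) := by rw [hμ, map_one, one_mul]
    let 𝔖 : Subalgebra A B :=
      { carrier := {b | ∃ (j : ℕ) (z : A ⊗[Inv A] (Inv B)), μ z = (g : B) ^ j * b}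
        mul_mem' := fun {p q} ⟨i, s, hs⟩ ⟨j, t, ht⟩ => ⟨i + j, s * t, by rw [map_mul, hs, ht]; ring⟩
        add_mem' := fun {p q} ⟨i, s, hs⟩ ⟨j, t, ht⟩ =>
          ⟨i + j, ((1 : A) ⊗ₜ[Inv A] g) ^ j * s + ((1 : A) ⊗ₜ[Inv A] g) ^ i * t, by
            rw [map_add, map_mul, map_mul, map_pow, map_pow, hs, ht, hg]
            ring⟩
        algebraMap_mem' := fun a => ⟨0, a ⊗ₜ[Inv A] 1, by
          rw [hμ, OneMemClass.coe_one, mul_one, pow_zero, one_mul]⟩ }
    intro b
    have hle : Algebra.adjoin A (TB : Set B) ≤ 𝔖 := Algebra.adjoin_le fun y hy => by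
      obtain ⟨q, hq⟩ := hgB y hy
      obtain ⟨z, hz⟩ := hzB y
      exact ⟨1, ((1 : A) ⊗ₜ[Inv A] q) * z, by
        rw [map_mul, hz, hμ, map_one, one_mul, pow_one, hq, MulMemClass.coe_mul]; ring⟩
    exact hle (hTB.symm.le trivial)

end LunaLib

end
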