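import Mathlib
import Groth.Agent.LunaLib.Fundamental
import Groth.Agent.LunaLib.Points

/-! # The fundamental lemma for abstract rings of invariants -/

set_option autoImplicit false
set_option maxHeartbeats 1000000
set_option synthInstance.maxHeartbeats 400000

noncomputable section

open TensorProduct HopfRep
open scoped ComodLib

namespace LunaLib

universe u

variable {k : Type u} [Field k] {H : Type u} [CommRing H] [HopfAlgebra k H]
  {S : Type u} [CommRing S] [Algebra k S] [Comod k H S] [GLin.IsCoactAlg k H S]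
  {R : Type u} [CommRing R] [Algebra k R] [Comod k H R] [GLin.IsCoactAlg k H R]
  [Algebra S R] [IsScalarTower k S R]

theorem isComodHom_toAlgHom
    (hequiv : ∀ s : S, Comod.coact (k := k) (A := H) (algebraMap S R s) =
      Algebra.TensorProduct.map (IsScalarTower.toAlgHom k S R) (AlgHom.id k H) (Comod.coact (k := k) (A := H) s)) :
    Hoch.IsComodHom H (IsScalarTower.toAlgHom k S R).toLinearMap := by
  refine LinearMap.ext fun s => (hequiv s).trans ?_
  show _ = (IsScalarTower.toAlgHom k S R).toLinearMap.rTensor H (Comod.coact (k := k) (A := H) s)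
  generalize Comod.coact (k := k) (A := H) s = z
  induction z with
  | zero => simp
  | add a b ha hb => simp only [map_add, ha, hb]
  | tmul a b => simp

variable [Algebra.FiniteType S R] [IsNoetherianRing S] [IsNoetherianRing R]
  {S₀ : Type u} [CommRing S₀] [Algebra k S₀] [Algebra S₀ S] [IsScalarTower k S₀ S]
  {R₀ : Type u} [CommRing R₀] [Algebra k R₀] [Algebra R₀ R] [IsScalarTower k R₀ R]
  [Algebra S₀ R₀] [Algebra S₀ R] [IsScalarTower S₀ S R] [IsScalarTower S₀ R₀ R]

/-- The fundamental lemma, for rings isomorphic to the rings of invariants. -/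
theorem core (hG : IsLinearlyReductive k H)
    (hS₀i : Function.Injective (algebraMap S₀ S))
    (hS₀ : (IsScalarTower.toAlgHom k S₀ S).range = GLin.invariants k H S)
    (hR₀i : Function.Injective (algebraMap R₀ R))
    (hR₀ : (IsScalarTower.toAlgHom k R₀ R).range = GLin.invariants k H R)
    (hφ : Hoch.IsComodHom H (IsScalarTower.toAlgHom k S R).toLinearMap)
    {x : R →ₐ[k] k} (hy : GLin.IsClosedOrbit k H (x.comp (IsScalarTower.toAlgHom k S R)))
    (hst : GLin.stabIdeal k H x ≤ GLin.stabIdeal k H (x.comp (IsScalarTower.toAlgHom k S R)))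
    {f : GLin.invariants k H R} (hxf : x (f : R) ≠ 0)
    (hf : Algebra.FormallyEtale S (Localization.Away (f : R))) :
    ∃ g : R₀, x (algebraMap R₀ R g) ≠ 0 ∧ Algebra.Etale S₀ (Localization.Away g) ∧
      Algebra.FormallyEtale S (Localization.Away (algebraMap R₀ R g)) ∧
      (∀ z : S ⊗[S₀] R₀, Algebra.TensorProduct.productMap (IsScalarTower.toAlgHom S₀ S R)
          (IsScalarTower.toAlgHom S₀ R₀ R) z = 0 →
        ∃ n : ℕ, ((1 : S) ⊗ₜ[S₀] g) ^ n * z = 0) ∧
      (∀ r : R, ∃ (n : ℕ) (z : S ⊗[S₀] R₀), Algebra.TensorProduct.productMap (IsScalarTower.toAlgHom S₀ S R)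
          (IsScalarTower.toAlgHom S₀ R₀ R) z = algebraMap R₀ R g ^ n * r) := by
  classical
  let eS : S₀ ≃ₐ[k] GLin.invariants k H S :=
    (AlgEquiv.ofInjective (IsScalarTower.toAlgHom k S₀ S) hS₀i).trans (Subalgebra.equivOfEq _ _ hS₀)
  let eR : R₀ ≃ₐ[k] GLin.invariants k H R :=
    (AlgEquiv.ofInjective (IsScalarTower.toAlgHom k R₀ R) hR₀i).trans (Subalgebra.equivOfEq _ _ hR₀)
  have heS : ∀ a, (eS a : S) = algebraMap S₀ S a := fun a => rfl
  have heR : ∀ a, (eR a : R) = algebraMap R₀ R a := fun a => rfl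
  letI : Algebra (GLin.invariants k H S) (GLin.invariants k H R) :=
    ((eR.toRingEquiv.toRingHom).comp ((algebraMap S₀ R₀).comp eS.symm.toRingEquiv.toRingHom)).toAlgebra
  have hψ : ∀ a : GLin.invariants k H S,
      algebraMap (GLin.invariants k H S) (GLin.invariants k H R) a = eR (algebraMap S₀ R₀ (eS.symm a)) :=
    fun a => rfl
  have hψ' : ∀ a : GLin.invariants k H S,
      ((algebraMap (GLin.invariants k H S) (GLin.invariants k H R) a : GLin.invariants k H R) : R) =
        algebraMap S R (a : S) := fun a => by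
    rw [hψ, heR, ← IsScalarTower.algebraMap_apply, IsScalarTower.algebraMap_apply S₀ S R, ← heS,
      eS.apply_symm_apply]
  haveI : IsScalarTower (GLin.invariants k H S) (GLin.invariants k H R) R :=
    IsScalarTower.of_algebraMap_eq fun a => (hψ' a).symm
  haveI := hf
  obtain ⟨g, hxg, hfg, hget, hinj, hsurj⟩ := fundamental hG hφ hy hst hxf
  have hgR : algebraMap R₀ R (eR.symm g) = (g : R) := by rw [← heR, eR.apply_symm_apply]
  refine ⟨eR.symm g, by rw [hgR]; exact hxg, ?_, ?_, ?_, ?_⟩
  · let E : Localization.Away g ≃+* Localization.Away (eR.symm g) :=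
      IsLocalization.ringEquivOfRingEquiv _ _ eR.symm.toRingEquiv (M := Submonoid.powers g)
        (T := Submonoid.powers (eR.symm g)) (Submonoid.map_powers _ _)
    rw [← RingHom.etale_algebraMap]
    have h1 : (algebraMap (GLin.invariants k H S) (Localization.Away g)).Etale := RingHom.etale_algebraMap.2 hget
    have h2 := RingHom.Etale.respectsIso.2 _ eS.toRingEquiv (RingHom.Etale.respectsIso.1 _ E h1)
    refine (show _ = algebraMap S₀ (Localization.Away (eR.symm g)) from RingHom.ext fun a => ?_) ▸ h2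
    show E (algebraMap (GLin.invariants k H S) (Localization.Away g) (eS a)) = _
    rw [IsScalarTower.algebraMap_apply (GLin.invariants k H S) (GLin.invariants k H R) (Localization.Away g),
      IsLocalization.ringEquivOfRingEquiv_eq, IsScalarTower.algebraMap_apply S₀ R₀ (Localization.Away (eR.symm g))]
    refine congrArg _ ?_
    show eR.symm (algebraMap (GLin.invariants k H S) (GLin.invariants k H R) (eS a)) = _
    rw [hψ, eR.symm_apply_apply, eS.symm_apply_apply]
  · rw [hgR]
    refine Algebra.basicOpen_subset_etaleLocus_iff.1 fun Q hQ => ?_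
    obtain ⟨q, hq⟩ := hfg
    refine (Algebra.basicOpen_subset_etaleLocus_iff (R := S) (f := (f : R))).2 hf (fun hfQ => hQ ?_)
    show (g : R) ∈ Q.asIdeal
    rw [hq, MulMemClass.coe_mul]
    exact Q.asIdeal.mul_mem_right _ hfQ
  all_goals
    let W := S ⊗[GLin.invariants k H S] (GLin.invariants k H R)
    let μ0 := Algebra.TensorProduct.productMap (IsScalarTower.toAlgHom S₀ S R) (IsScalarTower.toAlgHom S₀ R₀ R)
    let μ := Algebra.TensorProduct.productMap (IsScalarTower.toAlgHom (GLin.invariants k H S) S R)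
      (IsScalarTower.toAlgHom (GLin.invariants k H S) (GLin.invariants k H R) R)
    let τ : S ⊗[S₀] R₀ →ₐ[k] W := liftPair
      (Algebra.TensorProduct.includeLeft : S →ₐ[k] W)
      ((Algebra.TensorProduct.includeRight : GLin.invariants k H R →ₐ[GLin.invariants k H S] W).toRingHom.comp
        eR.toRingEquiv.toRingHom)
      (fun a => by
        show algebraMap (GLin.invariants k H S) S (eS a) ⊗ₜ[GLin.invariants k H S] (1 : GLin.invariants k H R) =
          (1 : S) ⊗ₜ[GLin.invariants k H S] eR (algebraMap S₀ R₀ a)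
        rw [Algebra.TensorProduct.tmul_one_eq_one_tmul, hψ, eS.symm_apply_apply])
    let σ : W →ₐ[k] S ⊗[S₀] R₀ := liftPair
      (Algebra.TensorProduct.includeLeft : S →ₐ[k] S ⊗[S₀] R₀)
      ((Algebra.TensorProduct.includeRight : R₀ →ₐ[S₀] S ⊗[S₀] R₀).toRingHom.comp eR.symm.toRingEquiv.toRingHom)
      (fun a => by
        show (a : S) ⊗ₜ[S₀] (1 : R₀) = (1 : S) ⊗ₜ[S₀] eR.symm (eR (algebraMap S₀ R₀ (eS.symm a)))
        rw [eR.symm_apply_apply, ← Algebra.TensorProduct.tmul_one_eq_one_tmul, ← heS, eS.apply_symm_apply])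
    have hτ : ∀ s c, τ (s ⊗ₜ[S₀] c) = s ⊗ₜ[GLin.invariants k H S] eR c := fun s c => by
      refine (liftPair_tmul _ _ _ s c).trans ?_
      show (s ⊗ₜ[GLin.invariants k H S] (1 : GLin.invariants k H R)) * ((1 : S) ⊗ₜ[GLin.invariants k H S] eR c) = _
      rw [Algebra.TensorProduct.tmul_mul_tmul, mul_one, one_mul]
    have hσ : ∀ s c, σ (s ⊗ₜ[GLin.invariants k H S] c) = s ⊗ₜ[S₀] eR.symm c := fun s c => by
      refine (liftPair_tmul _ _ _ s c).trans ?_
      show (s ⊗ₜ[S₀] (1 : R₀)) * ((1 : S) ⊗ₜ[S₀] eR.symm c) = _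
      rw [Algebra.TensorProduct.tmul_mul_tmul, mul_one, one_mul]
  · intro z hz
    have e : ∀ t, μ (τ t) = μ0 t := fun t => by
      induction t using TensorProduct.induction_on with
      | zero => simp
      | add p q hp hq => simp only [map_add, hp, hq]
      | tmul s c => simp [μ, μ0, hτ, heR]
    have e' : ∀ t, σ (τ t) = t := fun t => by
      induction t using TensorProduct.induction_on with
      | zero => simp
      | add p q hp hq => simp only [map_add, hp, hq]
      | tmul s c => rw [hτ, hσ, eR.symm_apply_apply]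
    obtain ⟨n, hn⟩ := hinj (τ z) ((e z).trans hz)
    refine ⟨n, ?_⟩
    have h := congrArg σ hn
    rwa [map_mul, map_pow, hσ, e', map_zero] at h
  · intro r
    have e : ∀ t, μ0 (σ t) = μ t := fun t => by
      induction t using TensorProduct.induction_on with
      | zero => simp
      | add p q hp hq => simp only [map_add, hp, hq]
      | tmul s c => simp [μ, μ0, hσ, ← heR]
    obtain ⟨n, z, hz⟩ := hsurj r
    exact ⟨n, σ z, by rw [hgR]; exact (e z).trans hz⟩

end LunaLib

end
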