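import Mathlib
import Groth.Agent.LunaLib.Core
import Groth.Agent.LunaLib.Normal

/-! # Stabilisers near a closed orbit

Near a closed orbit every stabiliser is conjugate to a subgroup of the stabiliser of that orbit. -/

set_option autoImplicit false
set_option maxHeartbeats 2000000
set_option synthInstance.maxHeartbeats 400000

noncomputable section

open TensorProduct HopfRep WithConv MvPolynomial
open scoped ComodLib

namespace LunaLib.Pts

universe u

/-- A prime of a tensor product outside a good element comes from the target. -/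
theorem exists_prime_of_away {W B : Type u} [CommRing W] [CommRing B] (μ : W →+* B) (t : W)
    (hker : ∀ z, μ z = 0 → ∃ n : ℕ, t ^ n * z = 0) (hsurj : ∀ b, ∃ (n : ℕ) (z : W), μ z = μ t ^ n * b)
    (P : Ideal W) [P.IsPrime] (ht : t ∉ P) : ∃ Q : Ideal B, Q.IsPrime ∧ μ t ∉ Q ∧ ∀ z, μ z ∈ Q ↔ z ∈ P := by
  let Bt := Localization.Away (μ t)
  let Wt := Localization.Away t
  let Ψ : Wt →+* Bt := IsLocalization.Away.map Wt Bt μ t
  have hbij : Function.Bijective Ψ := by
    refine ⟨(IsLocalization.Away.map_injective_iff _ _ _).2 hker,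
      (IsLocalization.Away.map_surjective_iff _ _ _ _).2 fun b => ?_⟩
    obtain ⟨n, z, hz⟩ := hsurj b
    exact ⟨z, n, hz⟩
  obtain ⟨P', hP'⟩ : (⟨P, inferInstance⟩ : PrimeSpectrum W) ∈
      Set.range (PrimeSpectrum.comap (algebraMap W Wt)) := by
    rw [PrimeSpectrum.localization_away_comap_range Wt t]
    exact ht
  let eΨ := RingEquiv.ofBijective Ψ hbij
  let Q : Ideal B := (P'.asIdeal.comap eΨ.symm.toRingHom).comap (algebraMap B Bt)
  have hQ : ∀ z, μ z ∈ Q ↔ z ∈ P := by
    intro z
    have h0 : Ψ (algebraMap W Wt z) = algebraMap B Bt (μ z) := IsLocalization.map_eq _ z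
    have h1 : eΨ.symm (algebraMap B Bt (μ z)) = algebraMap W Wt z := eΨ.symm_apply_eq.2 h0.symm
    show eΨ.symm (algebraMap B Bt (μ z)) ∈ P'.asIdeal ↔ _
    rw [h1]
    have h2 := congrArg PrimeSpectrum.asIdeal hP'
    exact ⟨fun hz => h2.le hz, fun hz => h2.ge hz⟩
  exact ⟨Q, Ideal.comap_isPrime _ _, fun h => ht ((hQ t).1 h), hQ⟩

/-- Two primes over the same prime have a common prime in the tensor product. -/
theorem exists_prime_tensor {O B C : Type u} [CommRing O] [CommRing B] [CommRing C] [Algebra O B] [Algebra O C]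
    (P : Ideal B) [P.IsPrime] (q : Ideal C) [q.IsPrime]
    (h : P.comap (algebraMap O B) = q.comap (algebraMap O C)) :
    ∃ W : Ideal (B ⊗[O] C), W.IsPrime ∧ (∀ b, b ⊗ₜ[O] (1 : C) ∈ W ↔ b ∈ P) ∧
      ∀ c, (1 : B) ⊗ₜ[O] c ∈ W ↔ c ∈ q := by
  let P₀ := P.comap (algebraMap O B)
  haveI : P₀.IsPrime := Ideal.comap_isPrime _ P
  let jP := Ideal.ResidueField.map P₀ P (algebraMap O B) rfl
  let jq := Ideal.ResidueField.map P₀ q (algebraMap O C) h
  letI : Algebra P₀.ResidueField P.ResidueField := jP.toAlgebra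
  letI : Algebra P₀.ResidueField q.ResidueField := jq.toAlgebra
  let T := P.ResidueField ⊗[P₀.ResidueField] q.ResidueField
  haveI : Nontrivial T := (Algebra.TensorProduct.includeLeft_injective (S := P₀.ResidueField)
    (A := P.ResidueField) (B := q.ResidueField) (algebraMap P₀.ResidueField q.ResidueField).injective).nontrivial
  obtain ⟨M, hM⟩ := Ideal.exists_maximal T
  letI := Ideal.Quotient.field M
  let a : P.ResidueField →+* T ⧸ M := (Ideal.Quotient.mk M).comp
    (Algebra.TensorProduct.includeLeftRingHom : P.ResidueField →+* T)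
  let b : q.ResidueField →+* T ⧸ M := (Ideal.Quotient.mk M).comp
    (Algebra.TensorProduct.includeRight : q.ResidueField →ₐ[P₀.ResidueField] T).toRingHom
  let a' : B →+* T ⧸ M := a.comp (algebraMap B P.ResidueField)
  let b' : C →+* T ⧸ M := b.comp (algebraMap C q.ResidueField)
  have hcompat : ∀ o : O, a' (algebraMap O B o) = b' (algebraMap O C o) := fun o => by
    show a (algebraMap B P.ResidueField (algebraMap O B o)) = b (algebraMap C q.ResidueField (algebraMap O C o))
    rw [← Ideal.ResidueField.map_algebraMap P₀ P (algebraMap O B) rfl o,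
      ← Ideal.ResidueField.map_algebraMap P₀ q (algebraMap O C) h o]
    exact congrArg (Ideal.Quotient.mk M) (Algebra.TensorProduct.tmul_one_eq_one_tmul _)
  letI : Algebra O (T ⧸ M) := (b'.comp (algebraMap O C)).toAlgebra
  let χ : B ⊗[O] C →ₐ[O] T ⧸ M := Algebra.TensorProduct.productMap
    ({ a' with commutes' := hcompat } : B →ₐ[O] T ⧸ M) ({ b' with commutes' := fun _ => rfl } : C →ₐ[O] T ⧸ M)
  refine ⟨RingHom.ker χ, RingHom.ker_isPrime _, fun x => ?_, fun y => ?_⟩
  · rw [RingHom.mem_ker, show χ (x ⊗ₜ[O] (1 : C)) = a' x * b' 1 from Algebra.TensorProduct.productMap_apply_tmul _ _ x 1,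
      map_one, mul_one, show a' x = a (algebraMap B P.ResidueField x) from rfl, map_eq_zero_iff _ a.injective]
    exact Ideal.algebraMap_residueField_eq_zero
  · rw [RingHom.mem_ker, show χ ((1 : B) ⊗ₜ[O] y) = a' 1 * b' y from Algebra.TensorProduct.productMap_apply_tmul _ _ 1 y,
      map_one, one_mul, show b' y = b (algebraMap C q.ResidueField y) from rfl, map_eq_zero_iff _ b.injective]
    exact Ideal.algebraMap_residueField_eq_zero

attribute [local instance] trivComod trivIsCoactAlg

local notation "σ" => GLinFinLib.Zmt.actHom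

/-- Stabilisers near a closed orbit are conjugate to subgroups of its stabiliser. -/
theorem exists_invariant_stab {k : Type u} [Field k] [IsAlgClosed k] [CharZero k]
    {A : Type u} [CommRing A] [IsDomain A] [HopfAlgebra k A] [Algebra.FiniteType k A] (hG : IsLinearlyReductive k A)
    {R : Type u} [CommRing R] [Algebra k R] [Algebra.FiniteType k R] [Comod k A R] [GLin.IsCoactAlg k A R]
    (x : R →ₐ[k] k) (hx : GLin.IsClosedOrbit k A x) :
    ∃ f ∈ GLin.invariants k A R, x f ≠ 0 ∧ ∀ x' : R →ₐ[k] k, x' f ≠ 0 →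
      ∃ g : A →ₐ[k] k, GLin.stabIdeal k A x ≤ GLin.stabIdeal k A (GLin.actPt k g x') := by
  classical
  obtain ⟨gen, hgenR⟩ := (inferInstance : Algebra.FiniteType k R).out
  obtain ⟨r, uu, m, hgv, hu, hmul, hone⟩ := GLinFinLib.exists_closed_family (k := k) (H := A) gen
  letI := GLinFinLib.polyComod (k := k) (A := k) m hmul hone
  haveI : GLin.IsCoactAlg k A (MvPolynomial (Fin r) k) :=
    ⟨map_one (GLinFinLib.polyCoact (k := k) (A := k) m), map_mul (GLinFinLib.polyCoact (k := k) (A := k) m)⟩
  let π : MvPolynomial (Fin r) k →ₐ[k] R := MvPolynomial.aeval uu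
  have hπX : ∀ i, π (X i) = uu i := fun i => MvPolynomial.aeval_X _ _
  have hπs : Function.Surjective π := by
    rw [← AlgHom.range_eq_top, eq_top_iff, ← hgenR, Algebra.adjoin_le_iff, ← Algebra.adjoin_range_eq_range_aeval]
    intro z hz
    have h1 : Submodule.span k (Set.range uu) ≤ Subalgebra.toSubmodule (Algebra.adjoin k (Set.range uu)) :=
      Submodule.span_le.2 fun y hy => Algebra.subset_adjoin hy
    exact h1 (hgv z hz)
  have hπc : Hoch.IsComodHom A π.toLinearMap := by
    have h : (GLin.coactAlgHom k A R).comp π =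
        (Algebra.TensorProduct.map π (AlgHom.id k A)).comp (GLinFinLib.polyCoact (k := k) (A := k) m) := by
      refine MvPolynomial.algHom_ext fun i => ?_
      rw [AlgHom.comp_apply, AlgHom.comp_apply, hπX, GLin.coactAlgHom_apply, hu, GLinFinLib.polyCoact_X, map_sum]
      simp [hπX]
    refine LinearMap.ext fun z => (AlgHom.congr_fun h z).trans ?_
    show _ = π.toLinearMap.rTensor A (GLinFinLib.polyCoact (k := k) (A := k) m z)
    rw [AlgHom.comp_apply]
    generalize GLinFinLib.polyCoact (k := k) (A := k) m z = w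
    induction w using TensorProduct.induction_on with
    | zero => simp
    | add p q hp hq => simp only [map_add, hp, hq]
    | tmul p q => simp
  -- the orbit
  let C : Subalgebra k A := (GLin.orbitHom k A x).range
  have hCsub : IsSubcomod (k := k) (A := A) C.toSubmodule :=
    (ComodLib.isSubcomod_iff _).2 fun f c hc => stable_range x f c hc
  have hs := surjective_of_isClosedOrbit x hx
  haveI : Algebra.FiniteType k C :=
    Algebra.FiniteType.of_surjective (GLin.orbitHom k A x).rangeRestrict (AlgHom.rangeRestrict_surjective _)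
  haveI := smooth_of_stable hCsub hs
  obtain ⟨cC, _, hval⟩ := exists_subalgComod (A := A) C hCsub
  letI := cC
  let v : Fin r → C := fun i => (GLin.orbitHom k A x).rangeRestrict (uu i)
  have hinjC : Function.Injective (C.val.toLinearMap.rTensor A) :=
    Module.Flat.rTensor_preserves_injective_linearMap _ Subtype.val_injective
  have hv : ∀ i, Comod.coact (k := k) (A := A) (v i) = ∑ j, v j ⊗ₜ[k] m j i := fun i => hinjC (by
    refine (LinearMap.congr_fun hval (v i)).symm.trans ?_
    show Comod.coact (k := k) (A := A) ((GLin.orbitHom k A x).toLinearMap (uu i)) = _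
    rw [← LinearMap.comp_apply, GLinFinLib.isComodHom_orbitHom x, LinearMap.comp_apply, hu, map_sum, map_sum]
    rfl)
  have hgen : Function.Surjective (MvPolynomial.aeval (R := k) v) := by
    intro c
    obtain ⟨r', hr'⟩ := AlgHom.rangeRestrict_surjective (GLin.orbitHom k A x) c
    obtain ⟨p, rfl⟩ := hπs r'
    refine ⟨p, ?_⟩
    rw [← hr']
    refine AlgHom.congr_fun (MvPolynomial.algHom_ext fun i => ?_ :
      (MvPolynomial.aeval (R := k) v) = (GLin.orbitHom k A x).rangeRestrict.comp π) p
    rw [MvPolynomial.aeval_X, AlgHom.comp_apply, hπX]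
  let x₀ : C →ₐ[k] k := (Bialgebra.counitAlgHom k A).comp C.val
  have hx₀v : ∀ i, x₀ (v i) = x (uu i) := fun i => GLinFinLib.counit_orbitHom x (uu i)
  have hx₀σ : ∀ (g : A →ₐ[k] k) (c : C), x₀ (σ g c) = g (c : A) := fun g c => by
    show Bialgebra.counitAlgHom k A (C.val (σ g c)) = _
    rw [actHom_natural hval, Bialgebra.counitAlgHom_apply, counit_actHom]
    rfl
  obtain ⟨B, hBr, hBk, hBc, hBa, φ, inc, e, hBft, hφ, hinc, heinc, heφ, hefix, het⟩ :=
    exists_normalBundle hG v m hmul hone hv hgen x₀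
  letI := hBr
  letI := hBk
  letI := hBc
  haveI := hBa
  haveI := hBft
  letI : Algebra (MvPolynomial (Fin r) k) B := φ.toRingHom.toAlgebra
  haveI : IsScalarTower k (MvPolynomial (Fin r) k) B := IsScalarTower.of_algebraMap_eq fun c => (φ.commutes c).symm
  have eφ : IsScalarTower.toAlgHom k (MvPolynomial (Fin r) k) B = φ := AlgHom.ext fun _ => rfl
  haveI : IsNoetherianRing B := Algebra.FiniteType.isNoetherianRing k B
  haveI : Algebra.FiniteType (MvPolynomial (Fin r) k) B := Algebra.FiniteType.of_restrictScalars_finiteType k _ B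
  let y : MvPolynomial (Fin r) k →ₐ[k] k := e.comp φ
  have hxπ : x.comp π = y := MvPolynomial.algHom_ext fun i => by
    rw [AlgHom.comp_apply, hπX, AlgHom.comp_apply, heφ, hx₀v]
  have horb : GLin.orbitHom k A y = (GLin.orbitHom k A x).comp π := MvPolynomial.algHom_ext fun i => by
    rw [AlgHom.comp_apply, hπX, GLinFinLib.orbitHom_apply, GLinFinLib.orbitHom_apply, hu,
      show Comod.coact (k := k) (A := A) (X i : MvPolynomial (Fin r) k) =
        ∑ l, (X l : MvPolynomial (Fin r) k) ⊗ₜ[k] m l i from GLinFinLib.polyCoact_X _ _]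
    simp [y, heφ, hx₀v]
  have hrange : (GLin.orbitHom k A y).range = C := by
    ext a
    constructor
    · rintro ⟨p, rfl⟩
      exact ⟨π p, (AlgHom.congr_fun horb p).symm⟩
    · rintro ⟨r', rfl⟩
      obtain ⟨p, rfl⟩ := hπs r'
      exact ⟨p, AlgHom.congr_fun horb p⟩
  have hyc : GLin.IsClosedOrbit k A y := isClosedOrbit_of_surjective y (by rw [hrange]; exact hs)
  have hst : GLin.stabIdeal k A e ≤ GLin.stabIdeal k A y := stabIdeal_le e y fun g hg => hefix g fun c => by
    rw [hx₀σ]
    obtain ⟨p, hp⟩ := hrange.ge c.2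
    show g (c : A) = CoalgebraStruct.counit (R := k) (c : A)
    rw [← hp]
    exact (AlgHom.congr_fun hg p).trans (GLinFinLib.counit_orbitHom y p).symm
  have hφ' : Hoch.IsComodHom A (IsScalarTower.toAlgHom k (MvPolynomial (Fin r) k) B).toLinearMap := by
    rw [eφ]; exact hφ
  have hy' : GLin.IsClosedOrbit k A (e.comp (IsScalarTower.toAlgHom k (MvPolynomial (Fin r) k) B)) := by
    rw [eφ]; exact hyc
  have hst' : GLin.stabIdeal k A e ≤
      GLin.stabIdeal k A (e.comp (IsScalarTower.toAlgHom k (MvPolynomial (Fin r) k) B)) := by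
    rw [eφ]; exact hst
  have hec := isClosedOrbit_source hφ' hy' hst'
  have hequiv : ∀ s : MvPolynomial (Fin r) k, Comod.coact (k := k) (A := A) (algebraMap (MvPolynomial (Fin r) k) B s) =
      Algebra.TensorProduct.map (IsScalarTower.toAlgHom k (MvPolynomial (Fin r) k) B) (AlgHom.id k A)
        (Comod.coact (k := k) (A := A) s) := fun s => by
    refine (LinearMap.congr_fun hφ s).trans ?_
    rw [eφ]
    show φ.toLinearMap.rTensor A (Comod.coact (k := k) (A := A) s) = _
    generalize Comod.coact (k := k) (A := A) s = z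
    induction z using TensorProduct.induction_on with
    | zero => simp
    | add p q hp hq => simp only [map_add, hp, hq]
    | tmul p q => simp
  haveI : (RingHom.ker e.toRingHom).IsPrime := RingHom.ker_isPrime _
  obtain ⟨fe, hfe, hEt⟩ := exists_invariant_etale hG hequiv e hec (RingHom.ker e.toRingHom) rfl het
  haveI := hEt
  let T₀ := GLin.invariants k A (MvPolynomial (Fin r) k)
  let B₀ := GLin.invariants k A B
  letI : Algebra T₀ B₀ := ((φ.comp T₀.val).codRestrict B₀ fun a => map_invariant hφ a.2).toRingHom.toAlgebra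
  haveI : IsScalarTower T₀ B₀ B := IsScalarTower.of_algebraMap_eq fun a => rfl
  obtain ⟨g, heg, -, hget, hker, hsurj⟩ := fundamental hG hφ' hy' hst' hfe
  -- the image of the etale neighbourhood
  let Bg := Localization.Away g
  have hopen : IsOpen (Set.range (PrimeSpectrum.comap (algebraMap T₀ Bg))) :=
    (PrimeSpectrum.isOpenMap_comap_of_hasGoingDown_of_finitePresentation (R := T₀) (S := Bg)).isOpen_range
  let q₀ : Ideal B₀ := RingHom.ker (e.toRingHom.comp B₀.val.toRingHom)
  haveI : q₀.IsPrime := RingHom.ker_isPrime _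
  have hmem : PrimeSpectrum.comap (algebraMap T₀ B₀) ⟨q₀, inferInstance⟩ ∈
      Set.range (PrimeSpectrum.comap (algebraMap T₀ Bg)) := by
    have h1 : (⟨q₀, inferInstance⟩ : PrimeSpectrum B₀) ∈ Set.range (PrimeSpectrum.comap (algebraMap B₀ Bg)) := by
      rw [PrimeSpectrum.localization_away_comap_range Bg g]
      exact heg
    obtain ⟨p, hp⟩ := h1
    refine ⟨p, ?_⟩
    rw [IsScalarTower.algebraMap_eq T₀ B₀ Bg, PrimeSpectrum.comap_comp_apply, hp]
  obtain ⟨_, ⟨_, ⟨F, rfl⟩, rfl⟩, hFy, hFsub⟩ :=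
    PrimeSpectrum.isBasis_basic_opens.exists_subset_of_mem_open hmem hopen
  refine ⟨π (F : MvPolynomial (Fin r) k), map_invariant hπc F.2, ?_, fun x' hx' => ?_⟩
  · rw [← AlgHom.comp_apply, hxπ]
    exact hFy
  -- a point of the neighbourhood over the image of `x'`
  let p : MvPolynomial (Fin r) k →ₐ[k] k := x'.comp π
  haveI : (RingHom.ker p.toRingHom).IsPrime := RingHom.ker_isPrime _
  have hFp : (⟨(RingHom.ker p.toRingHom).comap (algebraMap T₀ (MvPolynomial (Fin r) k)),
      Ideal.comap_isPrime _ _⟩ : PrimeSpectrum T₀) ∈ (PrimeSpectrum.basicOpen F : Set (PrimeSpectrum T₀)) := hx'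
  obtain ⟨P', hP'⟩ := hFsub hFp
  let q : Ideal B₀ := P'.asIdeal.comap (algebraMap B₀ Bg)
  haveI : q.IsPrime := Ideal.comap_isPrime _ _
  have hgq : g ∉ q := fun h => P'.2.ne_top (Ideal.eq_top_of_isUnit_mem _ h (IsLocalization.Away.algebraMap_isUnit g))
  have hPq : (RingHom.ker p.toRingHom).comap (algebraMap T₀ (MvPolynomial (Fin r) k)) =
      q.comap (algebraMap T₀ B₀) := by
    have h1 := congrArg PrimeSpectrum.asIdeal hP'
    rw [PrimeSpectrum.comap_asIdeal, IsScalarTower.algebraMap_eq T₀ B₀ Bg, ← Ideal.comap_comap] at h1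
    exact h1.symm
  obtain ⟨W, hW, hWp, hWq⟩ := exists_prime_tensor (RingHom.ker p.toRingHom) q hPq
  let μ := Algebra.TensorProduct.productMap (IsScalarTower.toAlgHom T₀ (MvPolynomial (Fin r) k) B)
    (IsScalarTower.toAlgHom T₀ B₀ B)
  have hμ : ∀ a c, μ (a ⊗ₜ[T₀] c) = φ a * (c : B) := fun a c =>
    Algebra.TensorProduct.productMap_apply_tmul _ _ a c
  have hμg : μ ((1 : MvPolynomial (Fin r) k) ⊗ₜ[T₀] g) = (g : B) := by rw [hμ, map_one, one_mul]
  obtain ⟨Q, hQ, hgQ, hQW⟩ := exists_prime_of_away μ.toRingHom ((1 : MvPolynomial (Fin r) k) ⊗ₜ[T₀] g) hker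
    (fun b => by
      obtain ⟨n, z, hz⟩ := hsurj b
      exact ⟨n, z, by rw [show μ.toRingHom ((1 : MvPolynomial (Fin r) k) ⊗ₜ[T₀] g) = (g : B) from hμg]; exact hz⟩)
    W fun h => hgq ((hWq g).1 h)
  haveI : IsJacobsonRing B := isJacobsonRing_of_finiteType (A := k)
  obtain ⟨M, ⟨hQM, hM⟩, hgM⟩ : ∃ M : Ideal B, (Q ≤ M ∧ M.IsMaximal) ∧ (g : B) ∉ M := by
    by_contra hcon
    push Not at hcon
    have hj : (g : B) ∈ Q.jacobson := Ideal.mem_sInf.2 fun M hM => hcon M hM
    rw [← Ideal.radical_eq_jacobson, hQ.radical] at hj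
    exact hgQ (hμg.symm ▸ hj)
  obtain ⟨e₁, he₁⟩ := GLinFinLib.exists_point_of_le k hM.ne_top
  have hker₁ : RingHom.ker e₁ = M := (hM.eq_of_le (RingHom.ker_ne_top _) he₁).symm
  have he₁g : e₁ (g : B) ≠ 0 := fun h => hgM (hker₁.le h)
  have he₁p : ∀ t, e₁ (φ t) = p t := by
    intro t
    have h1 : φ (t - algebraMap k _ (p t)) ∈ Q := by
      have h2 : (t - algebraMap k _ (p t)) ⊗ₜ[T₀] (1 : B₀) ∈ W := (hWp _).2 (by
        show p (t - algebraMap k _ (p t)) = 0
        simp)
      have h3 := (hQW _).2 h2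
      rwa [show μ.toRingHom ((t - algebraMap k _ (p t)) ⊗ₜ[T₀] (1 : B₀)) = φ (t - algebraMap k _ (p t)) from
        (hμ _ _).trans (by rw [OneMemClass.coe_one, mul_one])] at h3
    have h4 := he₁ (hQM h1)
    rwa [RingHom.mem_ker, map_sub, map_sub, AlgHom.commutes, AlgHom.commutes, sub_eq_zero] at h4
  -- move it to the slice through `x`
  obtain ⟨gh, hgh⟩ := exists_point_lift hs (e₁.comp inc)
  let hi : A →ₐ[k] k := gh.comp (HopfAlgebra.antipodeAlgHom k A)
  let x'' := GLin.actPt k hi x'
  let e'' := GLin.actPt k hi e₁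
  have he''φ : ∀ t, e'' (φ t) = x'' (π t) := fun t => by
    show GLin.actPt k hi e₁ (φ t) = GLin.actPt k hi x' (π t)
    rw [actPt_eq, actPt_eq, ← actHom_natural hφ, he₁p, ← actHom_natural hπc]
    rfl
  have he''inc : ∀ c, e'' (inc c) = x₀ c := fun c => by
    show GLin.actPt k hi e₁ (inc c) = _
    rw [actPt_eq, ← actHom_natural hinc, ← AlgHom.comp_apply, ← hgh]
    show gh (C.val (σ hi c)) = x₀ c
    rw [actHom_natural hval, ← counit_actHom gh, actHom_inv]
    rfl
  refine ⟨hi, stabIdeal_le x x'' fun w hw => ?_⟩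
  have hz : GLin.actPt k w e'' = e'' := by
    have hT : ∀ t, GLin.actPt k w e'' (φ t) = e'' (φ t) := fun t => by
      rw [actPt_eq, ← actHom_natural hφ, he''φ, actHom_natural hπc, ← actPt_eq, hw, he''φ]
    have hc : ∀ c : B₀, GLin.actPt k w e'' (c : B) = e'' (c : B) := fun c => by
      rw [actPt_eq, actHom_invariant w c.2]
    have hg0 : e'' (g : B) ≠ 0 := by
      show GLin.actPt k hi e₁ (g : B) ≠ 0
      rw [actPt_eq, actHom_invariant hi g.2]
      exact he₁g
    refine AlgHom.ext fun b => ?_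
    obtain ⟨n, z, hz⟩ := hsurj b
    have hmu : ∀ t, GLin.actPt k w e'' (μ t) = e'' (μ t) := fun t => by
      induction t using TensorProduct.induction_on with
      | zero => simp
      | add p q hp hq => simp only [map_add, hp, hq]
      | tmul a c => rw [hμ, map_mul, map_mul, hT, hc]
    have h1 := hmu z
    rw [show μ z = (g : B) ^ n * b from hz, map_mul, map_mul, map_pow, map_pow, hc] at h1
    exact mul_left_cancel₀ (pow_ne_zero n hg0) h1
  refine AlgHom.ext fun r' => ?_
  let c : C := (GLin.orbitHom k A x).rangeRestrict r'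
  have h1 : x₀ (σ w c) = x₀ c := by
    rw [← he''inc, ← he''inc, actHom_natural hinc, ← actPt_eq, hz]
  rw [hx₀σ] at h1
  exact h1.trans (GLinFinLib.counit_orbitHom x r')

end LunaLib.Pts

end
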